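import Mathlib.GroupTheory.Perm.Basic
import Mathlib.Data.Fintype.Pi
import Cfsg.Agent.Lib.Spor.EightPlusStandard.Data
import Cfsg.Agent.Lib.Lie.PermNine

/-!
Monomial automorphisms of the root system in coordinates: a code has one digit for each coordinate, the image
coordinate together with a sign read at the source.
-/

set_option autoImplicit false
set_option maxRecDepth 100000
set_option maxHeartbeats 0
set_option Elab.async false

namespace Cfsg.Agent.Spor.EightPlusStd

open Cfsg.Agent.Lie.PermNine (pg)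

/-- A digit of a code. -/
def dig (x j : ℕ) : ℕ := (x >>> (4 * j)) % 16

/-- The code with given digits. -/
def mk (f : ℕ → ℕ) : ℕ :=
  f 0 + 16 * (f 1 + 16 * (f 2 + 16 * (f 3 + 16 * (f 4 + 16 * (f 5 + 16 * (f 6 + 16 * f 7))))))

theorem dig_lt (x j : ℕ) : dig x j < 16 := Nat.mod_lt _ (by norm_num)

theorem dig_mk (f : ℕ → ℕ) (hf : ∀ k, f k < 16) (j : Fin 8) : dig (mk f) j = f j := by
  have := hf 0; have := hf 1; have := hf 2; have := hf 3; have := hf 4; have := hf 5; have := hf 6; have := hf 7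
  fin_cases j <;> simp only [dig, mk, Nat.shiftRight_eq_div_pow] <;> norm_num <;> omega

theorem xor_lt16 {a b : ℕ} (ha : a < 16) (hb : b < 16) : a ^^^ b < 16 :=
  Nat.xor_lt_two_pow (n := 4) (by simpa using ha) (by simpa using hb)

/-- The product of two codes. -/
def cmul (x y : ℕ) : ℕ := mk fun j => dig x (dig y j % 8) ^^^ dig y j / 8 * 8

theorem dig_cmul (x y : ℕ) (j : Fin 8) : dig (cmul x y) j = dig x (dig y j % 8) ^^^ dig y j / 8 * 8 := by
  refine dig_mk _ (fun k => xor_lt16 (dig_lt _ _) ?_) j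
  have := dig_lt y k
  omega

/-- The code of one. -/
def cOne : ℕ := mk fun j => j

/-- The code of the negation. -/
def cNeg : ℕ := mk fun j => j + 8

/-- Apply the sign of a digit to a coordinate. -/
def flipD (q d : ℕ) : ℕ := if q < 8 then d else 4 - d

theorem flip_flip : ∀ q s : Fin 16, ∀ d : Fin 5,
    flipD ((q : ℕ) ^^^ (s : ℕ) / 8 * 8) d = flipD q (flipD s d) ∧
      ((q : ℕ) ^^^ (s : ℕ) / 8 * 8) % 8 = (q : ℕ) % 8 := by decide +kernel

/-- A coordinate of a root. -/
def co (i : Fin 240) (j : ℕ) : ℕ := dig (Dat.vecN.getD i 0) j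

theorem co_lt : ∀ i : Fin 240, ∀ j : Fin 8, co i j < 5 := by decide +kernel

/-- The root with given coordinates is unique. -/
theorem co_inj_aux : ((List.finRange 240).map fun i => mk (co i)).Nodup := by decide +kernel

theorem co_inj {a b : Fin 240} (h : ∀ j : Fin 8, co a j = co b j) : a = b := by
  refine List.inj_on_of_nodup_map co_inj_aux (List.mem_finRange a) (List.mem_finRange b) ?_
  simp only [mk]
  rw [show co a 0 = co b 0 from h 0, show co a 1 = co b 1 from h 1, show co a 2 = co b 2 from h 2,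
    show co a 3 = co b 3 from h 3, show co a 4 = co b 4 from h 4, show co a 5 = co b 5 from h 5,
    show co a 6 = co b 6 from h 6, show co a 7 = co b 7 from h 7]

/-- A permutation of the roots has a code. -/
def Has (x : ℕ) (a : Fin 240 → Fin 240) : Prop :=
  ∀ i : Fin 240, ∀ j : Fin 8, co (a i) (dig x j % 8) = flipD (dig x j) (co i j)

instance (x : ℕ) (a : Fin 240 → Fin 240) : Decidable (Has x a) :=
  inferInstanceAs (Decidable (∀ i : Fin 240, ∀ j : Fin 8, _))

theorem has_one : Has cOne id := by decide +kernel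

theorem Has.mul {x y : ℕ} {a b : Equiv.Perm (Fin 240)} (ha : Has x a) (hb : Has y b) :
    Has (cmul x y) ⇑(a * b) := by
  intro i j
  have hs := dig_lt y j
  have hq := dig_lt x (dig y j % 8)
  obtain ⟨h1, h2⟩ := flip_flip ⟨_, hq⟩ ⟨_, hs⟩ ⟨co i j, co_lt i j⟩
  rw [dig_cmul, h1, h2, Equiv.Perm.mul_apply]
  have h := ha (b i) ⟨dig y j % 8, Nat.mod_lt _ (by norm_num)⟩
  simp only at h ⊢
  rw [h, hb i j]

/-- All coordinates are image coordinates. -/
def Full (x : ℕ) : Prop := ∀ k : Fin 8, ∃ j : Fin 8, dig x j % 8 = k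

instance (x : ℕ) : Decidable (Full x) := inferInstanceAs (Decidable (∀ k : Fin 8, ∃ j : Fin 8, _))

theorem Has.ext {x : ℕ} (hx : Full x) {a b : Fin 240 → Fin 240} (ha : Has x a) (hb : Has x b) : a = b := by
  funext i
  refine co_inj fun k => ?_
  obtain ⟨j, hj⟩ := hx k
  rw [← hj, ha i j, hb i j]

/-- Whether a code fixes a root. -/
def fixB (x : ℕ) (i : Fin 240) : Bool :=
  (List.finRange 8).all fun j => Nat.beq (co i (dig x j % 8)) (flipD (dig x j) (co i j))

theorem Has.fix_iff {x : ℕ} (hx : Full x) {a : Fin 240 → Fin 240} (ha : Has x a) (i : Fin 240) :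
    a i = i ↔ fixB x i = true := by
  simp only [fixB, List.all_eq_true, List.mem_finRange, true_imp_iff, Nat.beq_eq]
  refine ⟨fun h j => ?_, fun h => co_inj fun k => ?_⟩
  · have := ha i j
    rwa [h] at this
  · obtain ⟨j, hj⟩ := hx k
    rw [← hj, ha i j, h j]

/-- The number of roots fixed by a code. -/
def fixN (x : ℕ) : ℕ := ((List.finRange 240).filter (fixB x)).length

/-! ### The data -/

/-- A stored permutation. -/
def datN (k : ℕ) : ℕ × ℕ × Bool × List ℕ := Dat.permN.getD k (0, 0, false, [])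

theorem dat_inv : ∀ k : Fin 91, ∀ i : Fin 240, pg (datN k).1 i < 240 ∧ pg (datN k).2.1 i < 240 ∧
    pg (datN k).2.1 (pg (datN k).1 i) = i ∧ pg (datN k).1 (pg (datN k).2.1 i) = i := by decide +kernel

/-- A stored permutation of the roots. -/
def dat (k : Fin 91) : Equiv.Perm (Fin 240) :=
  ⟨fun i => ⟨pg (datN k).1 i, (dat_inv k i).1⟩, fun i => ⟨pg (datN k).2.1 i, (dat_inv k i).2.1⟩,
    fun i => Fin.ext (dat_inv k i).2.2.1, fun i => Fin.ext (dat_inv k i).2.2.2⟩

/-- A stored code. -/
def cd (k : ℕ) : ℕ := Dat.codeN.getD k 0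

theorem dat_has : ∀ k : Fin 86, Has (cd k) (dat ⟨k, k.isLt.trans (by norm_num)⟩) := by decide +kernel

theorem cd_full : ∀ k : Fin 86, Full (cd k) := by decide +kernel

end Cfsg.Agent.Spor.EightPlusStd
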