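import Cfsg.Agent.Lib.Spor.EightPlusStandard.Weyl
import Cfsg.Agent.S2098
import Mathlib.Algebra.Group.Shrink
import Mathlib.Data.Countable.Small

/-!
Every double cover of the simple group is the group of permutations of the roots: the three twisted projections
have the three different kernels of order two.
-/

set_option autoImplicit false
set_option maxRecDepth 100000
set_option maxHeartbeats 1000000
set_option Elab.async false

noncomputable section

namespace Cfsg.Agent.Spor.EightPlusStd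

open Cfsg.Agent.Lie Cfsg.Agent.Lie.PermCover Cfsg.Agent.Lie.OEightTwoMult
open Cfsg.Agent.Lie.PermNine (pg pmul)
open scoped commutatorElement

theorem liftC_inv : ∀ s : Fin 4, ∀ i : Fin 240, pg (Dat.liftCN.getD s (0, 0)).1 i < 240 ∧
    pg (Dat.liftCN.getD s (0, 0)).2 i < 240 ∧
    pg (Dat.liftCN.getD s (0, 0)).2 (pg (Dat.liftCN.getD s (0, 0)).1 i) = i ∧
    pg (Dat.liftCN.getD s (0, 0)).1 (pg (Dat.liftCN.getD s (0, 0)).2 i) = i := by decide +kernel

/-- The third lifts on roots. -/
def liftC (s : Fin 4) : Equiv.Perm (Fin 240) :=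
  ⟨fun i => ⟨pg (Dat.liftCN.getD s (0, 0)).1 i, (liftC_inv s i).1⟩,
    fun i => ⟨pg (Dat.liftCN.getD s (0, 0)).2 i, (liftC_inv s i).2.1⟩,
    fun i => Fin.ext (liftC_inv s i).2.2.1, fun i => Fin.ext (liftC_inv s i).2.2.2⟩

theorem liftC_pairs : ∀ s : Fin 4, ∀ p : Fin 120, ∀ e : Fin 2, ∀ i : Fin 240, (i : ℕ) = 2 * p + e →
    liftC s (ng i) = ng (liftC s i) ∧ (liftC s i : ℕ) / 2 = imgP twinP ((twinWord s).map Fin.val) p := by
  decide +kernel

theorem liftC_adj : ∀ s : Fin 4, ((List.finRange 240).all fun i => (List.finRange 240).all fun j =>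
    !Adj i j || Adj (liftC s i) (liftC s j)) = true := by decide +kernel

theorem over_liftC (s : Fin 4) : Over (liftC s) (phi (tau (tau (qgen s)))) := by
  have hw : tau (qgen s) = ((twinWord s).map qgen).prod := phi_inj (Equiv.ext fun k => Fin.ext (by
    rw [phi_tau, psi_rep s k, rep_word qgen_rep, twinWord_ok]))
  rw [phi_tau, hw]
  have hd : ∀ i : Fin 240, ∃ e : Fin 2, (i : ℕ) = 2 * (pairF i : ℕ) + e := fun i =>
    ⟨⟨(i : ℕ) % 2, Nat.mod_lt _ (by norm_num)⟩, (Nat.div_add_mod _ 2).symm⟩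
  refine ⟨fun i => Fin.ext ?_, fun i => ?_, fun i j h => ?_⟩
  · obtain ⟨e, he⟩ := hd i
    rw [rep_word psi_rep]
    exact (liftC_pairs s (pairF i) e i he).2
  · obtain ⟨e, he⟩ := hd i
    exact (liftC_pairs s (pairF i) e i he).1
  · have := List.all_eq_true.1 (List.all_eq_true.1 (liftC_adj s) i (List.mem_finRange i)) j (List.mem_finRange j)
    simpa [h] using this

/-- The third lifts. -/
def lC (s : Fin 4) : X := ⟨liftC s, _, over_liftC s⟩

theorem pr_lC (s : Fin 4) : pr (lC s) = tau (tau (qgen s)) := pr_eq (over_liftC s)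

theorem lC_coe (s : Fin 4) : ((lC s : X) : Equiv.Perm (Fin 240)) = liftC s := rfl

theorem xy_three : (∀ i, ((pairX11.map liftC).prod * (pairY11.map liftC).prod) i =
      ((pairY11.map liftC).prod * (pairX11.map liftC).prod) i) ∧
    ∀ i, ((pairX01.map liftC).prod * (pairY01.map liftC).prod) i =
      (negP * ((pairY01.map liftC).prod * (pairX01.map liftC).prod)) i := by decide +kernel

/-- The commutator of two words. -/
def wcomm {D : Type*} [Group D] (d : Fin 4 → D) (u v : List (Fin 4)) : D :=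
  (u.map d).prod * (v.map d).prod * ((u.map d).prod)⁻¹ * ((v.map d).prod)⁻¹

theorem wcomm_eval {D : Type*} [Group D] (f : D →* X) (π : X →* Q) (d : Fin 4 → D) (l : Fin 4 → X)
    (hπ : ∀ x, π x = 1 → x = 1 ∨ x = negX) (h : ∀ s, π (f (d s)) = π (l s)) {e : X} (u v : List (Fin 4))
    (he : (u.map l).prod * (v.map l).prod = e * ((v.map l).prod * (u.map l).prod)) : f (wcomm d u v) = e := by
  have key : ∀ w : List (Fin 4), ∃ c : X, (∀ b : X, b * c = c * b) ∧ f (w.map d).prod = c * (w.map l).prod := by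
    intro w
    refine ⟨f (w.map d).prod * ((w.map l).prod)⁻¹, ?_, by group⟩
    have hk : π (f (w.map d).prod * ((w.map l).prod)⁻¹) = 1 := by
      rw [map_mul, map_inv, mul_inv_eq_one, map_list_prod, map_list_prod, map_list_prod, List.map_map,
        List.map_map, List.map_map]
      exact congrArg List.prod (List.map_congr_left fun s _ => h s)
    rcases hπ _ hk with e | e <;> rw [e]
    · exact fun b => by rw [mul_one, one_mul]
    · exact negX_comm
  obtain ⟨c, hc, h1⟩ := key u
  obtain ⟨c', hc', h2⟩ := key v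
  rw [wcomm, map_mul, map_mul, map_mul, map_inv, map_inv, h1, h2]
  generalize (u.map l).prod = P at he ⊢
  generalize (v.map l).prod = R at he ⊢
  calc c * P * (c' * R) * (c * P)⁻¹ * (c' * R)⁻¹ = c * (P * c') * R * P⁻¹ * c⁻¹ * R⁻¹ * c'⁻¹ := by group
    _ = c * (c' * P) * R * P⁻¹ * c⁻¹ * R⁻¹ * c'⁻¹ := by rw [hc' P]
    _ = c * c' * (P * R) * (P⁻¹ * c⁻¹ * R⁻¹) * c'⁻¹ := by group
    _ = c * c' * (e * (R * P)) * (P⁻¹ * c⁻¹ * R⁻¹) * c'⁻¹ := by rw [he]
    _ = c * (c' * e) * (R * c⁻¹) * R⁻¹ * c'⁻¹ := by group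
    _ = c * (c' * e) * (c⁻¹ * R) * R⁻¹ * c'⁻¹ := by
        rw [Commute.inv_right (show Commute R c from hc R)]
    _ = c * (c' * e) * c⁻¹ * c'⁻¹ := by group
    _ = (c' * e) * c * c⁻¹ * c'⁻¹ := by rw [hc (c' * e)]
    _ = c' * e * c'⁻¹ := by group
    _ = e * c' * c'⁻¹ := by rw [hc' e]
    _ = e := by group

theorem word_split (l : Fin 4 → X) (u v : List (Fin 4))
    (h : (u.map l).prod * (v.map l).prod = (v.map l).prod * (u.map l).prod) :
    (u.map l).prod * (v.map l).prod = 1 * ((v.map l).prod * (u.map l).prod) := by rw [one_mul, h]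

theorem X_isPerf : Group.IsPerfect X := X_isPerfect

/-- A double cover of the simple group is the group on the roots. -/
theorem exists_equiv_stem {Γ : Type} [Group Γ] [Finite Γ] (σ : Γ →* Q) (hs : Cfsg.IsStemExtension σ)
    (hk : Nat.card σ.ker = 2) : Nonempty (Γ ≃* X) := by
  have hQ : Group.IsPerfect Q := Group.isPerfect_def.2 Q_perfect
  let p1 : X →* Q := tau.symm.toMonoidHom.comp pr
  let p2 : X →* Q := tau.symm.toMonoidHom.comp p1
  have hp1 : ∀ x, p1 x = 1 → pr x = 1 := fun x h => tau.symm.injective (h.trans (map_one _).symm)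
  have hp2 : ∀ x, p2 x = 1 → pr x = 1 := fun x h => hp1 x (tau.symm.injective (h.trans (map_one _).symm))
  obtain ⟨D1, iD1, fD1, f0, f1, hD1, hf0, hc1, hz1⟩ := Solv.exists_common_cover hQ X_isPerf pr pr_surj
    pr_stem.2.1 p1 (tau.symm.surjective.comp pr_surj) fun x hx => pr_stem.2.1 (hp1 x hx)
  obtain ⟨D2, iD2, fD2, g0, f2, hD2, hg0, hc2, hz2⟩ := Solv.exists_common_cover hQ hD1 (pr.comp f0)
    (pr_surj.comp hf0) hz1 p2 (tau.symm.surjective.comp (tau.symm.surjective.comp pr_surj))
    fun x hx => pr_stem.2.1 (hp2 x hx)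
  obtain ⟨D, iD, fD, h0, f, hD, hh0, hc, hz⟩ := Solv.exists_common_cover hQ hD2 ((pr.comp f0).comp g0)
    ((pr_surj.comp hf0).comp hg0) hz2 σ hs.1 hs.2.1
  obtain ⟨π, hπ⟩ : ∃ π, π = ((pr.comp f0).comp g0).comp h0 := ⟨_, rfl⟩
  have hπs : Function.Surjective π := hπ ▸ ((pr_surj.comp hf0).comp hg0).comp hh0
  have hst : Cfsg.IsStemExtension π := ⟨hπs, hπ ▸ hz, by rw [hD.commutator_eq_top]; exact le_top⟩
  let F0 : D →* X := (f0.comp g0).comp h0
  let F1 : D →* X := (f1.comp g0).comp h0
  let F2 : D →* X := f2.comp h0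
  have e0 : ∀ d, pr (F0 d) = π d := fun d => by rw [hπ]; rfl
  have e1 : ∀ d, p1 (F1 d) = π d := fun d => by rw [hπ]; exact (DFunLike.congr_fun hc1 _).symm
  have e2 : ∀ d, p2 (F2 d) = π d := fun d => by rw [hπ]; exact (DFunLike.congr_fun hc2 _).symm
  have ef : ∀ d, σ (f d) = π d := fun d => by rw [hπ]; exact (DFunLike.congr_fun hc _).symm
  choose d hd using fun s => hπs (qgen s)
  obtain ⟨a, ha⟩ : ∃ a, a = wcomm d pairX01 pairY01 := ⟨_, rfl⟩
  obtain ⟨b, hb⟩ : ∃ b, b = wcomm d pairX11 pairY11 := ⟨_, rfl⟩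
  have q1 : ∀ x, p1 x = 1 → x = 1 ∨ x = negX := fun x h => pr_ker (hp1 x h)
  have q2 : ∀ x, p2 x = 1 → x = 1 ∨ x = negX := fun x h => pr_ker (hp2 x h)
  have l0 : ∀ s, pr (F0 (d s)) = pr (lA s) := fun s => by rw [e0, hd, pr_lA]
  have l1 : ∀ s, p1 (F1 (d s)) = p1 (lB s) := fun s => by
    rw [e1, hd]; exact ((congrArg tau.symm (pr_lB s)).trans (tau.symm_apply_apply _)).symm
  have l2 : ∀ s, p2 (F2 (d s)) = p2 (lC s) := fun s => by
    rw [e2, hd]
    exact ((congrArg (fun q => tau.symm (tau.symm q)) (pr_lC s)).trans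
      (by simp only [MulEquiv.symm_apply_apply])).symm
  have a0 : F0 a = 1 := ha ▸ wcomm_eval F0 pr d lA (fun _ => pr_ker) l0 _ _
    (word_split lA _ _ (word_commute lA liftA lA_coe _ _ xy_two.1))
  have b0 : F0 b = negX := hb ▸ wcomm_eval F0 pr d lA (fun _ => pr_ker) l0 _ _
    (word_negate lA liftA lA_coe _ _ xy_one.1)
  have a1 : F1 a = negX := ha ▸ wcomm_eval F1 p1 d lB q1 l1 _ _ (word_negate lB liftB lB_coe _ _ xy_two.2)
  have b1 : F1 b = negX := hb ▸ wcomm_eval F1 p1 d lB q1 l1 _ _ (word_negate lB liftB lB_coe _ _ xy_one.2)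
  have a2 : F2 a = negX := ha ▸ wcomm_eval F2 p2 d lC q2 l2 _ _ (word_negate lC liftC lC_coe _ _ xy_three.2)
  have b2 : F2 b = 1 := hb ▸ wcomm_eval F2 p2 d lC q2 l2 _ _
    (word_split lC _ _ (word_commute lC liftC lC_coe _ _ xy_three.1))
  have hak : a ∈ π.ker := by rw [MonoidHom.mem_ker, ← e0, a0, map_one]
  have hbk : b ∈ π.ker := by rw [MonoidHom.mem_ker, ← e0, b0, pr_neg]
  have hab : F0 (a * b) = negX ∧ F1 (a * b) = 1 ∧ F2 (a * b) = negX := by
    refine ⟨?_, ?_, ?_⟩ <;> simp only [map_mul, a0, b0, a1, b1, a2, b2, one_mul, mul_one, negX_sq]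
  have ne : ∀ {x : D} (g : D →* X), g x = negX → x ≠ 1 := fun g h e => negX_ne (by rw [← h, e, map_one])
  have hna : a ≠ 1 := ne F1 a1
  have hnb : b ≠ 1 := ne F0 b0
  have hnab : a * b ≠ 1 := ne F0 hab.1
  have hne : a ≠ b := fun e => negX_ne (by rw [← b0, ← e, a0])
  have h4 : Nat.card π.ker ≤ 4 := by
    obtain ⟨m, hm⟩ := (Cfsg.Agent.S2098.result (F := ZMod 2) (ZMod.card 2)).2 D π hst
    calc Nat.card π.ker ≤ Nat.card (Multiplicative (ZMod 2 × ZMod 2)) := Nat.card_le_card_of_surjective m hm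
      _ = 4 := by simp [Nat.card_prod]
  have hall : ∀ x ∈ π.ker, x = 1 ∨ x = a ∨ x = b ∨ x = a * b := by
    classical
    intro x hx
    by_contra hc
    simp only [not_or] at hc
    have hsub : ({1, a, b, a * b, x} : Set D) ⊆ (π.ker : Set D) := by
      intro y hy
      rcases hy with rfl | rfl | rfl | rfl | rfl
      exacts [one_mem _, hak, hbk, mul_mem hak hbk, hx]
    have hcard : ({1, a, b, a * b, x} : Set D).ncard = 5 := by
      rw [Set.ncard_insert_of_notMem, Set.ncard_insert_of_notMem, Set.ncard_insert_of_notMem, Set.ncard_pair]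
      · exact fun e => hc.2.2.2 e.symm
      · simp only [Set.mem_insert_iff, Set.mem_singleton_iff, not_or]
        exact ⟨fun e => hna (mul_eq_right.1 e.symm), fun e => hc.2.2.1 e.symm⟩
      · simp only [Set.mem_insert_iff, Set.mem_singleton_iff, not_or]
        exact ⟨hne, fun e => hnb (mul_eq_left.1 e.symm), fun e => hc.2.1 e.symm⟩
      · simp only [Set.mem_insert_iff, Set.mem_singleton_iff, not_or]
        exact ⟨fun e => hna e.symm, fun e => hnb e.symm, fun e => hnab e.symm, fun e => hc.1 e.symm⟩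
    have := Set.ncard_le_ncard hsub (Set.toFinite _)
    rw [hcard, ← Nat.card_coe_set_eq] at this
    exact absurd (this.trans h4) (by norm_num)
  have hfs : Function.Surjective f := by
    rw [← MonoidHom.range_eq_top, eq_top_iff]
    intro x _
    obtain ⟨y, hy⟩ := hπs (σ x)
    have hxy : (f y)⁻¹ * x ∈ σ.ker := by rw [MonoidHom.mem_ker, map_mul, map_inv, ef, hy, inv_mul_cancel]
    have hcomm : commutator Γ ≤ f.range := by
      rw [commutator_def, Subgroup.commutator_le]
      intro p _ q _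
      obtain ⟨u, hu⟩ := hπs (σ p)
      obtain ⟨v, hv⟩ := hπs (σ q)
      obtain ⟨c, hc', rfl⟩ := CentralTable.exists_central hs.2.1 (x := p) (y := f u) (by rw [ef, hu])
      obtain ⟨w, hw, rfl⟩ := CentralTable.exists_central hs.2.1 (x := q) (y := f v) (by rw [ef, hv])
      refine ⟨⁅u, v⁆, ?_⟩
      rw [map_commutatorElement, commutatorElement_def, commutatorElement_def, mul_inv_rev, mul_inv_rev]
      symm
      calc f u * c * (f v * w) * (c⁻¹ * (f u)⁻¹) * (w⁻¹ * (f v)⁻¹)
          = f u * (c * (f v * w) * c⁻¹) * (f u)⁻¹ * (w⁻¹ * (f v)⁻¹) := by group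
        _ = f u * (f v * w) * (f u)⁻¹ * (w⁻¹ * (f v)⁻¹) := by rw [hc', mul_inv_cancel_right]
        _ = f u * f v * (w * (f u)⁻¹ * w⁻¹) * (f v)⁻¹ := by group
        _ = f u * f v * (f u)⁻¹ * (f v)⁻¹ := by rw [hw, mul_inv_cancel_right]
    obtain ⟨z, hz'⟩ := hcomm (hs.2.2 hxy)
    exact ⟨y * z, by rw [map_mul, hz', mul_inv_cancel_left]⟩
  have hker : ∃ x ∈ π.ker, x ≠ 1 ∧ f x = 1 := by
    by_contra hc
    simp only [not_exists, not_and] at hc
    let g : π.ker →* σ.ker := (f.comp π.ker.subtype).codRestrict σ.ker fun x => (ef _).trans x.2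
    have hg : Function.Injective g := (injective_iff_map_eq_one g).2 fun x hx => by
      by_contra hne1
      exact hc x x.2 (fun e => hne1 (Subtype.ext e)) (congrArg Subtype.val hx)
    have h3 : ({1, a, b} : Set D).ncard = 3 := by
      rw [Set.ncard_insert_of_notMem, Set.ncard_pair hne]
      simp only [Set.mem_insert_iff, Set.mem_singleton_iff, not_or]
      exact ⟨fun e => hna e.symm, fun e => hnb e.symm⟩
    have h5 := Set.ncard_le_ncard (show ({1, a, b} : Set D) ⊆ (π.ker : Set D) from by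
      intro y hy
      rcases hy with rfl | rfl | rfl
      exacts [one_mem _, hak, hbk]) (Set.toFinite _)
    have h6 := Nat.card_le_card_of_injective g hg
    rw [h3, ← Nat.card_coe_set_eq] at h5
    rw [hk] at h6
    exact absurd (h5.trans h6) (by norm_num)
  obtain ⟨x, hx, hx1, hfx⟩ := hker
  obtain ⟨Fk, pk, ek, qk, hkx, hps⟩ : ∃ (Fk : D →* X) (pk : X →* Q), (∀ y, pk (Fk y) = π y) ∧
      (∀ y, pk y = 1 → y = 1 ∨ y = negX) ∧ Fk x = 1 ∧ Function.Surjective pk := by
    rcases hall x hx with h | h | h | h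
    · exact absurd h hx1
    · exact ⟨F0, pr, e0, fun _ => pr_ker, h ▸ a0, pr_surj⟩
    · exact ⟨F2, p2, e2, q2, h ▸ b2, tau.symm.surjective.comp (tau.symm.surjective.comp pr_surj)⟩
    · exact ⟨F1, p1, e1, q1, h ▸ hab.2.1, tau.symm.surjective.comp pr_surj⟩
  -- the kernels agree
  have hFs : Function.Surjective Fk := by
    rw [← MonoidHom.range_eq_top, eq_top_iff, ← X_perfect, commutator_def, Subgroup.commutator_le]
    intro p _ q _
    obtain ⟨u, hu⟩ := hπs (pk p)
    obtain ⟨v, hv⟩ := hπs (pk q)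
    have hcen : pk.ker ≤ Subgroup.center X := fun y hy => by
      rcases qk y hy with rfl | rfl
      exacts [one_mem _, Subgroup.mem_center_iff.2 negX_comm]
    obtain ⟨c, hc', rfl⟩ := CentralTable.exists_central hcen (x := p) (y := Fk u) (by rw [ek, hu])
    obtain ⟨w, hw, rfl⟩ := CentralTable.exists_central hcen (x := q) (y := Fk v) (by rw [ek, hv])
    refine ⟨⁅u, v⁆, ?_⟩
    rw [map_commutatorElement, commutatorElement_def, commutatorElement_def, mul_inv_rev, mul_inv_rev]
    symm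
    calc Fk u * c * (Fk v * w) * (c⁻¹ * (Fk u)⁻¹) * (w⁻¹ * (Fk v)⁻¹)
        = Fk u * (c * (Fk v * w) * c⁻¹) * (Fk u)⁻¹ * (w⁻¹ * (Fk v)⁻¹) := by group
      _ = Fk u * (Fk v * w) * (Fk u)⁻¹ * (w⁻¹ * (Fk v)⁻¹) := by rw [hc', mul_inv_cancel_right]
      _ = Fk u * Fk v * (w * (Fk u)⁻¹ * w⁻¹) * (Fk v)⁻¹ := by group
      _ = Fk u * Fk v * (Fk u)⁻¹ * (Fk v)⁻¹ := by rw [hw, mul_inv_cancel_right]
  have hkeq : f.ker ≤ Fk.ker := by
    intro y hy
    have hy0 : f y = 1 := hy
    have hyk : y ∈ π.ker := by rw [MonoidHom.mem_ker, ← ef, hy0, map_one]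
    by_contra hny
    have hy1 : y ≠ 1 := fun e => hny (e ▸ one_mem _)
    have hyx : y ≠ x := fun e => hny (e ▸ MonoidHom.mem_ker.2 hkx)
    -- two independent kernel elements give everything
    have hgen : ∀ z ∈ π.ker, f z = 1 := by
      have sq : ∀ z ∈ π.ker, z = 1 ∨ z = x ∨ z = y ∨ z = x * y := by
        intro z hz'
        by_contra hc
        simp only [not_or] at hc
        have hsub : ({1, x, y, x * y, z} : Set D) ⊆ (π.ker : Set D) := by
          intro w hw
          rcases hw with rfl | rfl | rfl | rfl | rfl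
          exacts [one_mem _, hx, hyk, mul_mem hx hyk, hz']
        have hxy : x * y ≠ 1 := by
          intro e
          refine hny (MonoidHom.mem_ker.2 ?_)
          rw [show y = x⁻¹ from eq_inv_of_mul_eq_one_right e, map_inv, hkx, inv_one]
        have hcard : ({1, x, y, x * y, z} : Set D).ncard = 5 := by
          rw [Set.ncard_insert_of_notMem, Set.ncard_insert_of_notMem, Set.ncard_insert_of_notMem, Set.ncard_pair]
          · exact fun e => hc.2.2.2 e.symm
          · simp only [Set.mem_insert_iff, Set.mem_singleton_iff, not_or]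
            exact ⟨fun e => hx1 (mul_eq_right.1 e.symm), fun e => hc.2.2.1 e.symm⟩
          · simp only [Set.mem_insert_iff, Set.mem_singleton_iff, not_or]
            exact ⟨fun e => hyx e.symm, fun e => hy1 (mul_eq_left.1 e.symm), fun e => hc.2.1 e.symm⟩
          · simp only [Set.mem_insert_iff, Set.mem_singleton_iff, not_or]
            exact ⟨fun e => hx1 e.symm, fun e => hy1 e.symm, fun e => hxy e.symm, fun e => hc.1 e.symm⟩
        have := Set.ncard_le_ncard hsub (Set.toFinite _)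
        rw [hcard, ← Nat.card_coe_set_eq] at this
        exact absurd (this.trans h4) (by norm_num)
      intro z hz'
      rcases sq z hz' with rfl | rfl | rfl | rfl
      exacts [map_one f, hfx, hy0, by rw [map_mul, hfx, hy0, mul_one]]
    have : σ.ker = ⊥ := by
      rw [eq_bot_iff]
      intro w hw
      obtain ⟨v, rfl⟩ := hfs w
      rw [Subgroup.mem_bot]
      exact hgen v (by rw [MonoidHom.mem_ker, ← ef]; exact hw)
    rw [this, Subgroup.card_bot] at hk
    norm_num at hk
  -- hence an isomorphism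
  let g : Γ →* X := MonoidHom.liftOfSurjective f hfs ⟨Fk, hkeq⟩
  have hg : ∀ y, g (f y) = Fk y := fun y => MonoidHom.liftOfRightInverse_comp_apply _ _ _ _ y
  have hgs : Function.Surjective g := fun w => by
    obtain ⟨y, rfl⟩ := hFs w
    exact ⟨f y, hg y⟩
  have hcardΓ : Nat.card Γ = 2 * 174182400 := by
    rw [← Subgroup.card_mul_index σ.ker, hk, Subgroup.index_ker, MonoidHom.range_eq_top.2 hs.1, Subgroup.card_top, card_Q]
  exact ⟨MulEquiv.ofBijective g (hgs.bijective_of_nat_card_le (by rw [hcardΓ, card_X]))⟩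

/-- The simple group over any field with two elements. -/
theorem exists_iso_Q {F : Type*} [Field F] [Fintype F] (hF : Fintype.card F = 2) :
    Nonempty (Cfsg.POmega F (Cfsg.quadFormPlus 4 F) ≃* Q) := by
  obtain ⟨φ, hφ⟩ := exists_action hF
  have hcard : Nat.card (Cfsg.POmega F (Cfsg.quadFormPlus 4 F)) = 174182400 := by
    have h := Cfsg.Agent.S0293.result hF 4 le_rfl
    norm_num [Finset.prod_range_succ] at h
    exact h
  haveI : Finite (Cfsg.POmega F (Cfsg.quadFormPlus 4 F)) := Nat.finite_of_card_ne_zero (by rw [hcard]; norm_num)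
  obtain ⟨xs, htop, hxs⟩ := gens_exist φ hφ hcard
  have hinj := (model φ hφ hcard).inj
  have key : ∀ g, ∃ q, phi q = φ g := by
    have hH : (phi.range.comap φ) = ⊤ := by
      rw [eq_top_iff, ← htop, Subgroup.closure_le]
      rintro _ ⟨s, rfl⟩
      exact ⟨qgen s, Equiv.ext fun k => Fin.ext ((qgen_rep s k).trans (hxs s k).symm)⟩
    exact fun g => (hH.symm ▸ Subgroup.mem_top g : g ∈ phi.range.comap φ)
  choose f hf using key
  let fh : Cfsg.POmega F (Cfsg.quadFormPlus 4 F) →* Q := MonoidHom.mk' f fun a b => phi_inj (by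
    rw [map_mul, hf, hf, hf, map_mul])
  have hfi : Function.Injective fh := fun a b h => hinj (show φ a = φ b by rw [← hf a, ← hf b]; exact congrArg phi h)
  exact ⟨MulEquiv.ofBijective fh (hfi.bijective_of_nat_card_le (by rw [hcard, card_Q]))⟩

/-- A double cover with the given quotient is the group on the roots. -/
theorem exists_equiv {F : Type*} [Field F] [Fintype F] (hF : Fintype.card F = 2) {L : Type*} [Group L] [Finite L]
    (hL : Group.IsPerfect L) (hZ : Nat.card (Subgroup.center L) = 2)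
    (hLX : Nonempty ((L ⧸ Subgroup.center L) ≃* Cfsg.POmega F (Cfsg.quadFormPlus 4 F))) : Nonempty (L ≃* X) := by
  obtain ⟨e⟩ := hLX
  obtain ⟨e'⟩ := exists_iso_Q hF
  let m : L ≃* Shrink.{0} L := Shrink.mulEquiv.symm
  haveI : Finite (Shrink.{0} L) := Finite.of_equiv L m.toEquiv
  let σ : Shrink.{0} L →* Q :=
    ((e.trans e').toMonoidHom.comp (QuotientGroup.mk' (Subgroup.center L))).comp m.symm.toMonoidHom
  have hker : ∀ x, σ x = 1 ↔ m.symm x ∈ Subgroup.center L := fun x => by
    show (e.trans e') (QuotientGroup.mk (m.symm x)) = 1 ↔ _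
    rw [map_eq_one_iff _ (e.trans e').injective, QuotientGroup.eq_one_iff]
  have hst : Cfsg.IsStemExtension σ := by
    refine ⟨?_, fun x hx => ?_, ?_⟩
    · exact ((e.trans e').surjective.comp (QuotientGroup.mk'_surjective _)).comp m.symm.surjective
    · refine Subgroup.mem_center_iff.2 fun y => m.symm.injective ?_
      rw [map_mul, map_mul, Subgroup.mem_center_iff.1 ((hker x).1 hx)]
    · intro x _
      have h := Subgroup.mem_map_of_mem m.toMonoidHom (hL.commutator_eq_top ▸ Subgroup.mem_top (m.symm x) :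
        m.symm x ∈ commutator L)
      rw [commutator_def, Subgroup.map_commutator, Subgroup.map_top_of_surjective _ m.surjective] at h
      rw [commutator_def]
      simpa using h
  have hk : Nat.card σ.ker = 2 := by
    exact (Nat.card_congr (m.symm.toEquiv.subtypeEquiv fun x => hker x)).trans hZ
  obtain ⟨g⟩ := exists_equiv_stem σ hst hk
  exact ⟨m.trans g⟩

end Cfsg.Agent.Spor.EightPlusStd
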