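import Mathlib.Data.Nat.Bitwise
import Mathlib.Data.List.Basic
import Cfsg.Agent.Lib.Spor.EightPlusStandard.DataOrbit

/-!
Finite checks on linear maps of the frame masks: maps preserving the classes of masks are affine, the affine maps of
two small types do not reach the full mask, and the candidate orbits of the full mask fail two counts.
-/

set_option autoImplicit false
set_option maxRecDepth 100000
set_option maxHeartbeats 1000000
set_option Elab.async false

namespace Cfsg.Agent.Spor.EightPlusStd.Masks

/-- A bit, by primitive operations. -/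
def tb (v i : ℕ) : Bool := Nat.beq (Nat.mod (Nat.shiftRight v i) 2) 1

/-- The image of one coordinate. -/
def bz (c v i : ℕ) : ℕ := bif tb v i then Nat.pow 2 (Nat.mod (Nat.shiftRight c (Nat.mul 4 i)) 16) else 0

/-- The image of a mask under a permutation of eight coordinates, given by its digits. -/
def pe (c v : ℕ) : ℕ :=
  Nat.xor (bz c v 0) (Nat.xor (bz c v 1) (Nat.xor (bz c v 2) (Nat.xor (bz c v 3) (Nat.xor (bz c v 4)
    (Nat.xor (bz c v 5) (Nat.xor (bz c v 6) (bz c v 7)))))))

/-- A lifted affine map. -/
def gfun (t v : ℕ) : ℕ := pe (Dat.affGens.getD t 0) v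

/-- A word in the lifted affine maps. -/
def wfun (w : List ℕ) (v : ℕ) : ℕ := w.foldr gfun v

/-- The parity of a mask. -/
def parM (v : ℕ) : Bool := (List.range 8).foldr (fun j b => xor (v.testBit j) b) false

/-- The domain of masks. -/
def inV (full : Bool) (v : ℕ) : Bool := Nat.blt v 256 && (full || !parM v)

/-- A basis of the masks. -/
def basis : Bool → List ℕ
  | true => [1, 2, 4, 8, 16, 32, 64, 128]
  | false => [3, 5, 9, 17, 33, 65, 129]

/-- The digits of the affine map with a number. -/
def hC (n : ℕ) : ℕ :=
  let b := Nat.mod n 8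
  let x := Nat.mod (Nat.div n 8) 8
  let y := Nat.mod (Nat.div n 64) 8
  let z := Nat.div n 512
  Nat.add b (Nat.mul 16 (Nat.add (Nat.xor b x) (Nat.mul 16 (Nat.add (Nat.xor b y) (Nat.mul 16
    (Nat.add (Nat.xor b (Nat.xor x y)) (Nat.mul 16 (Nat.add (Nat.xor b z) (Nat.mul 16 (Nat.add (Nat.xor b (Nat.xor x z))
      (Nat.mul 16 (Nat.add (Nat.xor b (Nat.xor y z)) (Nat.mul 16 (Nat.xor b (Nat.xor x (Nat.xor y z))))))))))))))))

/-- The number stands for a bijective affine map. -/
def hOK (n : ℕ) : Bool := Nat.blt n 4096 && Nat.beq (pe (hC n) 255) 255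

/-- An affine map, possibly followed by adding the full mask on odd masks. -/
def hfun (n : ℕ) (e : Bool) (v : ℕ) : ℕ := pe (hC n) v ^^^ (bif e && parM v then 255 else 0)

/-- The code words with last coordinate one above a level. -/
def levW : List (List (List ℕ)) :=
  [[], [], [[1, 2, 3]], [], [[1, 4, 5], [2, 3, 4, 5]], [[1, 2, 5, 6], [3, 5, 6], [2, 4, 6], [1, 3, 4, 6]],
   [[1, 6, 7], [2, 5, 7], [1, 3, 5, 7], [2, 3, 6, 7], [4, 5, 6, 7], [1, 2, 4, 7], [3, 4, 7]]]

/-- The code words are respected by one more image. -/
def okAdd (L : List ℕ) (a : ℕ) : Bool :=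
  (levW.getD L.length []).all fun w =>
    tb Dat.maskFour (w.foldr (fun i r => Nat.xor ((L ++ [a]).getD (Nat.pred i) 0) r) 0)

/-- The place of a single bit. -/
def bitI (x : ℕ) : ℕ :=
  Nat.add (bif Nat.beq (Nat.land x 170) 0 then 0 else 1)
    (Nat.add (bif Nat.beq (Nat.land x 204) 0 then 0 else 2) (bif Nat.beq (Nat.land x 240) 0 then 0 else 4))

/-- The number of the affine map read from the images of the pairs. -/
def readN (L : List ℕ) : ℕ :=
  let o := bitI (Nat.land (L.getD 0 0) (L.getD 1 0))
  let im := fun j => Nat.xor (bitI (Nat.xor (L.getD j 0) (Nat.pow 2 o))) o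
  Nat.add o (Nat.add (Nat.mul 8 (im 0)) (Nat.add (Nat.mul 64 (im 1)) (Nat.mul 512 (im 3))))

/-- The leaf of the search. -/
def leafOK (L : List ℕ) : Bool :=
  let n := readN L
  hOK n && (List.range 7).all fun j => Nat.beq (pe (hC n) ((basis false).getD j 0)) (L.getD j 0)

/-- The search through images of the pairs, with the images compatible with those chosen. -/
def dfs : ℕ → List ℕ → List ℕ → Bool
  | 0, L, _ => leafOK L
  | f + 1, L, C => C.all fun a => !okAdd L a || dfs f (L ++ [a]) (C.filter fun b => tb Dat.maskTwo (Nat.xor a b))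

theorem dfs_ok : dfs 7 [] Dat.pairList = true := by decide +kernel

theorem pairList_all : ((List.range 256).all fun v => !Dat.maskTwo.testBit v || Dat.pairList.contains v) = true := by
  decide +kernel

/-- The masks of weight one or seven as a list. -/
def oneSeven : List ℕ := [1, 2, 4, 8, 16, 32, 64, 128, 254, 253, 251, 247, 239, 223, 191, 127]

theorem oneSeven_all : ((List.range 256).all fun v => !Dat.maskOneSeven.testBit v || oneSeven.contains v) = true := by
  decide +kernel

theorem odd_leaf : ((List.range 4096).all fun n => !hOK n || (oneSeven.all fun c =>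
    Nat.beq c (pe (hC n) 1) || Nat.beq c (Nat.xor (pe (hC n) 1) 255) ||
      (basis false).any fun b => !tb Dat.maskOneSeven (Nat.xor c (pe (hC n) b)))) = true := by decide +kernel

theorem basis_facts : (∀ f : Bool, ∀ b ∈ basis f, inV f b = true) ∧ (∀ b ∈ basis false, Dat.maskTwo.testBit b = true) ∧
    Dat.maskOne.testBit 1 = true ∧ (∀ b ∈ basis false, Dat.maskOne.testBit (1 ^^^ b) = true) ∧
    (∀ w ∈ Dat.wordList, Dat.maskFour.testBit (w.foldr (fun i r => (basis false).getD (i - 1) 0 ^^^ r) 0) = true) ∧
    ∀ i < 7, ∀ j < 7, i ≠ j → Dat.maskTwo.testBit ((basis false).getD i 0 ^^^ (basis false).getD j 0) = true := by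
  decide +kernel

theorem basis_descend : ∀ f : Bool, ∀ v : Fin 256, inV f v = true → (v : ℕ) = 0 ∨
    ∃ b ∈ basis f, (v : ℕ) ^^^ b < v ∧ inV f ((v : ℕ) ^^^ b) = true := by decide +kernel

/-- The span of a list of masks. -/
def spanL (L : List ℕ) : List ℕ :=
  L.foldl (fun S a => bif S.contains a then S else S ++ S.map (a ^^^ ·)) [0]

/-- The number of different members of a list of small numbers, with the set as bits. -/
def distinct : List ℕ → ℕ × ℕ
  | [] => (0, 0)
  | a :: L =>
    let p := distinct L
    bif tb p.1 a then p else (Nat.lor p.1 (Nat.pow 2 a), Nat.add p.2 1)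

/-- The size of the image of a linear map plus one. -/
def imgSize (full : Bool) (h : ℕ → ℕ) : ℕ :=
  (distinct (spanL ((basis full).map fun b => h b ^^^ b))).2

/-- The map is involutory on the basis. -/
def invB (full : Bool) (h : ℕ → ℕ) : Bool := (basis full).all fun b => Nat.beq (h (h b)) b

/-- The fourth power is one on the basis. -/
def fourB (full : Bool) (h : ℕ → ℕ) : Bool := (basis full).all fun b => Nat.beq (h (h (h (h b)))) b

/-- The image has at most two members. -/
def twoB (full : Bool) (h : ℕ → ℕ) : Bool :=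
  let D := (basis full).map fun b => h b ^^^ b
  let p := (D.filter fun d => !Nat.beq d 0).getD 0 0
  D.all fun d => Nat.beq d 0 || Nat.beq d p

/-- The full mask is not reached. -/
def missB (full : Bool) (h : ℕ → ℕ) : Bool :=
  !(spanL ((basis full).map fun b => h b ^^^ b)).contains 255

/-- The small types do not reach the full mask, and those with image of size four are transvections. -/
def typesB (full : Bool) (n : ℕ) (e : Bool) : Bool :=
  let h := hfun n e
  bif invB full h then
    twoB full h || Nat.blt 4 (imgSize full h) || ((!e) && Dat.transN.contains n && missB full h)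
  else !fourB full h || Nat.blt 16 (imgSize full h) || missB full h

theorem types_full : ((List.range 4096).all fun n => !hOK n || (typesB true n false && typesB true n true)) = true := by
  decide +kernel

theorem types_even : ((List.range 4096).all fun n => !hOK n || typesB false n false) = true := by decide +kernel

/-- A stored transvection. -/
def tfun (t : ℕ) : ℕ → ℕ := pe (hC (Dat.transN.getD t 0))

theorem trans_word : ∀ t : Fin 42, hOK (Dat.transN.getD t 0) = true ∧ (∀ i ∈ Dat.transW.getD t [], i < 5) ∧
    ∀ b ∈ basis true, wfun (Dat.transW.getD t []) b = tfun t b := by decide +kernel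

theorem trans_type : ∀ f : Bool, ∀ t : Fin 42, invB f (tfun t) = true ∧
    twoB f (tfun t) = false ∧ (spanL ((basis f).map fun b => tfun t b ^^^ b)).length ≤ 4 := by decide +kernel

theorem trans_inj : ∀ f : Bool, ∀ t s : Fin 42, (∀ b ∈ basis f, tfun t b = tfun s b) → t = s := by decide +kernel

theorem trans_fix : ((List.range 42).all fun t => (List.range 256).all fun v =>
    (Dat.transFix.getD t 0).testBit v == Nat.beq (tfun t v) v) = true := by decide +kernel

/-- The witnesses: two maps and the representatives they exclude. -/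
theorem witness : ∀ f : Bool, (∀ i ∈ Dat.witW.getD 0 [] ++ Dat.witW.getD 1 [], i < 5) ∧
    invB f (wfun (Dat.witW.getD 0 [])) = true ∧ twoB f (wfun (Dat.witW.getD 0 [])) = false ∧
    (spanL ((basis f).map fun b => wfun (Dat.witW.getD 0 []) b ^^^ b)).length ≤ 4 ∧
    fourB f (wfun (Dat.witW.getD 1 [])) = true ∧ invB f (wfun (Dat.witW.getD 1 [])) = false ∧
    (spanL ((basis f).map fun b => wfun (Dat.witW.getD 1 []) b ^^^ b)).length ≤ 16 := by decide +kernel

theorem witness_img : (∃ v < 256, parM v = false ∧ wfun (Dat.witW.getD 0 []) v ^^^ v = 3) ∧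
    (∃ v < 256, parM v = false ∧ wfun (Dat.witW.getD 0 []) v ^^^ v = 15) ∧
    (∃ v < 256, parM v = false ∧ wfun (Dat.witW.getD 1 []) v ^^^ v = 63) ∧
    wfun (Dat.witW.getD 0 []) 3 = 3 ∧ wfun (Dat.witW.getD 0 []) 15 = 15 ∧ wfun (Dat.witW.getD 1 []) 63 = 63 := by
  decide +kernel

/-- The class of a mask. -/
def clsI (v : ℕ) : ℕ :=
  ((List.range 8).filter fun i => (Dat.classes.getD i 0).testBit v).getD 0 8

theorem class_lower : ∀ v : Fin 256, (v : ℕ) ≠ 0 → (v : ℕ) ≠ 255 → clsI v < 8 ∧
    ((v : ℕ) = Dat.classReps.getD (clsI v) 0 ∨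
      ∃ w ∈ Dat.lowerWords, (∀ i ∈ w, i < 5) ∧ wfun w v < v ∧ 0 < wfun w v ∧ wfun w v ≠ 255 ∧
        clsI (wfun w v) = clsI v) := by decide +kernel

/-- The classes which can be fused with the full mask after the witnesses. -/
def selI : List ℕ := [0, 2, 4, 5, 7]

/-- The candidate orbit given by a selection of classes. -/
def candO (s : ℕ) : ℕ :=
  (List.range 5).foldr (fun j r => (bif s.testBit j then Dat.classes.getD (selI.getD j 0) 0 else 0) ||| r) (2 ^ 255)

/-- The number of members. -/
def cntO (x : ℕ) : ℕ := ((List.range 256).filter fun v => x.testBit v).length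

/-- The number of translates back into the set. -/
def homO (x p : ℕ) : ℕ := ((List.range 256).filter fun v => x.testBit v && x.testBit (v ^^^ p)).length

/-- A candidate orbit fails a count. -/
def failO (s : ℕ) : Bool :=
  let x := candO s
  let F := cntO (Dat.transFix.getD 0 0 &&& x)
  ((List.range 5).any fun j => s.testBit j && !Nat.beq (homO x (Dat.classReps.getD (selI.getD j 0) 0)) (homO x 255)) ||
    ((List.range 42).all (fun t => Nat.beq (cntO (Dat.transFix.getD t 0 &&& x)) F) &&
      !Nat.beq (42 * cntO x % F) 0)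

theorem cand_fail : ((List.range 32).all fun s => Nat.beq s 0 || failO s) = true := by decide +kernel

theorem candO_bit : ((List.range 32).all fun s => (List.range 256).all fun v =>
    Nat.beq v 0 || ((candO s).testBit v == (Nat.beq v 255 ||
      (List.range 5).any fun j => s.testBit j && Nat.beq (clsI v) (selI.getD j 0)))) = true := by decide +kernel

end Cfsg.Agent.Spor.EightPlusStd.Masks
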