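import Mathlib.GroupTheory.Perm.Basic
import Mathlib.Data.Fintype.Perm
import Mathlib.Algebra.Group.Subgroup.Finite
import Mathlib.Algebra.BigOperators.Group.Finset.Basic
import Mathlib.Tactic.IntervalCases
import Cfsg.Agent.Lib.Spor.EightPlusStandard.OrbitCheck

/-!
A group of linear maps of the frame masks containing the lifted affine maps, in which the stabilizer of the full mask
preserves the classes of masks, fixes the full mask.
-/

set_option autoImplicit false
set_option maxRecDepth 100000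
set_option maxHeartbeats 1000000

namespace Cfsg.Agent.Spor.EightPlusStd.Masks

/-! ### Linear maps on numbers -/

/-- Additive on the masks. -/
def AddV (full : Bool) (f : ℕ → ℕ) : Prop :=
  ∀ a b, inV full a = true → inV full b = true → f (a ^^^ b) = f a ^^^ f b

theorem xor_cancel (a b : ℕ) : a ^^^ (a ^^^ b) = b := by rw [← Nat.xor_assoc, Nat.xor_self, Nat.zero_xor]

theorem xor_four (a b c d : ℕ) : (a ^^^ b) ^^^ (c ^^^ d) = (a ^^^ c) ^^^ (b ^^^ d) := by
  refine Nat.eq_of_testBit_eq fun i => ?_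
  simp only [Nat.testBit_xor]
  cases a.testBit i <;> cases b.testBit i <;> cases c.testBit i <;> cases d.testBit i <;> rfl

theorem parM_xor (v w : ℕ) : parM (v ^^^ w) = xor (parM v) (parM w) := by
  simp only [parM, List.range, List.range.loop, List.foldr, Nat.testBit_xor]
  cases v.testBit 0 <;> cases v.testBit 1 <;> cases v.testBit 2 <;> cases v.testBit 3 <;>
    cases v.testBit 4 <;> cases v.testBit 5 <;> cases v.testBit 6 <;> cases v.testBit 7 <;> simp

theorem inV_iff {full : Bool} {v : ℕ} : inV full v = true ↔ v < 256 ∧ (full = false → parM v = false) := by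
  cases full <;> simp [inV]

theorem inV_lt {full : Bool} {v : ℕ} (h : inV full v = true) : v < 256 := (inV_iff.1 h).1

theorem inV_xor {full : Bool} {a b : ℕ} (ha : inV full a = true) (hb : inV full b = true) :
    inV full (a ^^^ b) = true := by
  rw [inV_iff] at ha hb ⊢
  refine ⟨Nat.xor_lt_two_pow (n := 8) (by simpa using ha.1) (by simpa using hb.1), fun h => ?_⟩
  rw [parM_xor, ha.2 h, hb.2 h]
  rfl

theorem inV_zero (full : Bool) : inV full 0 = true := by cases full <;> decide

theorem inV_full (full : Bool) : inV full 255 = true := by cases full <;> decide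

theorem inV_true {v : ℕ} (h : v < 256) : inV true v = true := inV_iff.2 ⟨h, fun e => Bool.noConfusion e⟩

theorem inV_even {full : Bool} {v : ℕ} (h : v < 256) (hp : parM v = false) : inV full v = true :=
  inV_iff.2 ⟨h, fun _ => hp⟩

theorem AddV.zero {full : Bool} {f : ℕ → ℕ} (hf : AddV full f) : f 0 = 0 := by
  have h := hf 0 0 (inV_zero full) (inV_zero full)
  simp only [Nat.xor_self] at h
  exact h

theorem agree {full : Bool} {f g : ℕ → ℕ} (hf : AddV full f) (hg : AddV full g)
    (h : ∀ b ∈ basis full, f b = g b) : ∀ v, inV full v = true → f v = g v := by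
  intro v
  induction v using Nat.strong_induction_on with
  | _ v ih =>
    intro hv
    rcases basis_descend full ⟨v, inV_lt hv⟩ hv with h0 | ⟨b, hb, h1, h2⟩
    · rw [show v = 0 from h0, hf.zero, hg.zero]
    · have hbV := basis_facts.1 full b hb
      have e : b ^^^ (v ^^^ b) = v := by rw [Nat.xor_comm v b, xor_cancel]
      rw [← e, hf b _ hbV h2, hg b _ hbV h2, h b hb, ih _ h1 h2]

theorem tb_eq (v i : ℕ) : tb v i = v.testBit i := by
  rw [Bool.eq_iff_iff, tb, Nat.beq_eq, Nat.testBit_eq_decide_div_mod_eq, decide_eq_true_iff]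
  show (v >>> i) % 2 = 1 ↔ _
  rw [Nat.shiftRight_eq_div_pow]

theorem bz_xor (c a b i : ℕ) : bz c (a ^^^ b) i = bz c a i ^^^ bz c b i := by
  simp only [bz, tb_eq, Nat.testBit_xor]
  cases a.testBit i <;> cases b.testBit i <;> simp

theorem pe_xor (c a b : ℕ) : pe c (a ^^^ b) = pe c a ^^^ pe c b := by
  show bz c (a ^^^ b) 0 ^^^ (bz c (a ^^^ b) 1 ^^^ (bz c (a ^^^ b) 2 ^^^ (bz c (a ^^^ b) 3 ^^^ (bz c (a ^^^ b) 4 ^^^
      (bz c (a ^^^ b) 5 ^^^ (bz c (a ^^^ b) 6 ^^^ bz c (a ^^^ b) 7)))))) =
    (bz c a 0 ^^^ (bz c a 1 ^^^ (bz c a 2 ^^^ (bz c a 3 ^^^ (bz c a 4 ^^^ (bz c a 5 ^^^ (bz c a 6 ^^^ bz c a 7))))))) ^^^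
    (bz c b 0 ^^^ (bz c b 1 ^^^ (bz c b 2 ^^^ (bz c b 3 ^^^ (bz c b 4 ^^^ (bz c b 5 ^^^ (bz c b 6 ^^^ bz c b 7)))))))
  simp only [bz_xor, xor_four]

theorem hfun_add (full : Bool) (n : ℕ) (e : Bool) : AddV full (hfun n e) := fun a b _ _ => by
  simp only [hfun, pe_xor, parM_xor]
  rw [xor_four (pe (hC n) a)]
  congr 1
  cases e <;> cases parM a <;> cases parM b <;> simp

theorem wfun_xor : ∀ (w : List ℕ) (a b : ℕ), wfun w (a ^^^ b) = wfun w a ^^^ wfun w b
  | [], _, _ => rfl
  | t :: w, a, b => by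
    show gfun t (wfun w (a ^^^ b)) = gfun t (wfun w a) ^^^ gfun t (wfun w b)
    rw [wfun_xor w, gfun, gfun, gfun, pe_xor]

theorem wfun_add (full : Bool) (w : List ℕ) : AddV full (wfun w) := fun a b _ _ => wfun_xor w a b

theorem tfun_add (full : Bool) (t : ℕ) : AddV full (tfun t) := fun a b _ _ => pe_xor _ a b

/-- An involution on the masks. -/
def Inv (full : Bool) (f : ℕ → ℕ) : Prop := ∀ v, inV full v = true → f (f v) = v

/-- The image of the map plus one is small. -/
def Small (full : Bool) (f : ℕ → ℕ) (k : ℕ) : Prop :=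
  ∃ L : List ℕ, L.length ≤ k ∧ ∀ v, inV full v = true → f v ^^^ v ∈ L

theorem spanL_image {full : Bool} {f : ℕ → ℕ} (hf : AddV full f) :
    ∀ L : List ℕ, (∀ a ∈ L, ∃ v, inV full v = true ∧ f v ^^^ v = a) →
      ∀ x ∈ spanL L, ∃ v, inV full v = true ∧ f v ^^^ v = x := by
  suffices h : ∀ L : List ℕ, (∀ a ∈ L, ∃ v, inV full v = true ∧ f v ^^^ v = a) → ∀ S : List ℕ,
      (∀ x ∈ S, ∃ v, inV full v = true ∧ f v ^^^ v = x) →
      ∀ x ∈ L.foldl (fun S a => bif S.contains a then S else S ++ S.map (a ^^^ ·)) S,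
        ∃ v, inV full v = true ∧ f v ^^^ v = x from
    fun L hL => h L hL [0] fun x hx => ⟨0, inV_zero full, by rw [List.mem_singleton.1 hx, hf.zero]; rfl⟩
  intro L
  induction L with
  | nil => exact fun _ S hS => hS
  | cons a L ih =>
    intro hL S hS
    refine ih (fun b hb => hL b (List.mem_cons_of_mem _ hb)) _ ?_
    cases hc : S.contains a with
    | true =>
      simp only [hc, cond_true]
      exact hS
    | false =>
      simp only [hc, cond_false]
      intro x hx
      rcases List.mem_append.1 hx with hx | hx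
      · exact hS x hx
      · obtain ⟨y, hy, rfl⟩ := List.mem_map.1 hx
        obtain ⟨v, hv, e1⟩ := hL a List.mem_cons_self
        obtain ⟨w, hw, e2⟩ := hS y hy
        exact ⟨v ^^^ w, inV_xor hv hw, by rw [hf v w hv hw, ← e1, ← e2, xor_four]⟩

theorem spanL_closed : ∀ L : List ℕ, ∀ x ∈ spanL L, ∀ a ∈ L, a ^^^ x ∈ spanL L ∧ a ∈ spanL L := by
  suffices h : ∀ L : List ℕ, ∀ S : List ℕ, 0 ∈ S → (∀ x ∈ S, ∀ y ∈ S, x ^^^ y ∈ S) →
      let R := L.foldl (fun S a => bif S.contains a then S else S ++ S.map (a ^^^ ·)) S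
      (∀ x ∈ S, x ∈ R) ∧ (∀ a ∈ L, a ∈ R) ∧ ∀ x ∈ R, ∀ y ∈ R, x ^^^ y ∈ R by
    intro L x hx a ha
    obtain ⟨-, h2, h3⟩ := h L [0] List.mem_cons_self (fun x hx y hy => by
      rw [List.mem_singleton.1 hx, List.mem_singleton.1 hy]; simp)
    exact ⟨h3 a (h2 a ha) x hx, h2 a ha⟩
  intro L
  induction L with
  | nil => exact fun S _ h2 => ⟨fun _ h => h, fun _ h => absurd h List.not_mem_nil, h2⟩
  | cons a L ih =>
    intro S h0 h2
    by_cases hc : a ∈ S
    · obtain ⟨i1, i2, i3⟩ := ih S h0 h2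
      simp only [List.foldl_cons, List.contains_iff_mem.2 hc, cond_true]
      refine ⟨i1, fun b hb => ?_, i3⟩
      rcases List.mem_cons.1 hb with rfl | hb
      exacts [i1 _ hc, i2 _ hb]
    · have hm : ∀ x, x ∈ S ++ S.map (a ^^^ ·) ↔ x ∈ S ∨ a ^^^ x ∈ S := fun x => by
        rw [List.mem_append, List.mem_map]
        refine or_congr Iff.rfl ⟨fun ⟨y, hy, e⟩ => e ▸ (xor_cancel a y).symm ▸ hy, fun h => ⟨_, h, xor_cancel a x⟩⟩
      obtain ⟨i1, i2, i3⟩ := ih (S ++ S.map (a ^^^ ·)) (List.mem_append_left _ h0) fun x hx y hy => by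
        rw [hm] at hx hy ⊢
        rcases hx with hx | hx <;> rcases hy with hy | hy
        · exact Or.inl (h2 _ hx _ hy)
        · refine Or.inr ?_
          rw [← Nat.xor_assoc, Nat.xor_comm a x, Nat.xor_assoc]
          exact h2 _ hx _ hy
        · refine Or.inr ?_
          rw [← Nat.xor_assoc]
          exact h2 _ hx _ hy
        · refine Or.inl ?_
          have := h2 _ hx _ hy
          rwa [xor_four, Nat.xor_self, Nat.zero_xor] at this
      simp only [List.foldl_cons, show S.contains a = false by simpa using hc, cond_false]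
      refine ⟨fun x hx => i1 x (List.mem_append_left _ hx), fun b hb => ?_, i3⟩
      rcases List.mem_cons.1 hb with rfl | hb
      exacts [i1 _ ((hm _).2 (Or.inr (by rwa [Nat.xor_self]))), i2 _ hb]

theorem spanL_zero (L : List ℕ) : 0 ∈ spanL L := by
  suffices h : ∀ S : List ℕ, 0 ∈ S → 0 ∈ L.foldl (fun S a => bif S.contains a then S else S ++ S.map (a ^^^ ·)) S from
    h [0] List.mem_cons_self
  induction L with
  | nil => exact fun _ h => h
  | cons a L ih =>
    intro S h
    refine ih _ ?_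
    cases hc : S.contains a <;> simp only [hc, cond_true, cond_false]
    exacts [List.mem_append_left _ h, h]

theorem spanL_mem {full : Bool} {f : ℕ → ℕ} (hf : AddV full f) : ∀ v, inV full v = true →
    f v ^^^ v ∈ spanL ((basis full).map fun b => f b ^^^ b) := by
  intro v
  induction v using Nat.strong_induction_on with
  | _ v ih =>
    intro hv
    have hmem : ∀ b ∈ basis full, f b ^^^ b ∈ (basis full).map fun b => f b ^^^ b := fun b hb =>
      List.mem_map.2 ⟨b, hb, rfl⟩
    rcases basis_descend full ⟨v, inV_lt hv⟩ hv with h0 | ⟨b, hb, h1, h2⟩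
    · obtain ⟨b, hb⟩ : ∃ b, b ∈ basis full := by cases full <;> exact ⟨_, List.mem_cons_self⟩
      have hh := spanL_closed _ _ (spanL_closed _ _ (spanL_zero _) _ (hmem b hb)).2 _ (hmem b hb)
      rw [show v = 0 from h0, hf.zero, Nat.xor_self]
      rw [Nat.xor_self] at hh
      exact hh.1
    · have hbV := basis_facts.1 full b hb
      have e : b ^^^ (v ^^^ b) = v := by rw [Nat.xor_comm v b, xor_cancel]
      have h3 := (spanL_closed _ _ (ih _ h1 h2) _ (hmem b hb)).1
      rwa [xor_four, ← hf b _ hbV h2, e] at h3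

theorem spanL_small {full : Bool} {f : ℕ → ℕ} (hf : AddV full f) :
    Small full f (spanL ((basis full).map fun b => f b ^^^ b)).length :=
  ⟨_, le_rfl, spanL_mem hf⟩

theorem distinct_spec : ∀ L : List ℕ, ∃ N : List ℕ, N.Nodup ∧ (∀ a ∈ N, a ∈ L) ∧ N.length = (distinct L).2 ∧
    ∀ a, tb (distinct L).1 a = true ↔ a ∈ N
  | [] => ⟨[], List.nodup_nil, by simp, rfl, fun a => by simp [distinct, tb_eq]⟩
  | a :: L => by
    obtain ⟨N, h1, h2, h3, h4⟩ := distinct_spec L
    cases h : tb (distinct L).1 a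
    · refine ⟨a :: N, List.nodup_cons.2 ⟨fun hm => ?_, h1⟩, fun b hb => ?_, ?_, fun b => ?_⟩
      · rw [(h4 a).2 hm] at h
        exact Bool.noConfusion h
      · rcases List.mem_cons.1 hb with rfl | hb
        exacts [List.mem_cons_self, List.mem_cons_of_mem _ (h2 b hb)]
      · simp only [distinct, h, cond_false, List.length_cons, h3, Nat.add_eq]
      · simp only [distinct, h, cond_false, tb_eq, List.mem_cons]
        show ((distinct L).1 ||| 2 ^ a).testBit b = true ↔ _
        rw [Nat.testBit_or, Bool.or_eq_true, Nat.testBit_two_pow, decide_eq_true_eq, ← tb_eq, h4, or_comm, eq_comm]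
    · refine ⟨N, h1, fun b hb => List.mem_cons_of_mem _ (h2 b hb), ?_, fun b => ?_⟩
      · simp only [distinct, h, cond_true, h3]
      · simp only [distinct, h, cond_true]
        exact h4 b

theorem imgSize_le {full : Bool} {f : ℕ → ℕ} (hf : AddV full f) {k : ℕ} (h : Small full f k) :
    imgSize full f ≤ k := by
  obtain ⟨L, hL, hmem⟩ := h
  obtain ⟨N, h1, h2, h3, -⟩ := distinct_spec (spanL ((basis full).map fun b => f b ^^^ b))
  rw [imgSize, ← h3]
  refine (List.Subperm.length_le ?_).trans hL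
  refine h1.subperm fun v hv => ?_
  obtain ⟨w, hw, rfl⟩ := spanL_image hf _ (fun a ha => by
    obtain ⟨b, hb, rfl⟩ := List.mem_map.1 ha
    exact ⟨b, basis_facts.1 full b hb, rfl⟩) v (h2 v hv)
  exact hmem w hw

theorem Inv_of_invB {full : Bool} {f : ℕ → ℕ} (hf : AddV full f) (hV : ∀ v, inV full v = true → inV full (f v) = true)
    (h : invB full f = true) : Inv full f := by
  simp only [invB, List.all_eq_true, Nat.beq_eq] at h
  exact agree (g := id) (fun a b ha hb => by rw [hf a b ha hb, hf _ _ (hV a ha) (hV b hb)]) (fun _ _ _ _ => rfl) h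

theorem two_of_twoB {full : Bool} {f : ℕ → ℕ} (hf : AddV full f) (h : twoB full f = true) :
    ∃ p, ∀ v, inV full v = true → f v ^^^ v = 0 ∨ f v ^^^ v = p := by
  simp only [twoB, List.all_eq_true, Bool.or_eq_true, Nat.beq_eq] at h
  generalize ((List.filter (fun d => !Nat.beq d 0) ((basis full).map fun b => f b ^^^ b))).getD 0 0 = p at h
  refine ⟨p, fun v => ?_⟩
  induction v using Nat.strong_induction_on with
  | _ v ih =>
    intro hv
    rcases basis_descend full ⟨v, inV_lt hv⟩ hv with h0 | ⟨b, hb, h1, h2⟩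
    · left
      rw [show v = 0 from h0, hf.zero]
      rfl
    · have hbV := basis_facts.1 full b hb
      have e : b ^^^ (v ^^^ b) = v := by rw [Nat.xor_comm v b, xor_cancel]
      rw [← e, hf b _ hbV h2, xor_four]
      rcases h _ (List.mem_map.2 ⟨b, hb, rfl⟩) with h4 | h4 <;> rcases ih _ h1 h2 with h5 | h5 <;> rw [h4, h5] <;> simp

/-! ### Maps preserving the classes of masks -/

theorem word_range : ∀ w ∈ Dat.wordList, ∀ i ∈ w, 1 ≤ i ∧ i ≤ w.getLastD 0 := by decide +kernel

theorem levW_mem : ∀ k < 7, ∀ w ∈ levW.getD k [], w ∈ Dat.wordList ∧ ∀ i ∈ w, 1 ≤ i ∧ i ≤ k + 1 := by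
  decide +kernel

theorem dfs_sound {a : ℕ → ℕ}
    (hp : ∀ i < 7, ∀ j < 7, i ≠ j → Dat.maskTwo.testBit (a i ^^^ a j) = true)
    (hw : ∀ w ∈ Dat.wordList, Dat.maskFour.testBit (w.foldr (fun i r => a (i - 1) ^^^ r) 0) = true) :
    ∀ f k C, k + f = 7 → (∀ i < 7, k ≤ i → a i ∈ C) → dfs f ((List.range k).map a) C = true →
      leafOK ((List.range 7).map a) = true
  | 0, k, C, e, _, h => by
    rw [show k = 7 by omega] at h
    exact h
  | f + 1, k, C, e, hC, h => by
    simp only [dfs, List.all_eq_true, Bool.or_eq_true, Bool.not_eq_true'] at h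
    have h := h (a k) (hC k (by omega) le_rfl)
    have he : ((List.range k).map a ++ [a k]) = (List.range (k + 1)).map a := by
      rw [List.range_succ, List.map_append]; rfl
    have hok : okAdd ((List.range k).map a) (a k) = true := by
      simp only [okAdd, tb_eq, List.all_eq_true, List.length_map, List.length_range, he]
      intro w hwm
      obtain ⟨hmem, hr⟩ := levW_mem k (by omega) w hwm
      rw [List.foldr_ext (fun i r => Nat.xor (((List.range (k + 1)).map a).getD (Nat.pred i) 0) r)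
        (fun i r => a (i - 1) ^^^ r) 0 fun i hi r => ?_]
      · exact hw w hmem
      · have := hr i hi
        show ((List.range (k + 1)).map a).getD (i - 1) 0 ^^^ r = _
        rw [List.getD_eq_getElem _ _ (by rw [List.length_map, List.length_range]; omega), List.getElem_map,
          List.getElem_range]
    have h := h.resolve_left (by rw [hok]; exact Bool.noConfusion)
    rw [he] at h
    refine dfs_sound hp hw f (k + 1) _ (by omega) (fun i hi hki => ?_) h
    rw [List.mem_filter, tb_eq]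
    exact ⟨hC i hi (by omega), hp k (by omega) i hi (by omega)⟩

/-- The classes of masks are preserved. -/
def Pres (full : Bool) (f : ℕ → ℕ) : Prop :=
  (∀ v < 256, Dat.maskTwo.testBit v = true → Dat.maskTwo.testBit (f v) = true) ∧
    (∀ v < 256, Dat.maskFour.testBit v = true → Dat.maskFour.testBit (f v) = true) ∧
      (full = true → ∀ v < 256, Dat.maskOne.testBit v = true → Dat.maskOneSeven.testBit (f v) = true)

/-- A map preserving the classes is affine, or affine followed by the twist. -/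
theorem affine_of_pres {full : Bool} {f : ℕ → ℕ} (hf : AddV full f)
    (hV : ∀ v, inV full v = true → inV full (f v) = true) (hp : Pres full f) :
    ∃ n, hOK n = true ∧ ∃ e : Bool, (full = false → e = false) ∧ ∀ v, inV full v = true → f v = hfun n e v := by
  obtain ⟨p2, p4, p1⟩ := hp
  have hlow : ∀ b ∈ basis false, b < 256 ∧ parM b = false ∧ inV full b = true := fun b hb => by
    have := inV_iff.1 (basis_facts.1 false b hb)
    exact ⟨this.1, this.2 rfl, inV_even this.1 (this.2 rfl)⟩
  have hmem : ∀ i < 7, (basis false).getD i 0 ∈ basis false := fun i hi => by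
    rw [List.getD_eq_getElem _ _ hi]
    exact List.getElem_mem _
  have hfold : ∀ w : List ℕ, (∀ i ∈ w, 1 ≤ i ∧ i ≤ 7) →
      inV full (w.foldr (fun i r => (basis false).getD (i - 1) 0 ^^^ r) 0) = true ∧
        w.foldr (fun i r => f ((basis false).getD (i - 1) 0) ^^^ r) 0 =
          f (w.foldr (fun i r => (basis false).getD (i - 1) 0 ^^^ r) 0) := by
    intro w hw
    induction w with
    | nil => exact ⟨inV_zero full, hf.zero.symm⟩
    | cons i w ih =>
      obtain ⟨h1, h2⟩ := ih fun j hj => hw j (List.mem_cons_of_mem _ hj)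
      have hi := (hlow _ (hmem (i - 1) (by have := hw i List.mem_cons_self; omega))).2.2
      simp only [List.foldr_cons]
      exact ⟨inV_xor hi h1, by rw [h2, hf _ _ hi h1]⟩
  have hleaf : leafOK ((List.range 7).map fun i => f ((basis false).getD i 0)) = true := by
    refine dfs_sound (fun i hi j hj hne => ?_) (fun w hw => ?_) 7 0 _ rfl (fun i hi _ => ?_) dfs_ok
    · rw [← hf _ _ (hlow _ (hmem i hi)).2.2 (hlow _ (hmem j hj)).2.2]
      exact p2 _ (inV_lt (inV_xor (hlow _ (hmem i hi)).2.2 (hlow _ (hmem j hj)).2.2))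
        (basis_facts.2.2.2.2.2 i hi j hj hne)
    · have hb : ∀ i ∈ w, 1 ≤ i ∧ i ≤ 7 := fun i hi => by
        have h1 := word_range w hw i hi
        have h2 : ∀ w ∈ Dat.wordList, w.getLastD 0 ≤ 7 := by decide +kernel
        have := h2 w hw
        omega
      obtain ⟨h1, h2⟩ := hfold w hb
      rw [h2]
      exact p4 _ (inV_lt h1) (basis_facts.2.2.2.2.1 w hw)
    · have := List.all_eq_true.1 pairList_all _ (List.mem_range.2 (inV_lt (hV _ (hlow _ (hmem i hi)).2.2)))
      rw [p2 _ (hlow _ (hmem i hi)).1 (basis_facts.2.1 _ (hmem i hi))] at this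
      simpa using this
  simp only [leafOK, Bool.and_eq_true, List.all_eq_true, List.mem_range, Nat.beq_eq] at hleaf
  generalize readN ((List.range 7).map fun i => f ((basis false).getD i 0)) = n at hleaf
  obtain ⟨hn, hb⟩ := hleaf
  have hbv : ∀ b ∈ basis false, f b = pe (hC n) b := fun b hb' => by
    obtain ⟨j, hj, rfl⟩ := List.mem_iff_getElem.1 hb'
    have hj7 : j < 7 := hj
    have := hb j hj7
    rw [List.getD_eq_getElem _ _ hj, List.getD_eq_getElem _ _ (by simpa using hj7), List.getElem_map,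
      List.getElem_range, List.getD_eq_getElem _ _ hj] at this
    exact this.symm
  have heven : ∀ v < 256, parM v = false → f v = pe (hC n) v := fun v hv hpv =>
    agree (full := false) (g := pe (hC n))
      (fun a b ha hb' => hf a b (inV_even (inV_lt ha) ((inV_iff.1 ha).2 rfl)) (inV_even (inV_lt hb') ((inV_iff.1 hb').2 rfl)))
      (fun a b _ _ => pe_xor _ a b) hbv v (inV_even hv hpv)
  refine ⟨n, hn, ?_⟩
  cases full with
  | false =>
    refine ⟨false, fun _ => rfl, fun v hv => ?_⟩
    rw [heven v (inV_lt hv) ((inV_iff.1 hv).2 rfl), hfun]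
    simp
  | true =>
    have hn' := hn
    simp only [hOK, Bool.and_eq_true, Nat.blt_eq] at hn'
    have hc1 := p1 rfl 1 (by norm_num) basis_facts.2.2.1
    have h := List.all_eq_true.1 odd_leaf n (List.mem_range.2 hn'.1)
    rw [hn, Bool.not_true, Bool.false_or, List.all_eq_true] at h
    have hmem : f 1 ∈ oneSeven := by
      have := List.all_eq_true.1 oneSeven_all (f 1) (List.mem_range.2 (inV_lt (hV 1 rfl)))
      rw [hc1, Bool.not_true, Bool.false_or, List.contains_iff_mem] at this
      exact this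
    have h := h (f 1) hmem
    simp only [Bool.or_eq_true, Nat.beq_eq, List.any_eq_true, Bool.not_eq_true', tb_eq,
      show ∀ x y : ℕ, Nat.xor x y = x ^^^ y from fun _ _ => rfl] at h
    have hone : ∀ v < 256, parM v = true → f v = f 1 ^^^ pe (hC n) 1 ^^^ pe (hC n) v := fun v hv hpv => by
      have hw : (1 ^^^ v) < 256 := Nat.xor_lt_two_pow (n := 8) (by norm_num) (by simpa using hv)
      have hpw : parM (1 ^^^ v) = false := by rw [parM_xor, hpv]; rfl
      conv_lhs => rw [← xor_cancel 1 v, hf 1 _ rfl (inV_true hw), heven _ hw hpw, pe_xor]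
      rw [Nat.xor_assoc]
    rcases h with (h | h) | ⟨b, hb', hbad⟩
    · refine ⟨false, fun e => Bool.noConfusion e, fun v hv => ?_⟩
      simp only [hfun, Bool.false_and, cond_false, Nat.xor_zero]
      cases hpv : parM v
      · exact heven v (inV_lt hv) hpv
      · rw [hone v (inV_lt hv) hpv, h, Nat.xor_self, Nat.zero_xor]
    · refine ⟨true, fun e => Bool.noConfusion e, fun v hv => ?_⟩
      simp only [hfun, Bool.true_and]
      cases hpv : parM v
      · rw [heven v (inV_lt hv) hpv]
        simp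
      · rw [hone v (inV_lt hv) hpv, h, Nat.xor_comm (pe (hC n) 1) 255, Nat.xor_assoc 255, Nat.xor_self, Nat.xor_zero,
          Nat.xor_comm]
        simp
    · exfalso
      obtain ⟨hb1, hb2⟩ := hlow b hb'
      have h1 := p1 rfl (1 ^^^ b) (Nat.xor_lt_two_pow (n := 8) (by norm_num) (by simpa using hb1))
        (basis_facts.2.2.2.1 b hb')
      rw [hf 1 b rfl hb2.2, hbv b hb', hbad] at h1
      exact Bool.noConfusion h1

/-! ### Groups of maps -/

/-- A permutation of the masks as a map of numbers. -/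
def mf (m : Equiv.Perm (Fin 256)) (v : ℕ) : ℕ := (m (Fin.ofNat 256 v) : ℕ)

theorem mf_lt (m : Equiv.Perm (Fin 256)) (v : ℕ) : mf m v < 256 := (m _).2

theorem ofNat_val (x : Fin 256) : Fin.ofNat 256 (x : ℕ) = x := Fin.ext (Nat.mod_eq_of_lt x.2)

theorem mf_mul (a b : Equiv.Perm (Fin 256)) (v : ℕ) : mf (a * b) v = mf a (mf b v) := by
  simp only [mf, Equiv.Perm.mul_apply, ofNat_val]

theorem mf_one {v : ℕ} (hv : v < 256) : mf 1 v = v := Nat.mod_eq_of_lt hv

theorem mf_inv {m : Equiv.Perm (Fin 256)} {v : ℕ} (hv : v < 256) : mf m⁻¹ (mf m v) = v := by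
  rw [← mf_mul, inv_mul_cancel, mf_one hv]

theorem mf_inv' {m : Equiv.Perm (Fin 256)} {v : ℕ} (hv : v < 256) : mf m (mf m⁻¹ v) = v := by
  rw [← mf_mul, mul_inv_cancel, mf_one hv]

/-- The hypotheses on a group of maps of masks. -/
structure Maps (full : Bool) (M : Subgroup (Equiv.Perm (Fin 256))) : Prop where
  out : ∀ m ∈ M, ∀ v < 256, inV full v = false → mf m v = v
  lin : ∀ m ∈ M, AddV full (mf m)
  gen : ∀ t < 5, ∃ m ∈ M, ∀ v, inV full v = true → mf m v = gfun t v
  stab : ∀ m ∈ M, mf m 255 = 255 → Pres full (mf m)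

/-- The map plus one. -/
def dm (m : Equiv.Perm (Fin 256)) (v : ℕ) : ℕ := mf m v ^^^ v

/-- Like a transvection. -/
def PT (full : Bool) (f : ℕ → ℕ) : Prop :=
  Inv full f ∧ Small full f 4 ∧ ∀ p, ∃ v, inV full v = true ∧ f v ^^^ v ≠ 0 ∧ f v ^^^ v ≠ p

/-- Like the second witness. -/
def PF (full : Bool) (f : ℕ → ℕ) : Prop :=
  (∀ v, inV full v = true → f (f (f (f v))) = v) ∧ ¬ Inv full f ∧ Small full f 16

section
variable {full : Bool} {M : Subgroup (Equiv.Perm (Fin 256))} (H : Maps full M)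
include H

theorem Maps.inV_mf {m : Equiv.Perm (Fin 256)} (hm : m ∈ M) {v : ℕ} (hv : inV full v = true) :
    inV full (mf m v) = true := by
  by_contra hne
  rw [Bool.not_eq_true] at hne
  have h1 := H.out m hm _ (mf_lt m v) hne
  have h2 := congrArg (mf m⁻¹) h1
  rw [mf_inv (mf_lt m v), mf_inv (inV_lt hv)] at h2
  rw [h2, hv] at hne
  exact Bool.noConfusion hne

theorem Maps.ext {a b : Equiv.Perm (Fin 256)} (ha : a ∈ M) (hb : b ∈ M)
    (h : ∀ v, inV full v = true → mf a v = mf b v) : a = b := by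
  refine Equiv.ext fun x => ?_
  have e : mf a x = mf b x := by
    cases hx : inV full (x : ℕ)
    · rw [H.out a ha x x.2 hx, H.out b hb x x.2 hx]
    · exact h _ hx
  simp only [mf, ofNat_val] at e
  exact Fin.ext e

theorem Maps.word : ∀ w : List ℕ, (∀ i ∈ w, i < 5) → ∃ m ∈ M, ∀ v, inV full v = true → mf m v = wfun w v
  | [], _ => ⟨1, one_mem M, fun v hv => mf_one (inV_lt hv)⟩
  | t :: w, hw => by
    obtain ⟨m, hm, h⟩ := Maps.word w fun i hi => hw i (List.mem_cons_of_mem _ hi)
    obtain ⟨g, hg, hg'⟩ := H.gen t (hw t List.mem_cons_self)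
    refine ⟨g * m, mul_mem hg hm, fun v hv => ?_⟩
    rw [mf_mul, hg' _ (H.inV_mf hm hv), h v hv]
    rfl

theorem Maps.dm_conj {g m : Equiv.Perm (Fin 256)} (hg : g ∈ M) (hm : m ∈ M) {v : ℕ} (hv : inV full v = true) :
    dm (g * m * g⁻¹) (mf g v) = mf g (dm m v) := by
  rw [dm, mf_mul, mf_mul, mf_inv (inV_lt hv), dm, H.lin g hg _ _ (H.inV_mf hm hv) hv]

theorem Maps.conj_types {g m : Equiv.Perm (Fin 256)} (hg : g ∈ M) (hm : m ∈ M) :
    (PT full (mf m) → PT full (mf (g * m * g⁻¹))) ∧ (PF full (mf m) → PF full (mf (g * m * g⁻¹))) := by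
  have hsurj : ∀ v, inV full v = true → ∃ w, inV full w = true ∧ mf g w = v := fun v hv =>
    ⟨_, H.inV_mf (inv_mem hg) hv, mf_inv' (inV_lt hv)⟩
  have hcomp : ∀ w, inV full w = true → mf (g * m * g⁻¹) (mf g w) = mf g (mf m w) := fun w hw => by
    rw [mf_mul, mf_mul, mf_inv (inV_lt hw)]
  have hsmall : ∀ k, Small full (mf m) k → Small full (mf (g * m * g⁻¹)) k := fun k ⟨L, hL, h⟩ => by
    refine ⟨L.map (mf g), by rwa [List.length_map], fun v hv => ?_⟩
    obtain ⟨w, hw, rfl⟩ := hsurj v hv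
    exact List.mem_map.2 ⟨_, h w hw, (H.dm_conj hg hm hw).symm⟩
  refine ⟨fun ⟨h1, h2, h3⟩ => ⟨fun v hv => ?_, hsmall 4 h2, fun p => ?_⟩,
    fun ⟨h1, h2, h3⟩ => ⟨fun v hv => ?_, fun hi => h2 fun v hv => ?_, hsmall 16 h3⟩⟩
  · obtain ⟨w, hw, rfl⟩ := hsurj v hv
    rw [hcomp w hw, hcomp _ (H.inV_mf hm hw), h1 w hw]
  · obtain ⟨v, hv, h4, h5⟩ := h3 (mf g⁻¹ p)
    have hd : inV full (dm m v) = true := inV_xor (H.inV_mf hm hv) hv
    refine ⟨mf g v, H.inV_mf hg hv, fun e => h4 ?_, fun e => h5 ?_⟩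
    · have := congrArg (mf g⁻¹) ((H.dm_conj hg hm hv).symm.trans e)
      rwa [mf_inv (inV_lt hd), (H.lin _ (inv_mem hg)).zero] at this
    · have := congrArg (mf g⁻¹) ((H.dm_conj hg hm hv).symm.trans e)
      rwa [mf_inv (inV_lt hd)] at this
  · obtain ⟨w, hw, rfl⟩ := hsurj v hv
    rw [hcomp w hw, hcomp _ (H.inV_mf hm hw), hcomp _ (H.inV_mf hm (H.inV_mf hm hw)),
      hcomp _ (H.inV_mf hm (H.inV_mf hm (H.inV_mf hm hw))), h1 w hw]
  · have e := hi _ (H.inV_mf hg hv)
    rw [hcomp v hv, hcomp _ (H.inV_mf hm hv)] at e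
    have := congrArg (mf g⁻¹) e
    rwa [mf_inv (inV_lt (H.inV_mf hm (H.inV_mf hm hv))), mf_inv (inV_lt hv)] at this

theorem Maps.classify {m : Equiv.Perm (Fin 256)} (hm : m ∈ M) (h255 : mf m 255 = 255) :
    (PT full (mf m) → ∃ t : Fin 42, ∀ v, inV full v = true → mf m v = tfun t v) ∧
      (PT full (mf m) ∨ PF full (mf m) → ∀ v, inV full v = true → dm m v ≠ 255) := by
  obtain ⟨n, hn, e, he, hfun_eq⟩ := affine_of_pres (H.lin m hm) (fun v hv => H.inV_mf hm hv) (H.stab m hm h255)
  have hty : typesB full n e = true := by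
    have hlt : n ∈ List.range 4096 := by
      simp only [hOK, Bool.and_eq_true, Nat.blt_eq] at hn
      exact List.mem_range.2 hn.1
    cases full with
    | false =>
      rw [he rfl]
      have := List.all_eq_true.1 types_even n hlt
      rwa [hn, Bool.not_true, Bool.false_or] at this
    | true =>
      have := List.all_eq_true.1 types_full n hlt
      rw [hn, Bool.not_true, Bool.false_or, Bool.and_eq_true] at this
      cases e
      exacts [this.1, this.2]
  have hadd := hfun_add full n e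
  have hV : ∀ v, inV full v = true → inV full (hfun n e v) = true := fun v hv => hfun_eq v hv ▸ H.inV_mf hm hv
  have hsq : ∀ v, inV full v = true → hfun n e (hfun n e v) = mf m (mf m v) := fun v hv => by
    rw [← hfun_eq v hv, ← hfun_eq _ (H.inV_mf hm hv)]
  have hInv : invB full (hfun n e) = true → Inv full (mf m) := fun h v hv => by
    rw [← hsq v hv]; exact Inv_of_invB hadd hV h v hv
  have hsmall : ∀ k, Small full (mf m) k → imgSize full (hfun n e) ≤ k := fun k ⟨L, hL, h⟩ =>
    imgSize_le hadd ⟨L, hL, fun v hv => hfun_eq v hv ▸ h v hv⟩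
  have hmiss : missB full (hfun n e) = true → ∀ v, inV full v = true → dm m v ≠ 255 := fun h v hv e' => by
    have hmem := spanL_mem hadd v hv
    rw [← hfun_eq v hv, show mf m v ^^^ v = 255 from e'] at hmem
    simp only [missB, List.contains_iff_mem.2 hmem, Bool.not_true] at h
    exact Bool.noConfusion h
  have hPT : PT full (mf m) →
      e = false ∧ n ∈ Dat.transN ∧ ∀ v, inV full v = true → dm m v ≠ 255 := fun ⟨h1, h2, h3⟩ => by
    have hb : invB full (hfun n e) = true := by
      simp only [invB, List.all_eq_true, Nat.beq_eq]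
      exact fun b hb => (hsq b (basis_facts.1 full b hb)).trans (h1 b (basis_facts.1 full b hb))
    have h2b : twoB full (hfun n e) = false := Bool.eq_false_iff.2 fun h => by
      obtain ⟨p, hp⟩ := two_of_twoB hadd h
      obtain ⟨v, hv, h4, h5⟩ := h3 p
      rw [hfun_eq v hv] at h4 h5
      exact (hp v hv).elim h4 h5
    simp only [typesB, hb, cond_true, h2b, Bool.false_or, Bool.or_eq_true, Nat.blt_eq, Bool.and_eq_true,
      Bool.not_eq_true', List.contains_iff_mem] at hty
    rcases hty with hty | ⟨⟨h6, h7⟩, h8⟩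
    · exact absurd (hsmall 4 h2) (by omega)
    · exact ⟨h6, h7, hmiss h8⟩
  refine ⟨fun h => ?_, fun h => ?_⟩
  · obtain ⟨h6, h7, -⟩ := hPT h
    obtain ⟨t, ht, rfl⟩ := List.mem_iff_getElem.1 h7
    refine ⟨⟨t, ht⟩, fun v hv => ?_⟩
    rw [hfun_eq v hv, h6, tfun, List.getD_eq_getElem _ _ ht, hfun]
    simp
  · rcases h with h | ⟨h1, h2, h3⟩
    · exact (hPT h).2.2
    have hb : invB full (hfun n e) = false := Bool.eq_false_iff.2 fun h => h2 (hInv h)
    have h4 : fourB full (hfun n e) = true := by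
      simp only [fourB, List.all_eq_true, Nat.beq_eq]
      intro b hb'
      have hbV := basis_facts.1 full b hb'
      rw [hsq b hbV, hsq _ (H.inV_mf hm (H.inV_mf hm hbV))]
      exact h1 b hbV
    simp only [typesB, hb, cond_false, h4, Bool.not_true, Bool.false_or, Bool.or_eq_true, Nat.blt_eq] at hty
    exact hmiss (hty.resolve_left (by have := hsmall 16 h3; omega))

/-! ### The orbit of the full mask -/

/-- In the orbit of the full mask. -/
def InO (M : Subgroup (Equiv.Perm (Fin 256))) (p : ℕ) : Prop := ∃ m ∈ M, mf m 255 = p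

omit H in
theorem InO_mf {g : Equiv.Perm (Fin 256)} (hg : g ∈ M) {p : ℕ} (hp : p < 256) : InO M (mf g p) ↔ InO M p := by
  constructor
  · rintro ⟨m, hm, e⟩
    exact ⟨g⁻¹ * m, mul_mem (inv_mem hg) hm, by rw [mf_mul, e, mf_inv hp]⟩
  · rintro ⟨m, hm, e⟩
    exact ⟨g * m, mul_mem hg hm, by rw [mf_mul, e]⟩

theorem Maps.InO_inV {p : ℕ} (h : InO M p) : inV full p = true ∧ p ≠ 0 := by
  obtain ⟨m, hm, rfl⟩ := h
  refine ⟨H.inV_mf hm (inV_full full), fun e => ?_⟩
  have := congrArg (mf m⁻¹) e
  rw [mf_inv (by norm_num), (H.lin _ (inv_mem hm)).zero] at this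
  exact absurd this (by norm_num)

theorem Maps.excluded {w : List ℕ} (hw : ∀ i ∈ w, i < 5)
    (hty : PT full (wfun w) ∨ PF full (wfun w)) {r v : ℕ} (hv : inV full v = true) (hd : wfun w v ^^^ v = r)
    (hfix : wfun w r = r) : ¬ InO M r := by
  intro hr
  obtain ⟨k, hk, hkw⟩ := H.word w hw
  have hrV := (H.InO_inV hr).1
  obtain ⟨g, hg, e⟩ := hr
  have hcong : ∀ f f' : ℕ → ℕ, (∀ v, inV full v = true → f v = f' v) →
      (∀ v, inV full v = true → inV full (f v) = true) → (PT full f' → PT full f) ∧ (PF full f' → PF full f) := by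
    intro f f' h hV
    refine ⟨fun ⟨h1, ⟨L, hL, h2⟩, h3⟩ => ⟨fun v hv => ?_, ⟨L, hL, fun v hv => h v hv ▸ h2 v hv⟩, fun p => ?_⟩,
      fun ⟨h1, h2, ⟨L, hL, h3⟩⟩ => ⟨fun v hv => ?_, fun hi => h2 fun v hv => ?_,
        ⟨L, hL, fun v hv => h v hv ▸ h3 v hv⟩⟩⟩
    · rw [h _ (hV v hv), h v hv, h1 v hv]
    · obtain ⟨v, hv, h4, h5⟩ := h3 p
      exact ⟨v, hv, h v hv ▸ h4, h v hv ▸ h5⟩
    · rw [h _ (hV _ (hV _ (hV v hv))), h _ (hV _ (hV v hv)), h _ (hV v hv), h v hv, h1 v hv]
    · have := hi v hv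
      rwa [h _ (hV v hv), h v hv] at this
  obtain ⟨hc1, hc2⟩ := hcong _ _ hkw (fun v hv => H.inV_mf hk hv)
  have hgi : g⁻¹ ∈ M := inv_mem hg
  obtain ⟨j1, j2⟩ := H.conj_types hgi hk
  have hk' : g⁻¹ * k * g⁻¹⁻¹ ∈ M := mul_mem (mul_mem hgi hk) (inv_mem hgi)
  have h255 : mf (g⁻¹ * k * g⁻¹⁻¹) 255 = 255 := by
    rw [mf_mul, mf_mul, inv_inv, e, hkw r hrV, hfix, ← e, mf_inv (by norm_num)]
  refine (H.classify hk' h255).2 (hty.imp (fun h => j1 (hc1 h)) fun h => j2 (hc2 h)) (mf g⁻¹ v) (H.inV_mf hgi hv) ?_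
  rw [H.dm_conj hgi hk hv, show dm k v = r by rw [dm, hkw v hv, hd], ← e, mf_inv (by norm_num)]

theorem Maps.InO_class {v : ℕ} (hv : v < 256) (h0 : v ≠ 0) (h255 : v ≠ 255) :
    InO M v ↔ inV full v = true ∧ InO M (Dat.classReps.getD (clsI v) 0) := by
  induction v using Nat.strong_induction_on with
  | _ v ih =>
    obtain ⟨-, hcase⟩ := class_lower ⟨v, hv⟩ h0 h255
    rcases hcase with hrep | ⟨w, -, hw5, hlt, hpos, hne, hcls⟩
    · simp only at hrep
      rw [← hrep]
      exact ⟨fun h => ⟨(H.InO_inV h).1, h⟩, fun h => h.2⟩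
    · simp only at hlt hpos hne hcls
      by_cases hV : inV full v = true
      · obtain ⟨g, hg, hgw⟩ := H.word w hw5
        have hV' : inV full (wfun w v) = true := hgw v hV ▸ H.inV_mf hg hV
        rw [← InO_mf hg hv, hgw v hV, ih _ hlt (by omega) (by omega) hne, hV', hcls, hV]
      · exact iff_of_false (fun h => hV (H.InO_inV h).1) (fun h => hV h.1)

omit H in
theorem exists_sel : ∀ b0 b1 b2 b3 b4 : Bool, ∃ s : Fin 32,
    (s : ℕ).testBit 0 = b0 ∧ (s : ℕ).testBit 1 = b1 ∧ (s : ℕ).testBit 2 = b2 ∧ (s : ℕ).testBit 3 = b3 ∧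
      (s : ℕ).testBit 4 = b4 := by decide +kernel

theorem Maps.not_witness : ¬ InO M 3 ∧ ¬ InO M 15 ∧ ¬ InO M 63 := by
  obtain ⟨hw, i1, t1, s1, f2, i2, s2⟩ := witness full
  obtain ⟨⟨v1, a1, b1, c1⟩, ⟨v2, a2, b2, c2⟩, ⟨v3, a3, b3, c3⟩, d1, d2, d3⟩ := witness_img
  have hw1 : ∀ i ∈ Dat.witW.getD 0 [], i < 5 := fun i hi => hw i (List.mem_append_left _ hi)
  have hw2 : ∀ i ∈ Dat.witW.getD 1 [], i < 5 := fun i hi => hw i (List.mem_append_right _ hi)
  have hV : ∀ w : List ℕ, (∀ i ∈ w, i < 5) → ∀ v, inV full v = true → inV full (wfun w v) = true := fun w hw v hv => by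
    obtain ⟨g, hg, e⟩ := H.word w hw
    exact e v hv ▸ H.inV_mf hg hv
  have hsm : ∀ w k, (spanL ((basis full).map fun b => wfun w b ^^^ b)).length ≤ k → Small full (wfun w) k :=
    fun w k h => by
      obtain ⟨L, hL, hm⟩ := spanL_small (wfun_add full w)
      exact ⟨L, hL.trans h, hm⟩
  have p1 : PT full (wfun (Dat.witW.getD 0 [])) := by
    refine ⟨Inv_of_invB (wfun_add _ _) (hV _ hw1) i1, hsm _ 4 s1, fun p => ?_⟩
    by_cases hp : p = 3
    · exact ⟨v2, inV_even a2 b2, by rw [c2]; norm_num, by rw [c2, hp]; norm_num⟩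
    · exact ⟨v1, inV_even a1 b1, by rw [c1]; norm_num, by rw [c1]; exact Ne.symm hp⟩
  have p2 : PF full (wfun (Dat.witW.getD 1 [])) := by
    refine ⟨?_, fun hi => ?_, hsm _ 16 s2⟩
    · have hadd := wfun_add full (Dat.witW.getD 1 [])
      simp only [fourB, List.all_eq_true, Nat.beq_eq] at f2
      refine agree (g := id) (fun a b ha hb => ?_) (fun _ _ _ _ => rfl) f2
      simp only [wfun_xor]
    · have : invB full (wfun (Dat.witW.getD 1 [])) = true := by
        simp only [invB, List.all_eq_true, Nat.beq_eq]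
        exact fun b hb => hi b (basis_facts.1 full b hb)
      rw [i2] at this
      exact Bool.noConfusion this
  exact ⟨H.excluded hw1 (Or.inl p1) (inV_even a1 b1) c1 d1, H.excluded hw1 (Or.inl p1) (inV_even a2 b2) c2 d2,
    H.excluded hw2 (Or.inr p2) (inV_even a3 b3) c3 d3⟩

/-- A group of maps of masks containing the affine maps fixes the full mask. -/
theorem Maps.fixed : ∀ m ∈ M, mf m 255 = 255 := by
  classical
  intro m hm
  by_contra hmov
  obtain ⟨s, s0, s1, s2, s3, s4⟩ := exists_sel (decide (InO M (Dat.classReps.getD 0 0)))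
    (decide (InO M (Dat.classReps.getD 2 0))) (decide (InO M (Dat.classReps.getD 4 0)))
    (decide (InO M (Dat.classReps.getD 5 0))) (decide (InO M (Dat.classReps.getD 7 0)))
  obtain ⟨n3, n15, n63⟩ := H.not_witness
  have h255 : InO M 255 := ⟨1, one_mem M, mf_one (by norm_num)⟩
  have hsel : ∀ j < 5, ((s : ℕ).testBit j = true ↔ InO M (Dat.classReps.getD (selI.getD j 0) 0)) := fun j hj => by
    interval_cases j
    · rw [s0, decide_eq_true_iff]; rfl
    · rw [s1, decide_eq_true_iff]; rfl
    · rw [s2, decide_eq_true_iff]; rfl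
    · rw [s3, decide_eq_true_iff]; rfl
    · rw [s4, decide_eq_true_iff]; rfl
  have hO : ∀ v < 256, ((candO s).testBit v = true ↔ InO M v) := by
    intro v hv
    by_cases h0 : v = 0
    · subst h0
      have : ∀ s : Fin 32, (candO s).testBit 0 = false := by decide +kernel
      rw [this]
      exact iff_of_false Bool.noConfusion fun h => (H.InO_inV h).2 rfl
    have hb := List.all_eq_true.1 (List.all_eq_true.1 candO_bit s (List.mem_range.2 s.2)) v (List.mem_range.2 hv)
    simp only [Bool.or_eq_true, Nat.beq_eq, h0, false_or, beq_iff_eq] at hb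
    rw [hb]
    by_cases h5 : v = 255
    · subst h5
      simp [h255]
    simp only [Bool.or_eq_true, Nat.beq_eq, h5, false_or, List.any_eq_true, List.mem_range, Bool.and_eq_true]
    obtain ⟨h8, -⟩ := class_lower ⟨v, hv⟩ h0 h5
    constructor
    · rintro ⟨j, hj, h1, h2⟩
      have hr := (hsel j hj).1 h1
      rw [← h2] at hr
      refine (H.InO_class hv h0 h5).2 ⟨?_, hr⟩
      by_contra hne
      have hpar : ∀ u : Fin 256, (u : ℕ) ≠ 0 → (u : ℕ) ≠ 255 →
          parM (Dat.classReps.getD (clsI u) 0) = parM u := by decide +kernel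
      have h3 := (H.InO_inV hr).1
      rw [inV_iff] at h3
      exact hne (inV_iff.2 ⟨hv, fun e => hpar ⟨v, hv⟩ h0 h5 ▸ h3.2 e⟩)
    · intro h
      have hr := ((H.InO_class hv h0 h5).1 h).2
      simp only at h8
      generalize clsI v = c at h8 hr ⊢
      interval_cases c
      · exact ⟨0, by norm_num, (hsel 0 (by norm_num)).2 hr, rfl⟩
      · exact absurd hr n3
      · exact ⟨1, by norm_num, (hsel 1 (by norm_num)).2 hr, rfl⟩
      · exact absurd hr n15
      · exact ⟨2, by norm_num, (hsel 2 (by norm_num)).2 hr, rfl⟩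
      · exact ⟨3, by norm_num, (hsel 3 (by norm_num)).2 hr, rfl⟩
      · exact absurd hr n63
      · exact ⟨4, by norm_num, (hsel 4 (by norm_num)).2 hr, rfl⟩
  by_cases hs0 : (s : ℕ) = 0
  · have h := (hO _ (mf_lt m 255)).2 ⟨m, hm, rfl⟩
    rw [hs0] at h
    have : ∀ v : Fin 256, (candO 0).testBit v = true → (v : ℕ) = 255 := by decide +kernel
    exact hmov (this ⟨_, mf_lt m 255⟩ h)
  have hlen : ∀ q : ℕ → Bool, ((List.range 256).filter q).length =
      ((Finset.range 256).filter fun v => q v = true).card := fun q => by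
    rw [← List.toFinset_card_of_nodup (List.nodup_range.filter _), List.toFinset_filter]
    congr 1
  have hfail := List.all_eq_true.1 cand_fail s (List.mem_range.2 s.2)
  simp only [Bool.or_eq_true, Nat.beq_eq, hs0, false_or, failO, List.any_eq_true, List.mem_range, Bool.and_eq_true,
    Bool.not_eq_true', List.all_eq_true] at hfail
  rcases hfail with ⟨j, hj, hjs, hne⟩ | ⟨huni, hdvd⟩
  · -- homogeneity
    refine (Bool.eq_false_iff.1 hne) (Eq.mpr Nat.beq_eq ?_)
    obtain ⟨g, hg, hge⟩ := (hsel j hj).1 hjs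
    rw [homO, homO, hlen, hlen]
    symm
    refine Finset.card_bij (fun v _ => mf g v) (fun v hv => ?_) (fun a ha b hb e => ?_) (fun u hu => ?_)
    · simp only [Finset.mem_filter, Finset.mem_range, Bool.and_eq_true] at hv ⊢
      obtain ⟨hv, h1, h2⟩ := hv
      have hvV := (H.InO_inV ((hO v hv).1 h1)).1
      refine ⟨mf_lt g v, (hO _ (mf_lt g v)).2 ((InO_mf hg hv).2 ((hO v hv).1 h1)), ?_⟩
      have hx : v ^^^ 255 < 256 := Nat.xor_lt_two_pow (n := 8) (by simpa using hv) (by norm_num)
      rw [← hge, ← H.lin g hg v 255 hvV (inV_full full)]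
      exact (hO _ (mf_lt g _)).2 ((InO_mf hg hx).2 ((hO _ hx).1 h2))
    · simp only [Finset.mem_filter, Finset.mem_range] at ha hb
      have := congrArg (mf g⁻¹) e
      rwa [mf_inv ha.1, mf_inv hb.1] at this
    · simp only [Finset.mem_filter, Finset.mem_range, Bool.and_eq_true] at hu
      obtain ⟨hu, h1, h2⟩ := hu
      have hi : g⁻¹ ∈ M := inv_mem hg
      have huV := (H.InO_inV ((hO u hu).1 h1)).1
      have hx : u ^^^ Dat.classReps.getD (selI.getD j 0) 0 < 256 :=
        inV_lt (inV_xor huV (H.InO_inV ⟨g, hg, hge⟩).1)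
      refine ⟨mf g⁻¹ u, ?_, mf_inv' hu⟩
      simp only [Finset.mem_filter, Finset.mem_range, Bool.and_eq_true]
      refine ⟨mf_lt _ u, (hO _ (mf_lt _ u)).2 ((InO_mf hi hu).2 ((hO u hu).1 h1)), ?_⟩
      have h3 : mf g⁻¹ (Dat.classReps.getD (selI.getD j 0) 0) = 255 := by rw [← hge, mf_inv (by norm_num)]
      rw [← h3, ← H.lin _ hi u _ huV (H.InO_inV ⟨g, hg, hge⟩).1]
      exact (hO _ (mf_lt _ _)).2 ((InO_mf hi hx).2 ((hO _ hx).1 h2))
  · -- counting fixed points
    refine (Bool.eq_false_iff.1 hdvd) (Eq.mpr Nat.beq_eq (Nat.mod_eq_zero_of_dvd ?_))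
    haveI : Fintype M := Fintype.ofFinite _
    let O : Finset ℕ := (Finset.range 256).filter fun v => (candO s).testBit v = true
    have hOm : ∀ {v}, v ∈ O ↔ InO M v := fun {v} => by
      simp only [O, Finset.mem_filter, Finset.mem_range]
      exact ⟨fun h => (hO v h.1).1 h.2, fun h => ⟨inV_lt (H.InO_inV h).1, (hO v (inV_lt (H.InO_inV h).1)).2 h⟩⟩
    let T : Finset M := Finset.univ.filter fun k => PT full (mf (k : Equiv.Perm (Fin 256))) ∧
      ∃ p ∈ O, mf (k : Equiv.Perm (Fin 256)) p = p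
    have hconj : ∀ (g k : Equiv.Perm (Fin 256)), g ∈ M → k ∈ M → PT full (mf k) → mf k (mf g 255) = mf g 255 →
        ∃ t : Fin 42, ∀ v, inV full v = true → mf k (mf g v) = mf g (tfun t v) := fun g k hg hk hp hfx => by
      have hgi : g⁻¹ ∈ M := inv_mem hg
      have hk' : g⁻¹ * k * g⁻¹⁻¹ ∈ M := mul_mem (mul_mem hgi hk) (inv_mem hgi)
      obtain ⟨t, ht⟩ := (H.classify hk' (by
        rw [mf_mul, mf_mul, inv_inv, hfx, mf_inv (by norm_num)])).1 ((H.conj_types hgi hk).1 hp)
      refine ⟨t, fun v hv => ?_⟩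
      rw [← ht v hv, mf_mul, mf_mul, inv_inv, mf_inv' (mf_lt _ _)]
    have hT : ∀ t : Fin 42, ∃ k ∈ M, PT full (mf k) ∧ ∀ v, inV full v = true → mf k v = tfun t v := fun t => by
      obtain ⟨-, hw, hb⟩ := trans_word t
      obtain ⟨k, hk, hkw⟩ := H.word _ hw
      have he : ∀ v, inV full v = true → mf k v = tfun t v := fun v hv => by
        rw [hkw v hv]
        exact agree (wfun_add true _) (tfun_add true _) hb v (inV_true (inV_lt hv))
      obtain ⟨i1, i2, i3⟩ := trans_type full t
      have hVt : ∀ v, inV full v = true → inV full (tfun t v) = true := fun v hv => he v hv ▸ H.inV_mf hk hv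
      refine ⟨k, hk, ⟨fun v hv => ?_, ?_, fun p => ?_⟩, he⟩
      · rw [he v hv, he _ (hVt v hv)]
        exact Inv_of_invB (tfun_add _ _) hVt i1 v hv
      · obtain ⟨L, hL, hm⟩ := spanL_small (tfun_add full t)
        exact ⟨L, hL.trans i3, fun v hv => he v hv ▸ hm v hv⟩
      · by_contra hno
        push_neg at hno
        have : twoB full (tfun t) = true := by
          simp only [twoB, List.all_eq_true, Bool.or_eq_true, Nat.beq_eq]
          intro d hd
          obtain ⟨b, hb', rfl⟩ := List.mem_map.1 hd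
          have hbV := basis_facts.1 full b hb'
          by_contra hcon
          push_neg at hcon
          have h1 := hno b hbV (by rw [he b hbV]; exact hcon.1)
          rw [he b hbV] at h1
          refine hcon.2 ?_
          generalize hq : ((List.filter (fun d => !Nat.beq d 0) ((basis full).map fun b => tfun t b ^^^ b))).getD 0 0 = q
          obtain ⟨b', hb'', hq'⟩ : ∃ b' ∈ basis full, tfun t b' ^^^ b' = q ∧ q ≠ 0 := by
            have hm : (tfun t b ^^^ b) ∈ List.filter (fun d => !Nat.beq d 0) ((basis full).map fun b => tfun t b ^^^ b) :=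
              List.mem_filter.2 ⟨hd, by
                rw [Bool.not_eq_true']
                exact Bool.eq_false_iff.2 fun hh => hcon.1 (Nat.eq_of_beq_eq_true hh)⟩
            have hne : List.filter (fun d => !Nat.beq d 0) ((basis full).map fun b => tfun t b ^^^ b) ≠ [] :=
              List.ne_nil_of_mem hm
            rw [List.getD_eq_getElem _ _ (List.length_pos_iff.2 hne)] at hq
            have := List.getElem_mem (List.length_pos_iff.2 hne)
            rw [hq, List.mem_filter, List.mem_map, Bool.not_eq_true'] at this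
            obtain ⟨⟨b', hb'', e⟩, hnz⟩ := this
            exact ⟨b', hb'', e, fun h => by rw [h, Nat.beq_refl] at hnz; exact Bool.noConfusion hnz⟩
          have h2 := hno b' (basis_facts.1 full b' hb'') (by rw [he b' (basis_facts.1 full b' hb''), hq'.1]; exact hq'.2)
          rw [he b' (basis_facts.1 full b' hb''), hq'.1] at h2
          rw [h1, h2]
        rw [i2] at this
        exact Bool.noConfusion this
    -- the fibre over a point
    have hcol : ∀ p ∈ O, (T.filter fun k : M => mf (k : Equiv.Perm (Fin 256)) p = p).card = 42 := by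
      intro p hp
      obtain ⟨g, hg, rfl⟩ := hOm.1 hp
      choose kt hktM hktP hkt using hT
      rw [← Finset.card_fin 42]
      symm
      have hfix : ∀ t, mf (g * kt t * g⁻¹) (mf g 255) = mf g 255 := fun t => by
        rw [mf_mul, mf_mul, mf_inv (by norm_num), hkt t 255 (inV_full full)]
        have : ∀ t : Fin 42, tfun t 255 = 255 := by decide +kernel
        rw [this]
      refine Finset.card_bij (fun t _ => (⟨g * kt t * g⁻¹, mul_mem (mul_mem hg (hktM t)) (inv_mem hg)⟩ : M))
        (fun t _ => ?_) (fun t _ u _ e => ?_) (fun k hk => ?_)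
      · simp only [T, Finset.mem_filter, Finset.mem_univ, true_and]
        exact ⟨⟨(H.conj_types hg (hktM t)).1 (hktP t), _, hp, hfix t⟩, hfix t⟩
      · have e' : g * kt t * g⁻¹ = g * kt u * g⁻¹ := congrArg Subtype.val e
        rw [mul_left_inj, mul_right_inj] at e'
        refine trans_inj full t u fun b hb => ?_
        rw [← hkt t b (basis_facts.1 full b hb), e', hkt u b (basis_facts.1 full b hb)]
      · simp only [T, Finset.mem_filter, Finset.mem_univ, true_and] at hk
        obtain ⟨t, ht⟩ := hconj g k hg k.2 hk.1.1 hk.2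
        refine ⟨t, Finset.mem_univ _, Subtype.ext (H.ext (mul_mem (mul_mem hg (hktM t)) (inv_mem hg)) k.2 fun v hv => ?_)⟩
        have hw := H.inV_mf (inv_mem hg) hv
        rw [mf_mul, mf_mul, hkt t _ hw, ← ht _ hw, mf_inv' (inV_lt hv)]
    -- the fibre over a map
    have hrow : ∀ k ∈ T, (O.filter fun p => mf (k : Equiv.Perm (Fin 256)) p = p).card =
        cntO (Dat.transFix.getD 0 0 &&& candO s) := by
      intro k hk
      simp only [T, Finset.mem_filter, Finset.mem_univ, true_and] at hk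
      obtain ⟨hP, p, hp, hpfix⟩ := hk
      obtain ⟨g, hg, rfl⟩ := hOm.1 hp
      obtain ⟨t, ht⟩ := hconj g k hg k.2 hP hpfix
      rw [← huni t t.2, cntO, hlen]
      have hfx : ∀ v < 256, ((Dat.transFix.getD t 0).testBit v = true ↔ tfun t v = v) := fun v hv => by
        have := List.all_eq_true.1 (List.all_eq_true.1 trans_fix t (List.mem_range.2 t.2)) v (List.mem_range.2 hv)
        rw [beq_iff_eq] at this
        rw [this]
        rw [Nat.beq_eq]
      symm
      refine Finset.card_bij (fun v _ => mf g v) (fun v hv => ?_) (fun a ha b hb e => ?_) (fun u hu => ?_)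
      · simp only [Finset.mem_filter, Finset.mem_range, Nat.testBit_and, Bool.and_eq_true] at hv
        obtain ⟨hv, h1, h2⟩ := hv
        have hvO : InO M v := (hO v hv).1 h2
        rw [Finset.mem_filter, hOm]
        exact ⟨(InO_mf hg hv).2 hvO, by rw [ht v (H.InO_inV hvO).1, (hfx v hv).1 h1]⟩
      · simp only [Finset.mem_filter, Finset.mem_range] at ha hb
        have := congrArg (mf g⁻¹) e
        rwa [mf_inv ha.1, mf_inv hb.1] at this
      · rw [Finset.mem_filter, hOm] at hu
        obtain ⟨huO, hufix⟩ := hu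
        have hu256 := inV_lt (H.InO_inV huO).1
        have hwV := H.inV_mf (inv_mem hg) (H.InO_inV huO).1
        refine ⟨mf g⁻¹ u, ?_, mf_inv' hu256⟩
        simp only [Finset.mem_filter, Finset.mem_range, Nat.testBit_and, Bool.and_eq_true]
        refine ⟨mf_lt _ u, (hfx _ (mf_lt _ u)).2 ?_, (hO _ (mf_lt _ u)).2 ((InO_mf (inv_mem hg) hu256).2 huO)⟩
        have h1 := ht _ hwV
        rw [mf_inv' hu256, hufix] at h1
        have hk' : inV full (tfun t (mf g⁻¹ u)) = true := by
          obtain ⟨k', hk', -, hk'e⟩ := hT t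
          exact hk'e _ hwV ▸ H.inV_mf hk' hwV
        conv_rhs => rw [h1, mf_inv (inV_lt hk')]
    have hsum : ∑ p ∈ O, (T.filter fun k : M => mf (k : Equiv.Perm (Fin 256)) p = p).card =
        ∑ k ∈ T, (O.filter fun p => mf (k : Equiv.Perm (Fin 256)) p = p).card := by
      simp only [Finset.card_filter]
      exact Finset.sum_comm
    rw [Finset.sum_congr rfl hcol, Finset.sum_congr rfl hrow, Finset.sum_const, Finset.sum_const, smul_eq_mul,
      smul_eq_mul] at hsum
    refine ⟨T.card, ?_⟩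
    rw [cntO, hlen (candO s).testBit]
    rw [Nat.mul_comm 42, Nat.mul_comm _ T.card]
    exact hsum

end

end Cfsg.Agent.Spor.EightPlusStd.Masks
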