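import Cfsg.Agent.Lib.Spor.EightPlusStandard.Large
import Cfsg.Agent.Lib.Spor.EightPlusStandard.Orbit

/-!
Elements of the cover normalising the frame or the signs, the classes of frame elements by fixed roots, and the
witnesses in the centralizers of the square roots of the negation.
-/

set_option autoImplicit false
set_option maxRecDepth 100000
set_option maxHeartbeats 1000000
set_option Elab.async false

namespace Cfsg.Agent.Spor.EightPlusStd

open Cfsg.Agent.Lie.OEightTwoMult (negP)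
open Masks (gfun parM)

theorem parM_eq (v : ℕ) : parM v = parV v := rfl

/-! ### The lifts of the affine maps -/

/-- A lift of an affine map. -/
def nT (t : Fin 5) : Equiv.Perm (Fin 240) := dat ⟨86 + t, by omega⟩

/-- The image of a coordinate. -/
def piT (t : Fin 5) (j : Fin 8) : Fin 8 := Fin.ofNat 8 (Dat.affGens.getD t 0 >>> (4 * (j : ℕ)) % 16)

theorem lift_flags : ∀ t : Fin 5, (datN (86 + t)).2.2.1 = false := by decide +kernel

theorem nT_mem (t : Fin 5) : nT t ∈ X := (dat_W _).1.2 (lift_flags t)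

theorem lift_rP : ∀ t : Fin 5, ∀ j : Fin 8, ∀ i : Fin 240, nT t (rP j i) = rP (piT t j) (nT t i) := by decide +kernel

theorem piT_pow : ∀ t : Fin 5, ∀ j : Fin 8, gfun t (2 ^ (j : ℕ)) = 2 ^ (piT t j : ℕ) := by decide +kernel

theorem gfun_facts : ∀ t : Fin 5, ∀ v : Fin 256, gfun t v < 256 ∧ parV (gfun t v) = parV v := by decide +kernel

theorem mask_descend : ∀ v : Fin 256, (v : ℕ) ≠ 0 → ∃ j : Fin 8, 2 ^ (j : ℕ) ^^^ (v : ℕ) < v := by decide +kernel

theorem gfun_xor (t a b : ℕ) : gfun t (a ^^^ b) = gfun t a ^^^ gfun t b := Masks.pe_xor _ a b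

theorem lift_frP (t : Fin 5) {v : ℕ} (hv : v < 256) : nT t * frP v = frP (gfun t v) * nT t := by
  induction v using Nat.strong_induction_on with
  | _ v ih =>
    by_cases h0 : v = 0
    · subst h0
      rw [show gfun (t : ℕ) 0 = 0 by simp [gfun, Masks.pe, Masks.bz, Masks.tb_eq], frP_zero, mul_one, one_mul]
    obtain ⟨j, hj⟩ := mask_descend ⟨v, hv⟩ h0
    simp only at hj
    have hlt : 2 ^ (j : ℕ) ^^^ v < 256 := lt_trans hj hv
    have hg := (gfun_facts t ⟨_, hlt⟩).1
    have hr : nT t * rP j = rP (piT t j) * nT t := Equiv.ext fun i => lift_rP t j i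
    have e : 2 ^ (j : ℕ) ^^^ (2 ^ (j : ℕ) ^^^ v) = v := Masks.xor_cancel _ _
    conv_lhs => rw [← e, ← rP_frP j hlt, ← mul_assoc, hr, mul_assoc, ih _ hj hlt, ← mul_assoc, rP_frP _ hg]
    conv_rhs => rw [← e, gfun_xor, piT_pow t j]

theorem lift_fixed : ∀ v : Fin 256, (∀ t : Fin 5, gfun t v = v) → (v : ℕ) = 0 ∨ (v : ℕ) = 255 := by decide +kernel

/-! ### The normalizer of the signs -/

/-- An element of the cover normalising the signs. -/
def dG (i : Fin 2) : Equiv.Perm (Fin 240) := dat ⟨84 + i, by omega⟩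

/-- The image of a sign. -/
def sgI (i b : ℕ) : ℕ := decT (cmul (cmul (cd (84 + i)) (cT b)) (cinv (cd (84 + i))))

theorem dG_flags : ∀ i : Fin 2, (datN (84 + i)).2.2.1 = false := by decide +kernel

theorem dG_mem (i : Fin 2) : dG i ∈ X := (dat_W _).1.2 (dG_flags i)

theorem sgI_facts : ∀ i : Fin 2, ∀ b : Fin 128, sgI i b < 128 ∧
    cmul (cT (sgI i b)) (cd (84 + i)) = cmul (cd (84 + i)) (cT b) := by decide +kernel

theorem sgI_fixed : ∀ b : Fin 128, (∀ i : Fin 2, sgI i b = b) → (b : ℕ) = 0 ∨ (b : ℕ) = 127 := by decide +kernel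

theorem sign_square : ∀ b : Fin 128, cmul (cT b) (cT b) = cOne ∧ parT b = false := by decide +kernel

/-- Two permutations with the same code are equal. -/
theorem code_eq {x : ℕ} {a b : Equiv.Perm (Fin 240)} (hx : Full x) (ha : Has x a) (hb : Has x b) : a = b :=
  Equiv.ext (congrFun (Has.ext hx ha hb))

theorem dG_sign (i : Fin 2) {b : ℕ} (hb : b < 128) {a : Equiv.Perm (Fin 240)} (ha : Idx b a) :
    ∃ a', Idx (sgI i b) a' ∧ dG i * a = a' * dG i := by
  obtain ⟨h1, h2⟩ := sgI_facts i ⟨b, hb⟩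
  simp only at h1 h2
  obtain ⟨a', -, ha'⟩ := exists_idx (show sgI i b < 16384 by omega)
  refine ⟨a', ha', code_eq (Full_cmul (cd_full ⟨84 + i, by omega⟩) (cT_full ha.1))
    ((dat_has ⟨84 + i, by omega⟩).mul ha.2.1) ?_⟩
  have h := ha'.2.1.mul (dat_has ⟨84 + i, by omega⟩)
  simp only at h
  rw [h2] at h
  exact h

theorem sign_inv {b : ℕ} (hb : b < 128) {a : Equiv.Perm (Fin 240)} (ha : Idx b a) : a * a = 1 ∧ a ∈ X := by
  obtain ⟨h1, h2⟩ := sign_square ⟨b, hb⟩
  have h := ha.2.1.mul ha.2.1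
  simp only at h1
  rw [h1] at h
  exact ⟨code_eq (show Full cOne by decide +kernel) h has_unit, ha.2.2.2.2 h2⟩

/-! ### Classes of frame elements -/

theorem fix_classes : ((List.range 256).all fun v =>
    ((Dat.maskTwo.testBit v == Nat.beq (fixN (frC v)) 60) && (Dat.maskFour.testBit v == Nat.beq (fixN (frC v)) 24)) &&
      (Dat.maskOne.testBit v == Nat.beq (fixN (frC v)) 126)) = true := by decide +kernel

theorem class_facts : ∀ v : Fin 256,
    (Dat.maskTwo.testBit v = true → parV v = false) ∧ (Dat.maskFour.testBit v = true → parV v = false) ∧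
    (Dat.maskOne.testBit v = true →
      parV v = true ∧ Dat.maskOneSeven.testBit v = true ∧ Dat.maskOneSeven.testBit ((v : ℕ) ^^^ 255) = true) := by
  decide +kernel

theorem fix_class_at {v : ℕ} (hv : v < 256) :
    (Dat.maskTwo.testBit v = true ↔ fixN (frC v) = 60) ∧ (Dat.maskFour.testBit v = true ↔ fixN (frC v) = 24) ∧
      (Dat.maskOne.testBit v = true ↔ fixN (frC v) = 126) := by
  have h := List.all_eq_true.1 fix_classes v (List.mem_range.2 hv)
  simp only [Bool.and_eq_true, beq_iff_eq] at h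
  obtain ⟨⟨h1, h2⟩, h3⟩ := h
  rw [h1, h2, h3]
  simp only [Nat.beq_eq, and_self]

theorem fixN_card {v : ℕ} (hv : v < 256) :
    fixN (frC v) = (Finset.univ.filter fun i => frP v i = i).card := by
  rw [fixN, ← List.toFinset_card_of_nodup ((List.nodup_finRange 240).filter _)]
  congr 1
  ext i
  simp only [List.mem_toFinset, List.mem_filter, List.mem_finRange, true_and, Finset.mem_filter, Finset.mem_univ]
  exact ((frP_has v).fix_iff (frC_full ⟨v, hv⟩) i).symm

theorem fixN_conj {u v : ℕ} (hu : u < 256) (hv : v < 256) {w : Equiv.Perm (Fin 240)}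
    (h : w * frP u * w⁻¹ = frP v) : fixN (frC v) = fixN (frC u) := by
  rw [fixN_card hv, fixN_card hu]
  symm
  refine Finset.card_bij (fun i _ => w i) (fun i hi => ?_) (fun a _ b _ e => w.injective e) fun i hi => ?_
  · simp only [Finset.mem_filter, Finset.mem_univ, true_and] at hi ⊢
    rw [← h, Equiv.Perm.mul_apply, Equiv.Perm.mul_apply, Equiv.Perm.inv_def, Equiv.symm_apply_apply, hi]
  · refine ⟨w⁻¹ i, ?_, w.apply_symm_apply i⟩
    simp only [Finset.mem_filter, Finset.mem_univ, true_and] at hi ⊢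
    rw [← h, Equiv.Perm.mul_apply, Equiv.Perm.mul_apply] at hi
    apply w.injective
    rw [hi, Equiv.Perm.inv_def, Equiv.apply_symm_apply]

/-! ### The witnesses -/

/-- A witness element. -/
def wX (e : Fin 2) (k : Fin 6) : Equiv.Perm (Fin 240) := dat ⟨72 + 6 * e + k, by omega⟩

/-- The code of a witness. -/
def wC (e : Fin 2) (k : Fin 6) : ℕ := cd (72 + 6 * e + k)

theorem wit_flags : ∀ e : Fin 2, ∀ k : Fin 6, (datN (72 + 6 * e + k)).2.2.1 = false := by decide +kernel

theorem wX_mem (e : Fin 2) (k : Fin 6) : wX e k ∈ X := (dat_W _).1.2 (wit_flags e k)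

theorem wX_has (e : Fin 2) (k : Fin 6) : Has (wC e k) (wX e k) := dat_has ⟨72 + 6 * e + k, by omega⟩

theorem wC_full (e : Fin 2) (k : Fin 6) : Full (wC e k) := cd_full ⟨72 + 6 * e + k, by omega⟩

theorem wit_codes : ∀ e : Fin 2, (∀ k : Fin 4, cmul (wC e ⟨k, by omega⟩) (kRep e) = cmul (kRep e) (wC e ⟨k, by omega⟩)) ∧
    cmul (wC e 0) (wC e 1) = cmul (wC e 4) (cmul (wC e 1) (wC e 0)) ∧
    cmul (wC e 2) (wC e 3) = cmul (wC e 5) (cmul (wC e 3) (wC e 2)) ∧
    cmul (wC e 4) (wC e 5) = cmul cNeg (cmul (wC e 5) (wC e 4)) := by decide +kernel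

theorem witnesses (e : Fin 2) {w : Equiv.Perm (Fin 240)} (hw : Has (kRep e) w) :
    (∀ k : Fin 4, wX e ⟨k, by omega⟩ * w = w * wX e ⟨k, by omega⟩) ∧
    wX e 0 * wX e 1 = wX e 4 * (wX e 1 * wX e 0) ∧ wX e 2 * wX e 3 = wX e 5 * (wX e 3 * wX e 2) ∧
    wX e 4 * wX e 5 = negP * (wX e 5 * wX e 4) := by
  obtain ⟨h1, h2, h3, h4⟩ := wit_codes e
  have hk := (kRep_facts e).2.2
  have key : ∀ {x y : ℕ} {p q : Equiv.Perm (Fin 240)}, Full x → Has x p → Has y q → x = y → p = q :=
    fun hx hp hq hxy => code_eq hx hp (hxy.symm ▸ hq)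
  exact ⟨fun k => key (Full_cmul (wC_full e _) hk) ((wX_has e _).mul hw) (hw.mul (wX_has e _)) (h1 k),
    key (Full_cmul (wC_full e 0) (wC_full e 1)) ((wX_has e 0).mul (wX_has e 1))
      ((wX_has e 4).mul ((wX_has e 1).mul (wX_has e 0))) h2,
    key (Full_cmul (wC_full e 2) (wC_full e 3)) ((wX_has e 2).mul (wX_has e 3))
      ((wX_has e 5).mul ((wX_has e 3).mul (wX_has e 2))) h3,
    key (Full_cmul (wC_full e 4) (wC_full e 5)) ((wX_has e 4).mul (wX_has e 5))
      (neg_has.1.mul ((wX_has e 5).mul (wX_has e 4))) h4⟩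

end Cfsg.Agent.Spor.EightPlusStd
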