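import Mathlib.GroupTheory.Transfer
import Mathlib.GroupTheory.SpecificGroups.Cyclic
import Mathlib.GroupTheory.Commutator.Basic
import Cfsg.Agent.Lib.Spor.EightPlusStandard.Frame

/-!
A group containing the double cover with a centralizer having cyclic Sylow 2-subgroups: the central involution is
conjugate to no other involution commuting with it.
-/

set_option autoImplicit false
set_option maxRecDepth 100000
set_option maxHeartbeats 1000000

namespace Cfsg.Agent.Spor.EightPlusStd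

open Cfsg.Agent.Lie.OEightTwoMult (negP negP_sq)
open Masks (gfun mf inV AddV)
open scoped commutatorElement

/-- The double cover inside a group. -/
structure Ctx (G : Type*) [Group G] where
  /-- The embedding. -/
  emb : X →* G
  emb_inj : Function.Injective emb
  acts : ∀ g : G, g * emb negX = emb negX * g →
    ∃ w ∈ W, ∀ x y : X, (y : Equiv.Perm (Fin 240)) = w * x * w⁻¹ → g * emb x * g⁻¹ = emb y
  invol : ∀ c : G, (∀ x : X, c * emb x = emb x * c) → c * c = 1 → c = 1 ∨ c = emb negX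
  not_comm : ∀ o : ↥(Subgroup.centralizer (Set.range emb)), o ∈ commutator ↥(Subgroup.centralizer (Set.range emb)) →
    (o : G) ≠ emb negX

namespace Ctx

variable {G : Type*} [Group G] (S : Ctx G)

/-- The central involution. -/
abbrev z : G := S.emb negX

/-- An element acts on the cover as an element of the full group. -/
def Acts (g : G) (w : Equiv.Perm (Fin 240)) : Prop :=
  w ∈ W ∧ ∀ x y : X, (y : Equiv.Perm (Fin 240)) = w * x * w⁻¹ → g * S.emb x * g⁻¹ = S.emb y

theorem Acts.mem {g : G} {w : Equiv.Perm (Fin 240)} (h : S.Acts g w) : w ∈ W := h.1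

theorem Acts.mul {g h : G} {w v : Equiv.Perm (Fin 240)} (hg : S.Acts g w) (hh : S.Acts h v) :
    S.Acts (g * h) (w * v) := by
  refine ⟨mul_mem hg.1 hh.1, fun x y e => ?_⟩
  have h1 := hh.2 x ⟨v * x * v⁻¹, W_conj hh.1 x.2⟩ rfl
  have h2 := hg.2 ⟨v * x * v⁻¹, W_conj hh.1 x.2⟩ y (e.trans (by group))
  rw [← h2, ← h1]
  group

theorem Acts.inv {g : G} {w : Equiv.Perm (Fin 240)} (hg : S.Acts g w) : S.Acts g⁻¹ w⁻¹ := by
  refine ⟨inv_mem hg.1, fun x y e => ?_⟩
  have h := hg.2 y x (by rw [e]; group)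
  rw [← h]
  group

theorem Acts.conj {g a : G} {w v : Equiv.Perm (Fin 240)} (hg : S.Acts g w) (ha : S.Acts a v) :
    S.Acts (g * a * g⁻¹) (w * v * w⁻¹) := (Acts.mul S (Acts.mul S hg ha) (Acts.inv S hg))

theorem acts_emb (a : X) : S.Acts (S.emb a) a := by
  refine ⟨X_le_W a.2, fun x y e => ?_⟩
  rw [show y = a * x * a⁻¹ from Subtype.ext e, map_mul, map_mul, map_inv]

theorem acts_cen {c : G} (hc : ∀ x : X, c * S.emb x = S.emb x * c) : S.Acts c 1 := by
  refine ⟨one_mem W, fun x y e => ?_⟩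
  rw [show y = x from Subtype.ext (e.trans (by group)), hc, mul_inv_cancel_right]

theorem exists_acts {g : G} (h : g * S.z = S.z * g) : ∃ w, S.Acts g w := by
  obtain ⟨w, hw, e⟩ := S.acts g h
  exact ⟨w, hw, e⟩

theorem Acts.comm_z {g : G} {w : Equiv.Perm (Fin 240)} (h : S.Acts g w) : g * S.z = S.z * g := by
  have e := h.2 negX negX (show (negP : Equiv.Perm (Fin 240)) = w * negP * w⁻¹ by
    rw [W_neg h.1, mul_inv_cancel_right])
  calc g * S.z = (g * S.z * g⁻¹) * g := by group
    _ = S.z * g := by rw [e]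

theorem emb_z_comm (a : X) : S.emb a * S.z = S.z * S.emb a := by
  rw [← map_mul, negX_comm, map_mul]

theorem Acts.unique {g : G} {w v : Equiv.Perm (Fin 240)} (hw : S.Acts g w) (hv : S.Acts g v) :
    w = v ∨ w = v * negP := by
  have h : v⁻¹ * w = 1 ∨ v⁻¹ * w = negP := by
    refine W_centre_X (mul_mem (inv_mem hv.1) hw.1) fun x hx => ?_
    have h1 := hw.2 ⟨x, hx⟩ ⟨w * x * w⁻¹, W_conj hw.1 hx⟩ rfl
    have h2 := hv.2 ⟨x, hx⟩ ⟨v * x * v⁻¹, W_conj hv.1 hx⟩ rfl
    have e : w * x * w⁻¹ = v * x * v⁻¹ := congrArg Subtype.val (S.emb_inj (h1.symm.trans h2))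
    calc v⁻¹ * w * x = v⁻¹ * (w * x * w⁻¹) * w := by group
      _ = x * (v⁻¹ * w) := by rw [e]; group
  rcases h with h | h
  · left; rw [← mul_inv_cancel_left v w, h, mul_one]
  · right; rw [← h, mul_inv_cancel_left]

theorem cen_of_acts {g : G} {w : Equiv.Perm (Fin 240)} (h : S.Acts g w) (hw : w = 1 ∨ w = negP) :
    ∀ x : X, g * S.emb x = S.emb x * g := by
  intro x
  have e := h.2 x x (by
    rcases hw with rfl | rfl
    · group
    · rw [← W_neg (X_le_W x.2), mul_inv_cancel_right])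
  calc g * S.emb x = (g * S.emb x * g⁻¹) * g := by group
    _ = S.emb x * g := by rw [e]

theorem split {g : G} {a : X} (h : S.Acts g a) :
    ∃ c : G, (∀ x : X, c * S.emb x = S.emb x * c) ∧ g = S.emb a * c := by
  refine ⟨(S.emb a)⁻¹ * g, S.cen_of_acts (w := 1) ?_ (Or.inl rfl), by group⟩
  have := Acts.mul S (Acts.inv S (S.acts_emb a)) h
  rwa [inv_mul_cancel] at this

theorem z_def : S.z = S.emb negX := rfl

theorem z_sq : S.z * S.z = 1 := by rw [← map_mul, negX_sq, map_one]

theorem z_ne : S.z ≠ 1 := fun h => negX_ne (S.emb_inj (by rw [map_one]; exact h))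

theorem mem_cen {c : G} (h : ∀ x : X, c * S.emb x = S.emb x * c) : c ∈ Subgroup.centralizer (Set.range S.emb) := by
  rw [Subgroup.mem_centralizer_iff]
  rintro _ ⟨x, rfl⟩
  exact (h x).symm

/-- An element acting trivially with square one is one or the central involution. -/
theorem invol_acts {g : G} {w : Equiv.Perm (Fin 240)} (h : S.Acts g w) (hw : w = 1 ∨ w = negP) (h2 : g * g = 1) :
    g = 1 ∨ g = S.z := S.invol g (S.cen_of_acts h hw) h2

/-- The inner parts of commuting elements commute. -/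
theorem inner_comm {a b : G} {x y : X} (ha : S.Acts a x) (hb : S.Acts b y) (hab : a * b = b * a) :
    x * y = y * x := by
  obtain ⟨c, hc, rfl⟩ := S.split ha
  obtain ⟨d, hd, rfl⟩ := S.split hb
  let cc : ↥(Subgroup.centralizer (Set.range S.emb)) := ⟨c, S.mem_cen hc⟩
  let dd : ↥(Subgroup.centralizer (Set.range S.emb)) := ⟨d, S.mem_cen hd⟩
  rw [mul_assoc, ← mul_assoc c, hc, mul_assoc (S.emb y), ← mul_assoc, ← map_mul,
    mul_assoc (S.emb y) d, ← mul_assoc d, hd, mul_assoc (S.emb x), ← mul_assoc (S.emb y), ← map_mul] at hab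
  -- the commutator lies in both parts
  have e : S.emb ((y * x)⁻¹ * (x * y)) = d * c * d⁻¹ * c⁻¹ := by
    rw [map_mul, map_inv]
    calc (S.emb (y * x))⁻¹ * S.emb (x * y) = (S.emb (y * x))⁻¹ * (S.emb (x * y) * (c * d)) * (c * d)⁻¹ := by group
      _ = (S.emb (y * x))⁻¹ * (S.emb (y * x) * (d * c)) * (c * d)⁻¹ := by rw [hab]
      _ = _ := by group
  have hcen : ∀ x' : X, (d * c * d⁻¹ * c⁻¹) * S.emb x' = S.emb x' * (d * c * d⁻¹ * c⁻¹) := fun x' => by
    have hm : d * c * d⁻¹ * c⁻¹ ∈ Subgroup.centralizer (Set.range S.emb) :=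
      mul_mem (mul_mem (mul_mem dd.2 cc.2) (inv_mem dd.2)) (inv_mem cc.2)
    exact (Subgroup.mem_centralizer_iff.1 hm _ ⟨x', rfl⟩).symm
  rcases X_centre (a := (y * x)⁻¹ * (x * y)) (fun b => S.emb_inj (by
    rw [map_mul S.emb b, map_mul S.emb _ b, e]; exact (hcen b).symm)) with h | h
  · exact (inv_mul_eq_one.1 h).symm
  · exfalso
    rw [h] at e
    exact S.not_comm ⁅dd, cc⁆ (Subgroup.commutator_mem_commutator (Subgroup.mem_top _) (Subgroup.mem_top _)) e.symm

/-- A parametrisation of an elementary subgroup by frame masks. -/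
structure Par (full : Bool) where
  /-- The parametrisation. -/
  th : ℕ → G
  mul : ∀ a b, inV full a = true → inV full b = true → th (a ^^^ b) = th a * th b
  act : ∀ v, inV full v = true → S.Acts (th v) (frP v)
  even : ∀ v < 256, parV v = false → ∀ h : frP v ∈ X, th v = S.emb ⟨frP v, h⟩
  lift : ∀ t : Fin 5, ∀ v, inV full v = true →
    S.emb ⟨nT t, nT_mem t⟩ * th v * (S.emb ⟨nT t, nT_mem t⟩)⁻¹ = th (gfun t v)
  only : full = false → ∀ x : G, x * x = 1 → ∀ u < 256, parV u = true → ¬ S.Acts x (frP u)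

variable {S} {full : Bool} (P : S.Par full)
include P

theorem Par.zero : P.th 0 = 1 := by
  have h := P.mul 0 0 (Masks.inV_zero _) (Masks.inV_zero _)
  rw [Nat.xor_self] at h
  exact mul_left_cancel (h.symm.trans (mul_one (P.th 0)).symm)

theorem Par.sq {v : ℕ} (hv : inV full v = true) : P.th v * P.th v = 1 := by
  rw [← P.mul v v hv hv, Nat.xor_self, P.zero]

theorem Par.comm {a b : ℕ} (ha : inV full a = true) (hb : inV full b = true) : P.th a * P.th b = P.th b * P.th a := by
  rw [← P.mul a b ha hb, ← P.mul b a hb ha, Nat.xor_comm]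

theorem Par.top : P.th 255 = S.z := by
  rw [P.even 255 (by norm_num) (by decide) ((frP_X (by norm_num)).2 (by decide))]
  exact congrArg S.emb (Subtype.ext frP_neg)

theorem Par.inj {a b : ℕ} (ha : inV full a = true) (hb : inV full b = true) (e : P.th a = P.th b) : a = b := by
  have hd := Masks.inV_xor ha hb
  have h1 : P.th (a ^^^ b) = 1 := by rw [P.mul a b ha hb, e, P.sq hb]
  have hlt := Masks.inV_lt hd
  have h2 := P.act _ hd
  rw [h1] at h2
  refine Nat.xor_eq_zero_iff.1 ?_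
  rcases Acts.unique S h2 (S.acts_cen (c := 1) fun x => by rw [one_mul, mul_one]) with h | h
  · exact frP_inj hlt (by norm_num) (h.trans frP_zero.symm)
  · rw [one_mul, ← frP_neg] at h
    rw [frP_inj hlt (by norm_num) h, P.top] at h1
    exact absurd h1 S.z_ne

/-- The masks induced by the normalizer. -/
def Par.maps : Subgroup (Equiv.Perm (Fin 256)) where
  carrier := {μ | (∀ v < 256, inV full v = false → mf μ v = v) ∧ (∀ v, inV full v = true → inV full (mf μ v) = true) ∧
    ∃ m : G, ∀ v, inV full v = true → m * P.th v * m⁻¹ = P.th (mf μ v)}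
  one_mem' := ⟨fun v hv _ => Masks.mf_one hv, fun v hv => by rwa [Masks.mf_one (Masks.inV_lt hv)],
    1, fun v hv => by rw [Masks.mf_one (Masks.inV_lt hv)]; group⟩
  mul_mem' := fun {a b} ⟨h1, h2, m, h3⟩ ⟨k1, k2, n, k3⟩ => ⟨fun v hv h => by rw [Masks.mf_mul, k1 v hv h, h1 v hv h],
    fun v hv => by rw [Masks.mf_mul]; exact h2 _ (k2 v hv), m * n, fun v hv => by
      rw [Masks.mf_mul, ← h3 _ (k2 v hv), ← k3 v hv]; group⟩
  inv_mem' := fun {a} ⟨h1, h2, m, h3⟩ => by
    have g1 : ∀ v < 256, inV full v = false → mf a⁻¹ v = v := fun v hv h => by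
      have := Masks.mf_inv (m := a) hv
      rwa [h1 v hv h] at this
    have g2 : ∀ v, inV full v = true → inV full (mf a⁻¹ v) = true := fun v hv => by
      cases hc : inV full (mf a⁻¹ v)
      · have := h1 _ (Masks.mf_lt _ _) hc
        rw [Masks.mf_inv' (Masks.inV_lt hv)] at this
        rw [← this, hv] at hc
        exact hc.symm
      · rfl
    refine ⟨g1, g2, m⁻¹, fun v hv => ?_⟩
    have := h3 _ (g2 v hv)
    rw [Masks.mf_inv' (Masks.inV_lt hv)] at this
    rw [← this]
    group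

theorem Par.lift_perm (t : Fin 5) : ∃ μ ∈ P.maps, ∀ v, inV full v = true → mf μ v = gfun t v := by
  have hg : ∀ v < 256, gfun t v < 256 ∧ parV (gfun t v) = parV v := fun v hv => gfun_facts t ⟨v, hv⟩
  have hV : ∀ v, inV full v = true → inV full (gfun t v) = true := fun v hv => by
    obtain ⟨h1, h2⟩ := hg v (Masks.inV_lt hv)
    exact Masks.inV_iff.2 ⟨h1, fun e => by rw [parM_eq, h2, ← parM_eq]; exact (Masks.inV_iff.1 hv).2 e⟩
  have hinj : ∀ a < 256, ∀ b < 256, gfun t a = gfun t b → a = b := fun a ha b hb e => by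
    refine frP_inj ha hb (mul_left_cancel (a := nT t) ?_)
    rw [lift_frP t ha, lift_frP t hb, e]
  let f : Fin 256 → Fin 256 := fun v => if inV full v = true then Fin.ofNat 256 (gfun t v) else v
  have hf : ∀ v : Fin 256, (f v : ℕ) = if inV full v = true then gfun t v else v := fun v => by
    simp only [f]
    split
    · exact Nat.mod_eq_of_lt (hg v v.2).1
    · rfl
  have hb : Function.Bijective f := Finite.injective_iff_bijective.1 fun a b e => by
    have e := congrArg Fin.val e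
    rw [hf, hf] at e
    split at e <;> split at e
    · exact Fin.ext (hinj a a.2 b b.2 e)
    · rename_i h1 h2
      exact absurd (e ▸ hV a h1) h2
    · rename_i h1 h2
      exact absurd (e ▸ hV b h2) h1
    · exact Fin.ext e
  have hm : ∀ v < 256, mf (Equiv.ofBijective f hb) v = if inV full v = true then gfun t v else v := fun v hv => by
    rw [mf, Equiv.ofBijective_apply, hf]
    simp only [Fin.val_ofNat, Nat.mod_eq_of_lt hv]
  refine ⟨_, ⟨fun v hv h => by rw [hm v hv, if_neg (by rw [h]; exact Bool.noConfusion)],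
    fun v hv => by rw [hm v (Masks.inV_lt hv), if_pos hv]; exact hV v hv, S.emb ⟨nT t, nT_mem t⟩, fun v hv => ?_⟩,
    fun v hv => by rw [hm v (Masks.inV_lt hv), if_pos hv]⟩
  rw [hm v (Masks.inV_lt hv), if_pos hv]
  exact P.lift t v hv

theorem Par.maps_ok : Masks.Maps full P.maps where
  out := fun μ hμ v hv h => hμ.1 v hv h
  lin := fun μ hμ a b ha hb => by
    obtain ⟨-, h2, m, h3⟩ := hμ
    refine P.inj (h2 _ (Masks.inV_xor ha hb)) (Masks.inV_xor (h2 a ha) (h2 b hb)) ?_
    rw [← h3 _ (Masks.inV_xor ha hb), P.mul a b ha hb, P.mul _ _ (h2 a ha) (h2 b hb), ← h3 a ha, ← h3 b hb]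
    group
  gen := fun t ht => P.lift_perm ⟨t, ht⟩
  stab := fun μ hμ h255 => by
    obtain ⟨-, h2, m, h3⟩ := hμ
    have hz : m * S.z = S.z * m := by
      have := h3 255 (Masks.inV_full _)
      rw [h255, P.top] at this
      calc m * S.z = (m * S.z * m⁻¹) * m := by group
        _ = S.z * m := by rw [this]
    obtain ⟨w, hw⟩ := S.exists_acts hz
    have key : ∀ v, inV full v = true → w * frP v * w⁻¹ = frP (mf μ v) ∨ w * frP v * w⁻¹ = frP (mf μ v) * negP := by
      intro v hv
      have h := Acts.conj S hw (P.act v hv)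
      rw [h3 v hv] at h
      exact Acts.unique S h (P.act _ (h2 v hv))
    have heven : ∀ v < 256, parV v = false → w * frP v * w⁻¹ = frP (mf μ v) := by
      intro v hv hp
      have hV : inV full v = true := Masks.inV_even hv hp
      have hv' := Masks.inV_lt (h2 v hV)
      have hX := (frP_X hv).2 hp
      have hXw : w * frP v * w⁻¹ ∈ X := W_conj hw.1 hX
      have hp' : parV (mf μ v) = false := (frP_X hv').1 (by
        rcases key v hV with h | h
        · rwa [← h]
        · have := mul_mem hXw negP_mem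
          rwa [h, mul_assoc, negP_sq, mul_one] at this)
      have e := hw.2 ⟨frP v, hX⟩ ⟨_, hXw⟩ rfl
      rw [← P.even v hv hp hX, h3 v hV, P.even _ hv' hp' ((frP_X hv').2 hp')] at e
      exact (congrArg Subtype.val (S.emb_inj e)).symm
    refine ⟨fun v hv h => ?_, fun v hv h => ?_, fun hfull v hv h => ?_⟩
    · have hp := (class_facts ⟨v, hv⟩).1 h
      have hv' := Masks.inV_lt (h2 v (Masks.inV_even hv hp))
      rw [(fix_class_at hv').1, fixN_conj hv hv' (heven v hv hp), ← (fix_class_at hv).1]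
      exact h
    · have hp := (class_facts ⟨v, hv⟩).2.1 h
      have hv' := Masks.inV_lt (h2 v (Masks.inV_even hv hp))
      rw [(fix_class_at hv').2.1, fixN_conj hv hv' (heven v hv hp), ← (fix_class_at hv).2.1]
      exact h
    · subst hfull
      have hV := Masks.inV_true hv
      have hv' := Masks.inV_lt (h2 v hV)
      rcases key v hV with e | e
      · exact ((class_facts ⟨_, hv'⟩).2.2 (by
          rw [(fix_class_at hv').2.2, fixN_conj hv hv' e, ← (fix_class_at hv).2.2]; exact h)).2.1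
      · rw [← frP_neg, frP_mul hv' (by norm_num)] at e
        have hx : mf μ v ^^^ 255 < 256 := xor_lt256 hv' (by norm_num)
        have h1 := ((class_facts ⟨_, hx⟩).2.2 (by
          rw [(fix_class_at hx).2.2, fixN_conj hv hx e, ← (fix_class_at hv).2.2]; exact h)).2.2
        simp only [Nat.xor_assoc, Nat.xor_self, Nat.xor_zero] at h1
        exact h1

/-- The normalizer of the elementary subgroup centralizes the central involution. -/
theorem Par.normalizer_z {m : G} (hm : ∀ v, inV full v = true → ∃ w, inV full w = true ∧ m * P.th v * m⁻¹ = P.th w) :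
    m * S.z = S.z * m := by
  classical
  choose f hf using fun v : {v : Fin 256 // inV full v = true} => hm v v.2
  let g : Fin 256 → Fin 256 := fun v => if h : inV full v = true then Fin.ofNat 256 (f ⟨v, h⟩) else v
  have hg : ∀ v : Fin 256, ∀ h : inV full v = true, (g v : ℕ) = f ⟨v, h⟩ := fun v h => by
    simp only [g, dif_pos h]
    exact Nat.mod_eq_of_lt (Masks.inV_lt (hf ⟨v, h⟩).1)
  have hg' : ∀ v : Fin 256, ¬ inV full v = true → g v = v := fun v h => by simp only [g, dif_neg h]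
  have hb : Function.Bijective g := Finite.injective_iff_bijective.1 fun a b e => by
    by_cases h1 : inV full a = true <;> by_cases h2 : inV full b = true
    · have e1 := congrArg Fin.val e
      rw [hg a h1, hg b h2] at e1
      refine Fin.ext (P.inj h1 h2 ?_)
      have ea := (hf ⟨a, h1⟩).2
      rw [e1, ← (hf ⟨b, h2⟩).2] at ea
      exact mul_left_cancel (mul_right_cancel ea)
    · rw [hg' b h2] at e
      exact absurd (show inV full b = true by rw [← e, hg a h1]; exact (hf ⟨a, h1⟩).1) h2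
    · rw [hg' a h1] at e
      exact absurd (show inV full a = true by rw [e, hg b h2]; exact (hf ⟨b, h2⟩).1) h1
    · rwa [hg' a h1, hg' b h2] at e
  have hmem : Equiv.ofBijective g hb ∈ P.maps := by
    have hev : ∀ v < 256, (Fin.ofNat 256 v : ℕ) = v := fun v hv => Nat.mod_eq_of_lt hv
    refine ⟨fun v hv h => ?_, fun v hv => ?_, m, fun v hv => ?_⟩
    · rw [mf, Equiv.ofBijective_apply, hg' _ (by rw [hev v hv, h]; exact Bool.noConfusion), hev v hv]
    · have h : inV full (Fin.ofNat 256 v : ℕ) = true := by rwa [hev v (Masks.inV_lt hv)]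
      rw [mf, Equiv.ofBijective_apply, hg _ h]
      exact (hf ⟨_, h⟩).1
    · have h : inV full (Fin.ofNat 256 v : ℕ) = true := by rwa [hev v (Masks.inV_lt hv)]
      have e := (hf ⟨_, h⟩).2
      simp only at e
      rw [hev v (Masks.inV_lt hv)] at e
      rw [mf, Equiv.ofBijective_apply, hg _ h]
      exact e
  have h255 := P.maps_ok.fixed _ hmem
  have h : inV full ((255 : Fin 256) : ℕ) = true := Masks.inV_full _
  rw [mf, Equiv.ofBijective_apply, show Fin.ofNat 256 255 = (255 : Fin 256) from rfl, hg _ h] at h255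
  have e := (hf ⟨255, h⟩).2
  rw [h255] at e
  rw [show ((255 : Fin 256) : ℕ) = 255 from rfl, P.top] at e
  calc m * S.z = (m * S.z * m⁻¹) * m := by group
    _ = S.z * m := by rw [e]

omit P in
theorem bool_xor_false {a b : Bool} (ha : a = true) (hb : b = true) : xor a b = false := by rw [ha, hb]; rfl

/-- A conjugate of the central involution inside the elementary subgroup is the central involution. -/
theorem Par.fused (g : G) {v1 : ℕ} (hv1 : inV full v1 = true) (hg : g * S.z * g⁻¹ = P.th v1) : g * S.z = S.z * g := by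
  classical
  -- the conjugate subgroup centralizes the central involution
  have hcz : ∀ v, inV full v = true → g⁻¹ * P.th v * g * S.z = S.z * (g⁻¹ * P.th v * g) := fun v hv => by
    have e := P.comm hv hv1
    rw [← hg] at e
    calc g⁻¹ * P.th v * g * S.z = g⁻¹ * (P.th v * (g * S.z * g⁻¹)) * g := by group
      _ = g⁻¹ * (g * S.z * g⁻¹ * P.th v) * g := by rw [e]
      _ = _ := by group
  choose w0 hw0 using fun v : {v : ℕ // inV full v = true} => S.exists_acts (hcz v v.2)
  -- the subgroup of induced permutations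
  have hclosed : ∀ {v u : ℕ} {a b : Equiv.Perm (Fin 240)}, inV full v = true → inV full u = true →
      S.Acts (g⁻¹ * P.th v * g) a → S.Acts (g⁻¹ * P.th u * g) b → S.Acts (g⁻¹ * P.th (v ^^^ u) * g) (a * b) := by
    intro v u a b hv hu ha hb
    have := Acts.mul S ha hb
    rwa [show g⁻¹ * P.th v * g * (g⁻¹ * P.th u * g) = g⁻¹ * (P.th v * P.th u) * g by group, ← P.mul v u hv hu] at this
  have hone : S.Acts (g⁻¹ * P.th 0 * g) 1 := by
    rw [P.zero, mul_one, inv_mul_cancel]
    exact S.acts_cen fun x => by rw [one_mul, mul_one]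
  let B0 : Subgroup (Equiv.Perm (Fin 240)) :=
    { carrier := {a | ∃ v, inV full v = true ∧ S.Acts (g⁻¹ * P.th v * g) a}
      one_mem' := ⟨0, Masks.inV_zero _, hone⟩
      mul_mem' := fun {a b} ⟨v, hv, ha⟩ ⟨u, hu, hb⟩ => ⟨v ^^^ u, Masks.inV_xor hv hu, hclosed hv hu ha hb⟩
      inv_mem' := fun {a} ⟨v, hv, ha⟩ => ⟨v, hv, by
        have := Acts.inv S ha
        rwa [show (g⁻¹ * P.th v * g)⁻¹ = g⁻¹ * (P.th v)⁻¹ * g by group, inv_eq_of_mul_eq_one_right (P.sq hv)] at this⟩ }
  have hB0W : B0 ≤ W := fun a ⟨v, _, ha⟩ => ha.1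
  have hsq0 : ∀ {v : ℕ} {a : Equiv.Perm (Fin 240)}, inV full v = true → S.Acts (g⁻¹ * P.th v * g) a →
      a * a = 1 ∨ a * a = negP := fun {v a} hv ha => by
    have h := hclosed hv hv ha ha
    rw [Nat.xor_self] at h
    rcases Acts.unique S h hone with e | e
    · exact Or.inl e
    · exact Or.inr (by rwa [one_mul] at e)
  have h2 : IsPGroup 2 B0 := fun ⟨a, v, hv, ha⟩ => ⟨2, Subtype.ext (by
    show a ^ (2 ^ 2) = 1
    rw [show (2 : ℕ) ^ 2 = 2 * 2 from rfl, pow_mul, pow_two, pow_two]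
    rcases hsq0 hv ha with e | e <;> rw [e]
    exacts [one_mul 1, negP_sq])⟩
  obtain ⟨x, hx, hxT⟩ := conj_into_Tg hB0W h2
  -- the conjugated elements
  let k : G := S.emb ⟨x, hx⟩ * g⁻¹
  let a : ℕ → G := fun v => k * P.th v * k⁻¹
  have hkz : ∀ m : G, m * S.z = S.z * m → S.emb ⟨x, hx⟩ * m * (S.emb ⟨x, hx⟩)⁻¹ * S.z =
      S.z * (S.emb ⟨x, hx⟩ * m * (S.emb ⟨x, hx⟩)⁻¹) := fun m hm => by
    have he := S.emb_z_comm ⟨x, hx⟩
    calc S.emb ⟨x, hx⟩ * m * (S.emb ⟨x, hx⟩)⁻¹ * S.z
        = S.emb ⟨x, hx⟩ * m * (S.emb ⟨x, hx⟩)⁻¹ * (S.z * S.emb ⟨x, hx⟩) * (S.emb ⟨x, hx⟩)⁻¹ := by group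
      _ = S.emb ⟨x, hx⟩ * (m * S.z) * (S.emb ⟨x, hx⟩)⁻¹ := by rw [← he]; group
      _ = (S.emb ⟨x, hx⟩ * S.z) * m * (S.emb ⟨x, hx⟩)⁻¹ := by rw [hm]; group
      _ = S.z * (S.emb ⟨x, hx⟩ * m * (S.emb ⟨x, hx⟩)⁻¹) := by rw [he]; group
  have hav : ∀ v, a v = S.emb ⟨x, hx⟩ * (g⁻¹ * P.th v * g) * (S.emb ⟨x, hx⟩)⁻¹ := fun v => by
    simp only [a, k]; group
  have hamul : ∀ v u, inV full v = true → inV full u = true → a (v ^^^ u) = a v * a u := fun v u hv hu => by
    simp only [a, P.mul v u hv hu]; group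
  have hasq : ∀ v, inV full v = true → a v * a v = 1 := fun v hv => by
    rw [← hamul v v hv hv, Nat.xor_self]; simp only [a, P.zero]; group
  have hacomm : ∀ v u, inV full v = true → inV full u = true → a v * a u = a u * a v := fun v u hv hu => by
    rw [← hamul v u hv hu, ← hamul u v hu hv, Nat.xor_comm]
  have hainj : ∀ v u, inV full v = true → inV full u = true → a v = a u → v = u := fun v u hv hu e =>
    P.inj hv hu (by simp only [a] at e; exact mul_left_cancel (mul_right_cancel e))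
  have hacts : ∀ v, inV full v = true → ∃ w ∈ Tg, S.Acts (a v) w := fun v hv => by
    refine ⟨x * w0 ⟨v, hv⟩ * x⁻¹, hxT _ ⟨v, hv, hw0 ⟨v, hv⟩⟩, ?_⟩
    rw [hav]
    exact Acts.conj S (S.acts_emb ⟨x, hx⟩) (hw0 ⟨v, hv⟩)
  have haTg : ∀ {v : ℕ} {w : Equiv.Perm (Fin 240)}, inV full v = true → S.Acts (a v) w → w ∈ Tg := fun {v w} hv hw => by
    obtain ⟨w', hw', hact⟩ := hacts v hv
    rcases Acts.unique S hw hact with e | e <;> rw [e]
    exacts [hw', mul_mem hw' neg_idx.mem_Tg]
  have haz : a v1 = S.z := by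
    rw [hav, ← hg, show g⁻¹ * (g * S.z * g⁻¹) * g = S.z by group, S.emb_z_comm, mul_inv_cancel_right]
  have hv10 : v1 ≠ 0 := fun e => by
    rw [e] at haz
    simp only [a, P.zero, mul_one, mul_inv_cancel] at haz
    exact S.z_ne haz.symm
  have ha0 : a 0 = 1 := by simp [a, P.zero]
  -- the inner part
  let BX : Subgroup (Equiv.Perm (Fin 240)) :=
    { carrier := {w | w ∈ X ∧ ∃ v, inV full v = true ∧ S.Acts (a v) w}
      one_mem' := ⟨one_mem X, 0, Masks.inV_zero _, ha0 ▸ S.acts_cen fun x => by rw [one_mul, mul_one]⟩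
      mul_mem' := fun {w w'} ⟨hw, v, hv, h⟩ ⟨hw', u, hu, h'⟩ =>
        ⟨mul_mem hw hw', v ^^^ u, Masks.inV_xor hv hu, hamul v u hv hu ▸ Acts.mul S h h'⟩
      inv_mem' := fun {w} ⟨hw, v, hv, h⟩ => ⟨inv_mem hw, v, hv, by
        have := Acts.inv S h
        rwa [inv_eq_of_mul_eq_one_right (hasq v hv)] at this⟩ }
  have hBTg : BX ≤ Tg := fun w ⟨_, v, hv, h⟩ => haTg hv h
  have hBX : BX ≤ X := fun w h => h.1
  have hBc : ∀ w ∈ BX, ∀ w' ∈ BX, w * w' = w' * w := fun w ⟨hw, v, hv, h⟩ w' ⟨hw', u, hu, h'⟩ =>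
    congrArg Subtype.val (S.inner_comm (x := ⟨w, hw⟩) (y := ⟨w', hw'⟩) h h' (hacomm v u hv hu))
  have hBsq : ∀ w ∈ BX, w * w = 1 ∨ w * w = negP := fun w ⟨_, v, hv, h⟩ => by
    have h := Acts.mul S h h
    rw [hasq v hv] at h
    rcases Acts.unique S h (S.acts_cen (c := 1) fun x => by rw [one_mul, mul_one]) with e | e
    · exact Or.inl e
    · exact Or.inr (by rwa [one_mul] at e)
  -- outer elements
  have hodd : ∀ {v : ℕ} {w : Equiv.Perm (Fin 240)}, inV full v = true → S.Acts (a v) w → w ∉ X → full = true := by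
    intro v w hv h hwX
    cases hfl : full
    swap; · rfl
    exfalso
    have hT := haTg hv h
    have h1 := Acts.mul S h h
    rw [hasq v hv] at h1
    rcases Acts.unique S h1 (S.acts_cen (c := 1) fun x => by rw [one_mul, mul_one]) with e | e
    · obtain ⟨y, hy, u, hu, e'⟩ := inv_conj hT e
      have hpar : parV u = true := by
        cases hp : parV u
        · exfalso
          refine hwX ?_
          have h3 := (frP_X hu).2 hp
          rw [← e'] at h3
          have := mul_mem (mul_mem (inv_mem hy) h3) hy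
          rwa [show y⁻¹ * (y * w * y⁻¹) * y = w by group] at this
        · rfl
      refine P.only hfl (S.emb ⟨y, hy⟩ * a v * (S.emb ⟨y, hy⟩)⁻¹) ?_ u hu hpar (e' ▸ Acts.conj S (S.acts_emb ⟨y, hy⟩) h)
      rw [show S.emb ⟨y, hy⟩ * a v * (S.emb ⟨y, hy⟩)⁻¹ * (S.emb ⟨y, hy⟩ * a v * (S.emb ⟨y, hy⟩)⁻¹) =
        S.emb ⟨y, hy⟩ * (a v * a v) * (S.emb ⟨y, hy⟩)⁻¹ by group, hasq v hv, mul_one, mul_inv_cancel]
    · exact hwX (four_conj hT (by rwa [one_mul] at e)).1
  have hinn : ∀ {v : ℕ} {w w' : Equiv.Perm (Fin 240)}, S.Acts (a v) w → S.Acts (a v) w' → (w ∈ X ↔ w' ∈ X) := by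
    intro v w w' h h'
    rcases Acts.unique S h h' with e | e
    · rw [e]
    · rw [e]
      exact ⟨fun hh => by simpa [mul_assoc, negP_sq] using mul_mem hh negP_mem, fun hh => mul_mem hh negP_mem⟩
  choose wv hwvT hwv using fun v : {v : ℕ // inV full v = true} => hacts v v.2
  have hcardB : 128 ≤ Nat.card BX := by
    let Vin : Finset ℕ := (Finset.range 256).filter fun v => ∃ h : inV full v = true, wv ⟨v, h⟩ ∈ X
    have h128 : 128 ≤ Vin.card := by
      cases hfl : full with
      | false =>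
        have : ((Finset.range 256).filter fun v => parV v = false).card ≤ Vin.card := Finset.card_le_card fun v hv => by
          simp only [Finset.mem_filter, Finset.mem_range] at hv
          have hV : inV full v = true := Masks.inV_even hv.1 hv.2
          refine Finset.mem_filter.2 ⟨Finset.mem_range.2 hv.1, hV, ?_⟩
          by_contra hne
          have := hodd hV (hwv ⟨v, hV⟩) hne
          rw [hfl] at this
          exact Bool.noConfusion this
        exact le_trans (by decide +kernel) this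
      | true =>
        have hV : ∀ v < 256, inV full v = true := fun v hv => hfl ▸ Masks.inV_true hv
        by_cases hall : ∀ v < 256, v ∈ Vin
        · have : (Finset.range 256).card ≤ Vin.card := Finset.card_le_card fun v hv => hall v (Finset.mem_range.1 hv)
          rw [Finset.card_range] at this
          omega
        push_neg at hall
        obtain ⟨v0, hv0, hout⟩ := hall
        have hout' : wv ⟨v0, hV v0 hv0⟩ ∉ X := fun h => hout (Finset.mem_filter.2 ⟨Finset.mem_range.2 hv0, _, h⟩)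
        have hle : ((Finset.range 256) \ Vin).card ≤ Vin.card := by
          refine Finset.card_le_card_of_injOn (fun v => v ^^^ v0) (fun v hv => ?_) fun p _ q _ e => ?_
          · simp only [Finset.coe_sdiff, Set.mem_diff, Finset.mem_coe, Finset.mem_range] at hv
            have hx' : v ^^^ v0 < 256 := xor_lt256 hv.1 hv0
            have hvX : wv ⟨v, hV v hv.1⟩ ∉ X := fun h => hv.2 (Finset.mem_filter.2 ⟨Finset.mem_range.2 hv.1, _, h⟩)
            refine Finset.mem_filter.2 ⟨Finset.mem_range.2 hx', hV _ hx', ?_⟩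
            have h := Acts.mul S (hwv ⟨v, hV v hv.1⟩) (hwv ⟨v0, hV v0 hv0⟩)
            rw [← hamul v v0 (hV v hv.1) (hV v0 hv0)] at h
            exact (hinn (hwv ⟨_, hV _ hx'⟩) h).2
              ((X_parity (hwv ⟨v, hV v hv.1⟩).1 (hwv ⟨v0, hV v0 hv0⟩).1).2 (iff_of_false hvX hout'))
          · have := congrArg (· ^^^ v0) e
            simpa [Nat.xor_assoc] using this
        have hsub : Vin ⊆ Finset.range 256 := fun v hv => (Finset.mem_filter.1 hv).1
        have h256 := Finset.card_sdiff_add_card_eq_card hsub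
        rw [Finset.card_range] at h256
        omega
    have hmem : ∀ v : ↥Vin, ∀ e : Bool, ∃ h : inV full v = true,
        (wv ⟨v, h⟩ * bif e then negP else 1) ∈ BX := fun v e => by
      obtain ⟨h, hwX⟩ := (Finset.mem_filter.1 v.2).2
      refine ⟨h, mul_mem hwX (by cases e; exacts [one_mem X, negP_mem]), v, h, ?_⟩
      have := Acts.mul S (hwv ⟨v, h⟩) (show S.Acts 1 (bif e then negP else 1) by
        cases e
        · exact S.acts_cen fun x => by rw [one_mul, mul_one]
        · refine ⟨X_le_W negP_mem, fun p q e => ?_⟩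
          rw [show q = p from Subtype.ext (e.trans (by
            simp only [cond_true]
            rw [← W_neg (X_le_W p.2), mul_inv_cancel_right]))]
          group)
      rwa [mul_one] at this
    choose hV hB using hmem
    let F : ↥Vin × Bool → ↥BX × Bool := fun p =>
      (⟨_, hB p.1 p.2⟩, decide ((p.1 : ℕ) < (p.1 : ℕ) ^^^ v1))
    have hF : Function.Injective F := by
      rintro ⟨v, e⟩ ⟨u, e'⟩ h
      simp only [F, Prod.mk.injEq, Subtype.mk.injEq, decide_eq_decide] at h
      obtain ⟨h1, h2⟩ := h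
      have hsame : v = u := by
        have hd := Masks.inV_xor (hV v e) (hV u e')
        have ha' : S.Acts (a ((v : ℕ) ^^^ u)) (wv ⟨v, hV v e⟩ * wv ⟨u, hV u e'⟩) := by
          rw [hamul _ _ (hV v e) (hV u e')]
          exact Acts.mul S (hwv _) (hwv _)
        have hw : wv ⟨v, hV v e⟩ = wv ⟨u, hV u e'⟩ ∨ wv ⟨v, hV v e⟩ = wv ⟨u, hV u e'⟩ * negP := by
          cases e <;> cases e' <;> simp only [cond_false, cond_true, mul_one] at h1
          · exact Or.inl h1
          · exact Or.inr h1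
          · exact Or.inr (by rw [← h1, mul_assoc, negP_sq, mul_one])
          · exact Or.inl (mul_right_cancel h1)
        have hcase : wv ⟨v, hV v e⟩ * wv ⟨u, hV u e'⟩ = 1 ∨ wv ⟨v, hV v e⟩ * wv ⟨u, hV u e'⟩ = negP := by
          have hu2 := hBsq _ (show wv ⟨u, hV u e'⟩ ∈ BX from ⟨by
            obtain ⟨_, h⟩ := (Finset.mem_filter.1 u.2).2; exact h, u, hV u e', hwv _⟩)
          rcases hw with hw | hw <;> rw [hw]
          · exact hu2
          · rw [mul_assoc, ← W_neg (hwv ⟨u, hV u e'⟩).1, ← mul_assoc]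
            rcases hu2 with e | e <;> rw [e]
            · exact Or.inr (one_mul _)
            · exact Or.inl negP_sq
        rcases S.invol_acts ha' hcase (hasq _ hd) with e1 | e1
        · rw [← ha0] at e1
          exact Subtype.ext (Nat.xor_eq_zero_iff.1 (hainj _ _ hd (Masks.inV_zero _) e1))
        · rw [← haz] at e1
          have e2 := hainj _ _ hd hv1 e1
          exfalso
          have hne : (v : ℕ) ≠ u := fun h => hv10 (by rw [← e2, h, Nat.xor_self])
          rw [← e2, Masks.xor_cancel, Nat.xor_comm (v : ℕ) u, Masks.xor_cancel] at h2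
          rcases Nat.lt_or_gt_of_ne hne with hlt | hlt
          · exact absurd (h2.1 hlt) (by omega)
          · exact absurd (h2.2 hlt) (by omega)
      subst hsame
      cases e <;> cases e' <;> simp only [cond_false, cond_true, mul_one] at h1 <;>
        first | rfl | exact absurd (mul_eq_left.1 h1.symm) negP_ne | exact absurd (mul_eq_left.1 h1) negP_ne
    haveI : Finite BX := inferInstance
    have := Nat.card_le_card_of_injective F hF
    rw [Nat.card_prod, Nat.card_prod, Nat.card_eq_fintype_card (α := Bool), Fintype.card_bool,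
      Nat.card_eq_fintype_card (α := ↥Vin), Fintype.card_coe] at this
    omega
  -- normalising generators
  have hinner : ∀ w ∈ BX, w * w = 1 → ∀ hw : w ∈ X, ∃ v, inV full v = true ∧ a v = S.emb ⟨w, hw⟩ := by
    intro w hwB h1 hw
    obtain ⟨-, v, hv, h⟩ := hwB
    obtain ⟨c, hc, e⟩ := S.split (a := ⟨w, hw⟩) h
    have hc2 : c * c = 1 := by
      have hww : S.emb ⟨w, hw⟩ * S.emb ⟨w, hw⟩ = 1 := by
        rw [← map_mul, show (⟨w, hw⟩ : X) * ⟨w, hw⟩ = 1 from Subtype.ext h1, map_one]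
      have := hasq v hv
      rw [e] at this
      calc c * c = (S.emb ⟨w, hw⟩ * S.emb ⟨w, hw⟩) * (c * c) := by rw [hww, one_mul]
        _ = S.emb ⟨w, hw⟩ * (S.emb ⟨w, hw⟩ * c) * c := by group
        _ = S.emb ⟨w, hw⟩ * (c * S.emb ⟨w, hw⟩) * c := by rw [hc]
        _ = 1 := by rw [← this]; group
    rcases S.invol c hc hc2 with hc' | hc'
    · exact ⟨v, hv, by rw [e, hc', mul_one]⟩
    · refine ⟨v ^^^ v1, Masks.inV_xor hv hv1, ?_⟩
      rw [hamul v v1 hv hv1, haz, e, hc', mul_assoc, S.z_sq, mul_one]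
  have hfix : ∀ n : G, (∀ v, inV full v = true → ∃ u, inV full u = true ∧ n * a v * n⁻¹ = a u) →
      n * a 255 * n⁻¹ = a 255 := fun n hn => by
    have hm := P.normalizer_z (m := k⁻¹ * n * k) fun v hv => by
      obtain ⟨u, hu, e⟩ := hn v hv
      refine ⟨u, hu, ?_⟩
      simp only [a] at e
      calc k⁻¹ * n * k * P.th v * (k⁻¹ * n * k)⁻¹ = k⁻¹ * (n * (k * P.th v * k⁻¹) * n⁻¹) * k := by group
        _ = P.th u := by rw [e]; group
    simp only [a, P.top]
    calc n * (k * S.z * k⁻¹) * n⁻¹ = k * (k⁻¹ * n * k * S.z) * (n * k)⁻¹ := by group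
      _ = k * (S.z * (k⁻¹ * n * k)) * (n * k)⁻¹ := by rw [hm]
      _ = _ := by group
  have h255V : inV full 255 = true := Masks.inV_full _
  obtain ⟨w5, -, hw5⟩ := hacts 255 h255V
  have hw5T := haTg h255V hw5
  -- the conjugate of the central involution is central
  have hfin : (∃ s : X, a 255 = S.emb s ∧ ((s : Equiv.Perm (Fin 240)) = 1 ∨ (s : Equiv.Perm (Fin 240)) = negP)) →
      g * S.z = S.z * g := by
    rintro ⟨s, hs, hcase⟩
    have e : a 255 = S.z := by
      rcases hcase with h | h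
      · rw [show s = 1 from Subtype.ext h, map_one, ← ha0] at hs
        exact absurd (hainj _ _ h255V (Masks.inV_zero _) hs) (by norm_num)
      · rw [hs, show s = negX from Subtype.ext h]
    simp only [a, k, P.top] at e
    have he := S.emb_z_comm ⟨x, hx⟩
    have h1 : g⁻¹ * S.z * g = S.z := by
      calc g⁻¹ * S.z * g = (S.emb ⟨x, hx⟩)⁻¹ *
            (S.emb ⟨x, hx⟩ * g⁻¹ * S.z * (S.emb ⟨x, hx⟩ * g⁻¹)⁻¹) * S.emb ⟨x, hx⟩ := by group
        _ = (S.emb ⟨x, hx⟩)⁻¹ * (S.z * S.emb ⟨x, hx⟩) := by rw [e]; group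
        _ = _ := by rw [← he]; group
    calc g * S.z = g * (g⁻¹ * S.z * g) := by rw [h1]
      _ = S.z * g := by group
  rcases large_commutative hBTg hBX hBc hBsq hcardB with hF | hD
  · -- the frame
    have hinX : ∀ v, inV full v = true → ∀ w, S.Acts (a v) w → w ∈ X → ∃ u < 256, parV u = false ∧
        ∃ hu : frP u ∈ X, a v = S.emb ⟨frP u, hu⟩ := by
      intro v hv w h hwX
      obtain ⟨u, hu, hp, rfl⟩ := (hF w).1 ⟨hwX, v, hv, h⟩
      obtain ⟨c, hc, e⟩ := S.split (a := ⟨frP u, hwX⟩) h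
      have hc2 : c * c = 1 := by
        have hww : S.emb ⟨frP u, hwX⟩ * S.emb ⟨frP u, hwX⟩ = 1 := by
          rw [← map_mul, show (⟨frP u, hwX⟩ : X) * ⟨frP u, hwX⟩ = 1 from Subtype.ext (by
            show frP u * frP u = 1
            rw [frP_mul hu hu, Nat.xor_self, frP_zero]), map_one]
        have := hasq v hv
        rw [e] at this
        calc c * c = (S.emb ⟨frP u, hwX⟩ * S.emb ⟨frP u, hwX⟩) * (c * c) := by rw [hww, one_mul]
          _ = S.emb ⟨frP u, hwX⟩ * (S.emb ⟨frP u, hwX⟩ * c) * c := by group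
          _ = S.emb ⟨frP u, hwX⟩ * (c * S.emb ⟨frP u, hwX⟩) * c := by rw [hc]
          _ = 1 := by rw [← this]; group
      rcases S.invol c hc hc2 with hc' | hc'
      · exact ⟨u, hu, hp, hwX, by rw [e, hc', mul_one]⟩
      · have h5 : u ^^^ 255 < 256 := xor_lt256 hu (by norm_num)
        have hp5 : parV (u ^^^ 255) = false := by rw [parV_xor, hp]; decide
        refine ⟨_, h5, hp5, (frP_X h5).2 hp5, ?_⟩
        rw [e, hc', ← map_mul]
        refine congrArg S.emb (Subtype.ext ?_)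
        show frP u * negP = frP (u ^^^ 255)
        rw [← frP_neg, frP_mul hu (by norm_num)]
    have hout : ∀ v, inV full v = true → ∀ w, S.Acts (a v) w → w ∉ X → ∃ u < 256, parV u = true ∧ w = frP u := by
      intro v hv w h hwX
      have hcm : ∀ u < 256, parV u = false → w * frP u = frP u * w := by
        intro u hu hp
        have hX' := (frP_X hu).2 hp
        obtain ⟨v', hv', e⟩ := hinner (frP u) ((hF _).2 ⟨u, hu, hp, rfl⟩)
          (by rw [frP_mul hu hu, Nat.xor_self, frP_zero]) hX'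
        have h1 := h.2 ⟨frP u, hX'⟩ ⟨_, W_conj h.1 hX'⟩ rfl
        rw [← e, hacomm v v' hv hv', mul_inv_cancel_right, e] at h1
        have h2 : frP u = w * frP u * w⁻¹ := congrArg Subtype.val (S.emb_inj h1)
        conv_rhs => rw [h2]
        group
      obtain ⟨u, hu, rfl⟩ := frame_centralizer (haTg hv h) hcm
      refine ⟨u, hu, ?_, rfl⟩
      cases hp : parV u
      · exact absurd ((frP_X hu).2 hp) hwX
      · rfl
    have hnorm : ∀ t : Fin 5, ∀ v, inV full v = true → ∀ u < 256, S.Acts (a v) (frP u) →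
        (∃ u', inV full u' = true ∧ S.emb ⟨nT t, nT_mem t⟩ * a v * (S.emb ⟨nT t, nT_mem t⟩)⁻¹ = a u') ∧
        (S.emb ⟨nT t, nT_mem t⟩ * a v * (S.emb ⟨nT t, nT_mem t⟩)⁻¹ = a v → gfun t u = u) := by
      intro t v hv u hu h
      obtain ⟨hg1, hg2⟩ := gfun_facts t ⟨u, hu⟩
      simp only at hg1 hg2
      have hd : gfun t u ^^^ u < 256 := xor_lt256 hg1 hu
      have hdp : parV (gfun t u ^^^ u) = false := by rw [parV_xor, hg2, Bool.xor_self]
      have hdX := (frP_X hd).2 hdp
      have e : S.emb ⟨nT t, nT_mem t⟩ * a v * (S.emb ⟨nT t, nT_mem t⟩)⁻¹ = S.emb ⟨_, hdX⟩ * a v := by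
        have h1 := h.2 (⟨nT t, nT_mem t⟩⁻¹ : X) ⟨frP u * (nT t)⁻¹ * (frP u)⁻¹,
          W_conj (frP_W u) (inv_mem (nT_mem t))⟩ rfl
        rw [map_inv] at h1
        calc S.emb ⟨nT t, nT_mem t⟩ * a v * (S.emb ⟨nT t, nT_mem t⟩)⁻¹
            = S.emb ⟨nT t, nT_mem t⟩ * (a v * (S.emb ⟨nT t, nT_mem t⟩)⁻¹ * (a v)⁻¹) * a v := by group
          _ = _ := by
            rw [h1, ← map_mul]
            congr 2
            refine Subtype.ext ?_
            show nT t * (frP u * (nT t)⁻¹ * (frP u)⁻¹) = frP (gfun t u ^^^ u)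
            rw [← mul_assoc, ← mul_assoc, lift_frP t hu, mul_inv_cancel_right,
              inv_eq_of_mul_eq_one_right (show frP u * frP u = 1 by rw [frP_mul hu hu, Nat.xor_self, frP_zero]),
              frP_mul hg1 hu]
      refine ⟨?_, fun h' => ?_⟩
      · obtain ⟨u', hu', e'⟩ := hinner (frP (gfun t u ^^^ u)) ((hF _).2 ⟨_, hd, hdp, rfl⟩)
          (by rw [frP_mul hd hd, Nat.xor_self, frP_zero]) hdX
        exact ⟨u' ^^^ v, Masks.inV_xor hu' hv, by rw [e, ← e', hamul u' v hu' hv]⟩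
      · rw [e, mul_eq_right] at h'
        have h2 : frP (gfun t u ^^^ u) = frP 0 := by
          rw [frP_zero]
          exact congrArg Subtype.val (S.emb_inj (h'.trans S.emb.map_one.symm))
        exact Nat.xor_eq_zero_iff.1 (frP_inj hd (by norm_num) h2)
    have hall : ∀ v, inV full v = true → ∃ u < 256, S.Acts (a v) (frP u) ∧
        (parV u = false → ∃ hu : frP u ∈ X, a v = S.emb ⟨frP u, hu⟩) := by
      intro v hv
      obtain ⟨w, -, hw⟩ := hacts v hv
      by_cases hwX : w ∈ X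
      · obtain ⟨u, hu, hp, huX, e⟩ := hinX v hv w hw hwX
        exact ⟨u, hu, e ▸ S.acts_emb ⟨frP u, huX⟩, fun _ => ⟨huX, e⟩⟩
      · obtain ⟨u, hu, hp, rfl⟩ := hout v hv w hw hwX
        exact ⟨u, hu, hw, fun h => absurd (hp.symm.trans h) Bool.noConfusion⟩
    obtain ⟨u, hu, hact, heven⟩ := hall 255 h255V
    have hfixed : ∀ t : Fin 5, gfun t u = u := fun t =>
      (hnorm t 255 h255V u hu hact).2 (hfix _ fun v hv => by
        obtain ⟨u', hu', hact', -⟩ := hall v hv
        exact (hnorm t v hv u' hu' hact').1)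
    rcases lift_fixed ⟨u, hu⟩ hfixed with e | e <;> simp only at e <;> subst e
    · obtain ⟨hX', e⟩ := heven (by decide)
      exact hfin ⟨_, e, Or.inl frP_zero⟩
    · obtain ⟨hX', e⟩ := heven (by decide)
      exact hfin ⟨_, e, Or.inr frP_neg⟩
  · -- the signs
    have hall : ∀ v, inV full v = true → ∃ b < 128, ∃ c, ∃ hc : c ∈ X, Idx b c ∧ a v = S.emb ⟨c, hc⟩ := by
      intro v hv
      obtain ⟨w, -, hw⟩ := hacts v hv
      have hwX : w ∈ X := by
        refine sign_centralizer (haTg hv hw) fun b hb c hc => ?_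
        obtain ⟨hc1, hcX⟩ := sign_inv hb hc
        obtain ⟨v', hv', e⟩ := hinner c ((hD c).2 ⟨b, hb, hc⟩) hc1 hcX
        have h1 := hw.2 ⟨c, hcX⟩ ⟨_, W_conj hw.1 hcX⟩ rfl
        rw [← e, hacomm v v' hv hv', mul_inv_cancel_right, e] at h1
        have h2 : c = w * c * w⁻¹ := congrArg Subtype.val (S.emb_inj h1)
        conv_rhs => rw [h2]
        group
      obtain ⟨b, hb, hi⟩ := (hD w).1 ⟨hwX, v, hv, hw⟩
      obtain ⟨v', hv', e⟩ := hinner w ((hD w).2 ⟨b, hb, hi⟩) (sign_inv hb hi).1 hwX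
      have hd := Masks.inV_xor hv hv'
      have hact : S.Acts (a (v ^^^ v')) (w * w) := by
        rw [hamul v v' hv hv', e]; exact Acts.mul S hw (S.acts_emb ⟨w, hwX⟩)
      rcases S.invol_acts hact (Or.inl (sign_inv hb hi).1) (hasq _ hd) with e1 | e1
      · rw [← ha0] at e1
        rw [Nat.xor_eq_zero_iff.1 (hainj _ _ hd (Masks.inV_zero _) e1)]
        exact ⟨b, hb, w, hwX, hi, e⟩
      · obtain ⟨b', hb', hi'⟩ := (hD (w * negP)).1 (BX.mul_mem ⟨hwX, v, hv, hw⟩
          ⟨negP_mem, v1, hv1, haz ▸ S.acts_emb negX⟩)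
        refine ⟨b', hb', w * negP, mul_mem hwX negP_mem, hi', ?_⟩
        rw [← haz] at e1
        have hve : v = v' ^^^ v1 := by
          rw [← hainj _ _ hd hv1 e1, Nat.xor_comm v v', Masks.xor_cancel]
        rw [hve, hamul v' v1 hv' hv1, haz, e, S.z_def, ← map_mul]
        rfl
    obtain ⟨b, hb, c, hc, hi, e⟩ := hall 255 h255V
    have hnorm : ∀ i : Fin 2, ∀ v, inV full v = true → ∀ b < 128, ∀ c, ∀ hc : c ∈ X, Idx b c → a v = S.emb ⟨c, hc⟩ →
        (∃ u, inV full u = true ∧ S.emb ⟨dG i, dG_mem i⟩ * a v * (S.emb ⟨dG i, dG_mem i⟩)⁻¹ = a u) ∧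
        (S.emb ⟨dG i, dG_mem i⟩ * a v * (S.emb ⟨dG i, dG_mem i⟩)⁻¹ = a v → sgI i b = b) := by
      intro i v hv b hb c hc hi e
      obtain ⟨c', hi', he⟩ := dG_sign i hb hi
      have hb' := (sgI_facts i ⟨b, hb⟩).1
      simp only at hb'
      obtain ⟨hc1, hcX⟩ := sign_inv hb' hi'
      obtain ⟨u, hu, e'⟩ := hinner c' ((hD c').2 ⟨_, hb', hi'⟩) hc1 hcX
      have hcj : S.emb ⟨dG i, dG_mem i⟩ * a v * (S.emb ⟨dG i, dG_mem i⟩)⁻¹ = a u := by
        rw [e', e, ← map_mul, ← map_inv, ← map_mul]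
        refine congrArg S.emb (Subtype.ext ?_)
        show dG i * c * (dG i)⁻¹ = c'
        rw [he, mul_inv_cancel_right]
      refine ⟨⟨u, hu, hcj⟩, fun h' => ?_⟩
      rw [hcj, e', e] at h'
      have h2 : c' = c := congrArg Subtype.val (S.emb_inj h')
      exact hi'.unique (h2.symm ▸ hi)
    have hfixed : ∀ i : Fin 2, sgI i b = b := fun i =>
      (hnorm i 255 h255V b hb c hc hi e).2 (hfix _ fun v hv => by
        obtain ⟨b', hb', c', hc', hi', e'⟩ := hall v hv
        exact (hnorm i v hv b' hb' c' hc' hi' e').1)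
    rcases sgI_fixed ⟨b, hb⟩ hfixed with h0 | h0 <;> simp only at h0 <;> subst h0
    · exact hfin ⟨_, e, Or.inl (hi.ext Idx.one)⟩
    · exact hfin ⟨_, e, Or.inr (hi.ext neg_idx)⟩

end Ctx

namespace Ctx

variable {G : Type*} [Group G] (S : Ctx G)

theorem frame_case (g : G) {v : ℕ} (hv : v < 256) (h : S.Acts (g * S.z * g⁻¹) (frP v)) : g * S.z = S.z * g := by
  classical
  have hg2 : g * S.z * g⁻¹ * (g * S.z * g⁻¹) = 1 := by
    rw [show g * S.z * g⁻¹ * (g * S.z * g⁻¹) = g * (S.z * S.z) * g⁻¹ by group, S.z_sq, mul_one, mul_inv_cancel]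
  -- the even part and, if one exists, an outer involution in the frame
  obtain ⟨full, u, x0, hu, hup, hx0, hx2, hodd, honly⟩ : ∃ (full : Bool) (u : ℕ) (x0 : G), u < 256 ∧
      (full = true → parV u = true) ∧ (full = true → S.Acts x0 (frP u)) ∧ (full = true → x0 * x0 = 1) ∧
      (parV v = true → full = true ∧ u = v ∧ x0 = g * S.z * g⁻¹) ∧
      (full = false → ∀ x : G, x * x = 1 → ∀ u < 256, parV u = true → ¬ S.Acts x (frP u)) := by
    cases hp : parV v
    · by_cases hex : ∃ x : G, x * x = 1 ∧ ∃ u < 256, parV u = true ∧ S.Acts x (frP u)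
      · obtain ⟨x, hx, u, hu, hpu, hxu⟩ := hex
        exact ⟨true, u, x, hu, fun _ => hpu, fun _ => hxu, fun _ => hx, fun e => Bool.noConfusion e,
          fun e => Bool.noConfusion e⟩
      · exact ⟨false, 1, 1, by norm_num, fun e => Bool.noConfusion e, fun e => Bool.noConfusion e,
          fun e => Bool.noConfusion e, fun e => Bool.noConfusion e,
          fun _ x hx u hu hpu hxu => hex ⟨x, hx, u, hu, hpu, hxu⟩⟩
    · exact ⟨true, v, _, hv, fun _ => hp, fun _ => h, fun _ => hg2, fun _ => ⟨rfl, rfl, rfl⟩,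
        fun e => Bool.noConfusion e⟩
  let th : ℕ → G := fun w =>
    if hw : frP (bif parV w then w ^^^ u else w) ∈ X then S.emb ⟨_, hw⟩ * (bif parV w then x0 else 1) else 1
  have hfullp : ∀ w, inV full w = true → parV w = true → full = true := fun w hw hp => by
    cases hfl : full
    · exact absurd ((Masks.inV_iff.1 hw).2 hfl) (by rw [parM_eq, hp]; exact Bool.noConfusion)
    · rfl
  have hin : ∀ w, inV full w = true →
      (bif parV w then w ^^^ u else w) < 256 ∧ frP (bif parV w then w ^^^ u else w) ∈ X := fun w hw => by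
    have hlt := Masks.inV_lt hw
    cases hp : parV w
    · exact ⟨hlt, (frP_X hlt).2 hp⟩
    · have h5 := xor_lt256 hlt hu
      exact ⟨h5, (frP_X h5).2 (by rw [parV_xor, hp, hup (hfullp w hw hp)]; rfl)⟩
  have hE : ∀ w < 256, parV w = false → ∀ h : frP w ∈ X, th w = S.emb ⟨frP w, h⟩ := fun w hw hp h => by
    have hq : frP (bif parV w then w ^^^ u else w) ∈ X := by rwa [hp]
    simp only [th, dif_pos hq, hp, cond_false, mul_one]
  have hO : ∀ w, inV full w = true → parV w = true → ∀ h : frP (w ^^^ u) ∈ X,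
      th w = S.emb ⟨frP (w ^^^ u), h⟩ * x0 := fun w hw hp h => by
    have hq : frP (bif parV w then w ^^^ u else w) ∈ X := by rwa [hp]
    simp only [th, dif_pos hq, hp, cond_true]
  have hxc : ∀ w < 256, ∀ h : frP w ∈ X, full = true → x0 * S.emb ⟨frP w, h⟩ = S.emb ⟨frP w, h⟩ * x0 := by
    intro w hw hX' hfl
    have h1 := (hx0 hfl).2 ⟨frP w, hX'⟩ ⟨frP w, hX'⟩ (by
      show frP w = frP u * frP w * (frP u)⁻¹
      rw [frP_comm hu hw, mul_inv_cancel_right])
    calc x0 * S.emb ⟨frP w, hX'⟩ = x0 * S.emb ⟨frP w, hX'⟩ * x0⁻¹ * x0 := by group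
      _ = _ := by rw [h1]
  have hem : ∀ p < 256, ∀ q < 256, ∀ hp : frP p ∈ X, ∀ hq : frP q ∈ X, ∀ hpq : frP (p ^^^ q) ∈ X,
      S.emb ⟨frP (p ^^^ q), hpq⟩ = S.emb ⟨frP p, hp⟩ * S.emb ⟨frP q, hq⟩ := fun p hp' q hq' hp hq hpq => by
    rw [← map_mul]
    exact congrArg S.emb (Subtype.ext (frP_mul hp' hq').symm)
  have hcast : ∀ {p q : ℕ}, p = q → ∀ hp : frP p ∈ X, ∀ hq : frP q ∈ X,
      S.emb ⟨frP p, hp⟩ = S.emb ⟨frP q, hq⟩ := fun {p q} e hp hq => by
    subst e; rfl
  let P : S.Par full :=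
    { th := th
      mul := fun p q hp hq => by
        have hpq := Masks.inV_xor hp hq
        have lp := Masks.inV_lt hp
        have lq := Masks.inV_lt hq
        cases e1 : parV p <;> cases e2 : parV q
        · have e3 : parV (p ^^^ q) = false := by rw [parV_xor, e1, e2]; rfl
          rw [hE _ (Masks.inV_lt hpq) e3 ((frP_X (Masks.inV_lt hpq)).2 e3), hE p lp e1 ((frP_X lp).2 e1),
            hE q lq e2 ((frP_X lq).2 e2)]
          exact hem p lp q lq _ _ _
        · have e3 : parV (p ^^^ q) = true := by rw [parV_xor, e1, e2]; rfl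
          have l5 := xor_lt256 lq hu
          have hX5 := (hin q hq).2
          rw [e2] at hX5
          have hX6 := (hin _ hpq).2
          rw [e3] at hX6
          simp only [cond_true] at hX5 hX6
          rw [hO _ hpq e3 hX6, hE p lp e1 ((frP_X lp).2 e1), hO q hq e2 hX5, ← mul_assoc,
            ← hem p lp _ l5 _ _ (by rw [← Nat.xor_assoc]; exact hX6)]
          exact congrArg (· * x0) (hcast (Nat.xor_assoc ..) _ _)
        · have e3 : parV (p ^^^ q) = true := by rw [parV_xor, e1, e2]; rfl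
          have l5 := xor_lt256 lp hu
          have hX5 := (hin p hp).2
          rw [e1] at hX5
          have hX6 := (hin _ hpq).2
          rw [e3] at hX6
          simp only [cond_true] at hX5 hX6
          rw [hO _ hpq e3 hX6, hO p hp e1 hX5, hE q lq e2 ((frP_X lq).2 e2), mul_assoc,
            hxc q lq _ (hfullp p hp e1), ← mul_assoc,
            ← hem _ l5 q lq _ _ (by rw [Nat.xor_assoc, Nat.xor_comm u q, ← Nat.xor_assoc]; exact hX6)]
          exact congrArg (· * x0) (hcast (by rw [Nat.xor_assoc, Nat.xor_comm q u, ← Nat.xor_assoc]) _ _)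
        · have e3 : parV (p ^^^ q) = false := by rw [parV_xor, e1, e2]; rfl
          have l5 := xor_lt256 lp hu
          have l6 := xor_lt256 lq hu
          have hX5 := (hin p hp).2
          rw [e1] at hX5
          have hX6 := (hin q hq).2
          rw [e2] at hX6
          simp only [cond_true] at hX5 hX6
          have hX7 := (frP_X (Masks.inV_lt hpq)).2 e3
          have hfl := hfullp p hp e1
          rw [hE _ (Masks.inV_lt hpq) e3 hX7, hO p hp e1 hX5, hO q hq e2 hX6,
            show S.emb ⟨_, hX5⟩ * x0 * (S.emb ⟨_, hX6⟩ * x0) = S.emb ⟨_, hX5⟩ * (x0 * S.emb ⟨_, hX6⟩) * x0 by group,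
            hxc _ l6 _ hfl, ← mul_assoc, mul_assoc _ x0 x0, hx2 hfl, mul_one,
            ← hem _ l5 _ l6 _ _ (by rw [Masks.xor_four, Nat.xor_self, Nat.xor_zero]; exact hX7)]
          congr 2
          rw [Masks.xor_four, Nat.xor_self, Nat.xor_zero]
      act := fun w hw => by
        have hlt := Masks.inV_lt hw
        cases e1 : parV w
        · rw [hE w hlt e1 ((frP_X hlt).2 e1)]
          exact S.acts_emb _
        · have hfl := hfullp w hw e1
          have hX5 := (hin w hw).2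
          rw [e1] at hX5
          simp only [cond_true] at hX5
          rw [hO w hw e1 hX5]
          have := Acts.mul S (S.acts_emb ⟨_, hX5⟩) (hx0 hfl)
          rwa [show ((⟨_, hX5⟩ : X) : Equiv.Perm (Fin 240)) * frP u = frP w by
            show frP (w ^^^ u) * frP u = frP w
            rw [frP_mul (xor_lt256 hlt hu) hu, Nat.xor_assoc, Nat.xor_self, Nat.xor_zero]] at this
      even := fun w hw hp h => hE w hw hp h
      lift := fun t w hw => by
        have hlt := Masks.inV_lt hw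
        obtain ⟨hg1, hg2'⟩ := gfun_facts t ⟨w, hlt⟩
        simp only at hg1 hg2'
        have hconj : ∀ p < 256, ∀ hp : frP p ∈ X, ∀ hq : frP (gfun t p) ∈ X,
            S.emb ⟨nT t, nT_mem t⟩ * S.emb ⟨frP p, hp⟩ * (S.emb ⟨nT t, nT_mem t⟩)⁻¹ = S.emb ⟨_, hq⟩ :=
          fun p hp' hp hq => by
            rw [← map_mul, ← map_inv, ← map_mul]
            refine congrArg S.emb (Subtype.ext ?_)
            show nT t * frP p * (nT t)⁻¹ = frP (gfun t p)
            rw [lift_frP t hp', mul_inv_cancel_right]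
        have hV : inV full (gfun t w) = true := Masks.inV_iff.2 ⟨hg1, fun e => by
          rw [parM_eq, hg2', ← parM_eq]; exact (Masks.inV_iff.1 hw).2 e⟩
        cases e1 : parV w
        · have e2 : parV (gfun t w) = false := hg2'.trans e1
          rw [hE w hlt e1 ((frP_X hlt).2 e1), hE _ hg1 e2 ((frP_X hg1).2 e2)]
          exact hconj w hlt _ _
        · have e2 : parV (gfun t w) = true := hg2'.trans e1
          have hfl := hfullp w hw e1
          obtain ⟨hu1, hu2⟩ := gfun_facts t ⟨u, hu⟩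
          simp only at hu1 hu2
          have l5 := xor_lt256 hlt hu
          obtain ⟨hg5, hg6⟩ := gfun_facts t ⟨w ^^^ u, l5⟩
          simp only at hg5 hg6
          have hX5 := (hin w hw).2
          rw [e1] at hX5
          have hX6 := (hin _ hV).2
          rw [e2] at hX6
          simp only [cond_true] at hX5 hX6
          have hX7 : frP (gfun t (w ^^^ u)) ∈ X := (frP_X hg5).2 (by rw [hg6]; exact (frP_X l5).1 hX5)
          have ld := xor_lt256 hu1 hu
          have hX8 : frP (gfun t u ^^^ u) ∈ X := (frP_X ld).2 (by rw [parV_xor, hu2, Bool.xor_self])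
          have hx : S.emb ⟨nT t, nT_mem t⟩ * x0 * (S.emb ⟨nT t, nT_mem t⟩)⁻¹ = S.emb ⟨_, hX8⟩ * x0 := by
            have h1 := (hx0 hfl).2 (⟨nT t, nT_mem t⟩⁻¹ : X) ⟨frP u * (nT t)⁻¹ * (frP u)⁻¹,
              W_conj (frP_W u) (inv_mem (nT_mem t))⟩ rfl
            rw [map_inv] at h1
            calc S.emb ⟨nT t, nT_mem t⟩ * x0 * (S.emb ⟨nT t, nT_mem t⟩)⁻¹
                = S.emb ⟨nT t, nT_mem t⟩ * (x0 * (S.emb ⟨nT t, nT_mem t⟩)⁻¹ * x0⁻¹) * x0 := by group
              _ = _ := by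
                rw [h1, ← map_mul]
                congr 2
                refine Subtype.ext ?_
                show nT t * (frP u * (nT t)⁻¹ * (frP u)⁻¹) = frP (gfun t u ^^^ u)
                rw [← mul_assoc, ← mul_assoc, lift_frP t hu, mul_inv_cancel_right,
                  inv_eq_of_mul_eq_one_right (show frP u * frP u = 1 by rw [frP_mul hu hu, Nat.xor_self, frP_zero]),
                  frP_mul hu1 hu]
          rw [hO w hw e1 hX5, hO _ hV e2 hX6,
            show S.emb ⟨nT t, nT_mem t⟩ * (S.emb ⟨_, hX5⟩ * x0) * (S.emb ⟨nT t, nT_mem t⟩)⁻¹ =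
              (S.emb ⟨nT t, nT_mem t⟩ * S.emb ⟨_, hX5⟩ * (S.emb ⟨nT t, nT_mem t⟩)⁻¹) *
                (S.emb ⟨nT t, nT_mem t⟩ * x0 * (S.emb ⟨nT t, nT_mem t⟩)⁻¹) by group,
            hconj _ l5 hX5 hX7, hx, ← mul_assoc]
          have e5 : gfun t (w ^^^ u) ^^^ (gfun t u ^^^ u) = gfun t w ^^^ u := by
            rw [gfun_xor, Nat.xor_assoc, Masks.xor_cancel]
          rw [← hem _ hg5 _ ld _ _ (by rw [e5]; exact hX6)]
          exact congrArg (· * x0) (hcast e5 _ _)
      only := honly }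
  have hmain : ∀ w, inV full w = true → g * S.z * g⁻¹ = P.th w → g * S.z = S.z * g :=
    fun w hw e => P.fused g hw e
  cases hp : parV v
  · have hX' := (frP_X hv).2 hp
    obtain ⟨c, hc, e⟩ := S.split (a := ⟨frP v, hX'⟩) h
    have hc2 : c * c = 1 := by
      have hww : S.emb ⟨frP v, hX'⟩ * S.emb ⟨frP v, hX'⟩ = 1 := by
        rw [← map_mul, show (⟨frP v, hX'⟩ : X) * ⟨frP v, hX'⟩ = 1 from Subtype.ext (by
          show frP v * frP v = 1
          rw [frP_mul hv hv, Nat.xor_self, frP_zero]), map_one]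
      rw [e] at hg2
      calc c * c = (S.emb ⟨frP v, hX'⟩ * S.emb ⟨frP v, hX'⟩) * (c * c) := by rw [hww, one_mul]
        _ = S.emb ⟨frP v, hX'⟩ * (S.emb ⟨frP v, hX'⟩ * c) * c := by group
        _ = S.emb ⟨frP v, hX'⟩ * (c * S.emb ⟨frP v, hX'⟩) * c := by rw [hc]
        _ = 1 := by rw [← hg2]; group
    rcases S.invol c hc hc2 with hc' | hc'
    · exact hmain v (Masks.inV_even hv hp) (by rw [e, hc', mul_one, P.even v hv hp hX'])
    · have h5 : v ^^^ 255 < 256 := xor_lt256 hv (by norm_num)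
      have hp5 : parV (v ^^^ 255) = false := by rw [parV_xor, hp]; decide
      refine hmain _ (Masks.inV_even h5 hp5) ?_
      rw [e, hc', P.even _ h5 hp5 ((frP_X h5).2 hp5), ← map_mul]
      refine congrArg S.emb (Subtype.ext ?_)
      show frP v * negP = frP (v ^^^ 255)
      rw [← frP_neg, frP_mul hv (by norm_num)]
  · obtain ⟨hfl, rfl, rfl⟩ := hodd hp
    refine hmain u (hfl ▸ Masks.inV_true hv) ?_
    have h0X : frP (u ^^^ u) ∈ X := by rw [Nat.xor_self, frP_zero]; exact one_mem X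
    show _ = th u
    rw [hO u (hfl ▸ Masks.inV_true hv) hp h0X, show (⟨_, h0X⟩ : X) = 1 from Subtype.ext (by
      show frP (u ^^^ u) = 1; rw [Nat.xor_self, frP_zero]), map_one, one_mul]

theorem invol_case (g : G) {w : Equiv.Perm (Fin 240)} (h : S.Acts (g * S.z * g⁻¹) w) (hw : w * w = 1) :
    g * S.z = S.z * g := by
  have h2 : IsPGroup 2 (Subgroup.zpowers w) := fun ⟨a, i, hi⟩ => ⟨1, Subtype.ext (by
    show a ^ (2 ^ 1) = 1
    rw [← hi, pow_one, ← zpow_natCast, ← zpow_mul, mul_comm, zpow_mul, zpow_natCast, pow_two, hw, one_zpow])⟩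
  obtain ⟨x, hx, hT⟩ := conj_into_Tg (Subgroup.zpowers_le.2 h.1) h2
  have hxw := hT w (Subgroup.mem_zpowers w)
  obtain ⟨y, hy, v, hv, e⟩ := inv_conj hxw (by
    rw [show x * w * x⁻¹ * (x * w * x⁻¹) = x * (w * w) * x⁻¹ by group, hw, mul_one, mul_inv_cancel])
  have hyx : y * x ∈ X := mul_mem hy hx
  have h1 := Acts.conj S (S.acts_emb ⟨_, hyx⟩) h
  have hc := S.frame_case (S.emb ⟨_, hyx⟩ * g) hv (by
    rw [← e]
    rw [show S.emb ⟨_, hyx⟩ * g * S.z * (S.emb ⟨_, hyx⟩ * g)⁻¹ = S.emb ⟨_, hyx⟩ * (g * S.z * g⁻¹) * (S.emb ⟨_, hyx⟩)⁻¹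
      by group]
    rw [show y * (x * w * x⁻¹) * y⁻¹ = y * x * w * (y * x)⁻¹ by group]
    exact h1)
  rw [mul_assoc, ← mul_assoc S.z, ← S.emb_z_comm, mul_assoc] at hc
  exact mul_left_cancel hc

/-- A conjugate of the central involution commuting with it equals it. -/
theorem isolated (g : G) (h : g * S.z * g⁻¹ * S.z = S.z * (g * S.z * g⁻¹)) : g * S.z * g⁻¹ = S.z := by
  have hconc : ∀ g' : G, g' * S.z = S.z * g' → g' * S.z * g'⁻¹ = S.z := fun g' e => by rw [e, mul_inv_cancel_right]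
  obtain ⟨w, hw⟩ := S.exists_acts h
  have hy2 : g * S.z * g⁻¹ * (g * S.z * g⁻¹) = 1 := by
    rw [show g * S.z * g⁻¹ * (g * S.z * g⁻¹) = g * (S.z * S.z) * g⁻¹ by group, S.z_sq, mul_one, mul_inv_cancel]
  have hone : S.Acts (1 : G) 1 := S.acts_cen fun x => by rw [one_mul, mul_one]
  have h1 := Acts.mul S hw hw
  rw [hy2] at h1
  rcases Acts.unique S h1 hone with e | e
  · exact hconc g (S.invol_case g hw e)
  rw [one_mul] at e
  have h4 : w ^ 4 = 1 := by rw [show 4 = 2 * 2 from rfl, pow_mul, pow_two, pow_two, e, negP_sq]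
  have h2 : IsPGroup 2 (Subgroup.zpowers w) := fun ⟨a, i, hi⟩ => ⟨2, Subtype.ext (by
    show a ^ (2 ^ 2) = 1
    rw [← hi, show (2 : ℕ) ^ 2 = 4 from rfl, ← zpow_natCast, ← zpow_mul, mul_comm, zpow_mul, zpow_natCast, h4,
      one_zpow])⟩
  obtain ⟨x, hx, hT⟩ := conj_into_Tg (Subgroup.zpowers_le.2 hw.1) h2
  have hxw := hT w (Subgroup.mem_zpowers w)
  obtain ⟨hX', y, hy, e', hk⟩ := four_conj hxw (by
    rw [show x * w * x⁻¹ * (x * w * x⁻¹) = x * (w * w) * x⁻¹ by group, e, mul_inv_eq_iff_eq_mul,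
      W_neg (X_le_W hx)])
  have hq : y * x ∈ X := mul_mem hy hx
  -- the conjugate
  obtain ⟨g1, hg1⟩ : ∃ g1, g1 = S.emb ⟨_, hq⟩ * g := ⟨_, rfl⟩
  have hw1X : y * (x * w * x⁻¹) * y⁻¹ ∈ X := W_conj (X_le_W hy) hX'
  have ha1 : S.Acts (g1 * S.z * g1⁻¹) (y * (x * w * x⁻¹) * y⁻¹) := by
    rw [hg1, show y * (x * w * x⁻¹) * y⁻¹ = y * x * w * (y * x)⁻¹ by group,
      show S.emb ⟨_, hq⟩ * g * S.z * (S.emb ⟨_, hq⟩ * g)⁻¹ =
        S.emb ⟨_, hq⟩ * (g * S.z * g⁻¹) * (S.emb ⟨_, hq⟩)⁻¹ by group]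
    exact Acts.conj S (S.acts_emb ⟨_, hq⟩) hw
  obtain ⟨c, hc, hy1⟩ := S.split (a := ⟨_, hw1X⟩) ha1
  obtain ⟨hcom, hw45, hw46, hw56⟩ := witnesses e' hk
  let q : Fin 6 → X := fun k => ⟨wX e' k, wX_mem e' k⟩
  have hd : ∀ k : Fin 4, ∃ w', S.Acts (g1⁻¹ * S.emb (q ⟨k, by omega⟩) * g1) w' := by
    intro k
    refine S.exists_acts ?_
    have hqy : S.emb (q ⟨k, by omega⟩) * (g1 * S.z * g1⁻¹) = g1 * S.z * g1⁻¹ * S.emb (q ⟨k, by omega⟩) := by
      have hcm : Commute (S.emb (q ⟨k, by omega⟩)) (S.emb ⟨_, hw1X⟩) :=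
        (show Commute (q ⟨k, by omega⟩) (⟨_, hw1X⟩ : X) from Subtype.ext (hcom k)).map S.emb
      rw [hy1]
      exact (Commute.mul_right hcm (hc _).symm).eq
    calc g1⁻¹ * S.emb (q ⟨k, by omega⟩) * g1 * S.z
        = g1⁻¹ * (S.emb (q ⟨k, by omega⟩) * (g1 * S.z * g1⁻¹)) * g1 := by group
      _ = g1⁻¹ * (g1 * S.z * g1⁻¹ * S.emb (q ⟨k, by omega⟩)) * g1 := by rw [hqy]
      _ = _ := by group
  -- derived elements are inner
  have hder : ∀ i j : Fin 4, ∀ k : Fin 6,
      q ⟨i, by omega⟩ * q ⟨j, by omega⟩ = q k * (q ⟨j, by omega⟩ * q ⟨i, by omega⟩) →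
      ∃ a : X, S.Acts (g1⁻¹ * S.emb (q k) * g1) a := by
    intro i j k hij
    obtain ⟨wi, hi⟩ := hd i
    obtain ⟨wj, hj⟩ := hd j
    have hk' : S.Acts (g1⁻¹ * S.emb (q k) * g1) (wi * wj * (wj * wi)⁻¹) := by
      rw [show q k = q ⟨i, by omega⟩ * q ⟨j, by omega⟩ * (q ⟨j, by omega⟩ * q ⟨i, by omega⟩)⁻¹ from
        eq_mul_inv_iff_mul_eq.2 hij.symm, map_mul, map_mul, map_inv, map_mul]
      have := Acts.mul S (Acts.mul S hi hj) (Acts.inv S (Acts.mul S hj hi))
      convert this using 1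
      group
    have hm : wi * wj * (wj * wi)⁻¹ ∈ X := by
      have hinv : (wj * wi)⁻¹ ∈ X ↔ wj * wi ∈ X := Subgroup.inv_mem_iff X
      rw [X_parity (mul_mem hi.1 hj.1) (inv_mem (mul_mem hj.1 hi.1)), hinv, X_parity hi.1 hj.1, X_parity hj.1 hi.1]
      exact ⟨fun h => h.symm, fun h => h.symm⟩
    exact ⟨⟨_, hm⟩, hk'⟩
  obtain ⟨a4, h4'⟩ := hder 0 1 4 (Subtype.ext hw45)
  obtain ⟨a5, h5'⟩ := hder 2 3 5 (Subtype.ext hw46)
  obtain ⟨o, ho, he4⟩ := S.split h4'
  obtain ⟨o', ho', he5⟩ := S.split h5'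
  -- the conjugate of the central involution is an inner involution
  let cc : ↥(Subgroup.centralizer (Set.range S.emb)) := ⟨o, S.mem_cen ho⟩
  let dd : ↥(Subgroup.centralizer (Set.range S.emb)) := ⟨o', S.mem_cen ho'⟩
  have hz45 : S.z = S.emb (q 4) * S.emb (q 5) * (S.emb (q 5) * S.emb (q 4))⁻¹ := by
    rw [← map_mul, ← map_mul, show q 4 * q 5 = negX * (q 5 * q 4) from Subtype.ext hw56, map_mul]
    group
  obtain ⟨zeta, hzeta⟩ : ∃ zeta : X, zeta = a4 * a5 * (a5 * a4)⁻¹ := ⟨_, rfl⟩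
  have hoc : ∀ x : X, (o * o' * (o' * o)⁻¹) * S.emb x = S.emb x * (o * o' * (o' * o)⁻¹) := fun x => by
    have hm : o * o' * (o' * o)⁻¹ ∈ Subgroup.centralizer (Set.range S.emb) :=
      mul_mem (mul_mem cc.2 dd.2) (inv_mem (mul_mem dd.2 cc.2))
    exact (Subgroup.mem_centralizer_iff.1 hm _ ⟨x, rfl⟩).symm
  have hv' : g1⁻¹ * S.z * g1 = S.emb zeta * (o * o' * (o' * o)⁻¹) := by
    rw [hz45, show g1⁻¹ * (S.emb (q 4) * S.emb (q 5) * (S.emb (q 5) * S.emb (q 4))⁻¹) * g1 =
      (g1⁻¹ * S.emb (q 4) * g1) * (g1⁻¹ * S.emb (q 5) * g1) *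
        ((g1⁻¹ * S.emb (q 5) * g1) * (g1⁻¹ * S.emb (q 4) * g1))⁻¹ by group, he4, he5]
    have k1 : S.emb a4 * o * (S.emb a5 * o') = S.emb (a4 * a5) * (o * o') := by
      rw [map_mul, mul_assoc, ← mul_assoc o, ho, mul_assoc (S.emb a5), ← mul_assoc]
    have k2 : S.emb a5 * o' * (S.emb a4 * o) = S.emb (a5 * a4) * (o' * o) := by
      rw [map_mul, mul_assoc, ← mul_assoc o', ho', mul_assoc (S.emb a4), ← mul_assoc]
    rw [k1, k2, mul_inv_rev, ← map_inv, mul_assoc (S.emb (a4 * a5)), ← mul_assoc (o * o'), hoc, ← mul_assoc,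
      ← map_mul, hzeta]
  have hz2 : S.emb (zeta * zeta) * ((o * o' * (o' * o)⁻¹) * (o * o' * (o' * o)⁻¹)) = 1 := by
    have : g1⁻¹ * S.z * g1 * (g1⁻¹ * S.z * g1) = 1 := by
      rw [show g1⁻¹ * S.z * g1 * (g1⁻¹ * S.z * g1) = g1⁻¹ * (S.z * S.z) * g1 by group, S.z_sq, mul_one,
        inv_mul_cancel]
    rw [hv'] at this
    generalize o * o' * (o' * o)⁻¹ = r at hoc this ⊢
    rw [map_mul, ← this, mul_assoc (S.emb zeta) r, ← mul_assoc r (S.emb zeta), hoc]
    group
  have hzz : zeta * zeta = 1 := by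
    rcases X_centre (a := zeta * zeta) (fun b => by
      apply S.emb_inj
      have h1 : S.emb (zeta * zeta) = ((o * o' * (o' * o)⁻¹) * (o * o' * (o' * o)⁻¹))⁻¹ :=
        eq_inv_of_mul_eq_one_left hz2
      rw [map_mul S.emb b, map_mul S.emb _ b, h1]
      have hm : ((o * o' * (o' * o)⁻¹) * (o * o' * (o' * o)⁻¹))⁻¹ ∈ Subgroup.centralizer (Set.range S.emb) := by
        have hm' : o * o' * (o' * o)⁻¹ ∈ Subgroup.centralizer (Set.range S.emb) :=
          mul_mem (mul_mem cc.2 dd.2) (inv_mem (mul_mem dd.2 cc.2))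
        exact inv_mem (mul_mem hm' hm')
      exact Subgroup.mem_centralizer_iff.1 hm _ ⟨b, rfl⟩) with h | h
    · exact h
    · exfalso
      rw [h] at hz2
      have hmc : cc * dd * (dd * cc)⁻¹ ∈ commutator ↥(Subgroup.centralizer (Set.range S.emb)) := by
        rw [show cc * dd * (dd * cc)⁻¹ = ⁅cc, dd⁆ by rw [commutatorElement_def]; group]
        exact Subgroup.commutator_mem_commutator (Subgroup.mem_top _) (Subgroup.mem_top _)
      refine S.not_comm _ (mul_mem hmc hmc) ?_
      show o * o' * (o' * o)⁻¹ * (o * o' * (o' * o)⁻¹) = S.z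
      calc _ = S.z * (S.emb negX * (o * o' * (o' * o)⁻¹ * (o * o' * (o' * o)⁻¹))) := by
            rw [← mul_assoc S.z, S.z_sq, one_mul]
        _ = S.z := by rw [hz2, mul_one]
  have hA : S.Acts (g1⁻¹ * S.z * g1⁻¹⁻¹) zeta := by
    rw [inv_inv, hv']
    have := Acts.mul S (S.acts_emb zeta) (S.acts_cen hoc)
    rwa [mul_one] at this
  have hfin := S.invol_case g1⁻¹ hA (congrArg Subtype.val hzz)
  have hg1z : g1 * S.z = S.z * g1 := by
    calc g1 * S.z = g1 * (S.z * g1⁻¹) * g1 := by group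
      _ = g1 * (g1⁻¹ * S.z) * g1 := by rw [hfin]
      _ = S.z * g1 := by group
  rw [hg1, mul_assoc, ← mul_assoc S.z, ← S.emb_z_comm, mul_assoc] at hg1z
  exact hconc g (mul_left_cancel hg1z)

end Ctx

end Cfsg.Agent.Spor.EightPlusStd
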