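import Cfsg.Agent.Lib.Spor.EightPlusStandard.LargeCheck
import Mathlib.Data.Finset.Card

/-!
The Sylow 2-subgroup: large commutative subgroups of exponent dividing four modulo the negation, centralizers of
the frame and of the signs, and conjugations of the small elements.
-/

set_option autoImplicit false
set_option maxRecDepth 100000
set_option maxHeartbeats 1000000

namespace Cfsg.Agent.Spor.EightPlusStd

open Cfsg.Agent.Lie.OEightTwoMult (negP)

/-! ### From permutations to codes -/

theorem Full_cmul {x y : ℕ} (hx : Full x) (hy : Full y) : Full (cmul x y) := fun k => by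
  obtain ⟨i, hi⟩ := hx k
  obtain ⟨j, hj⟩ := hy i
  refine ⟨j, ?_⟩
  rw [dig_cmul, hj, (flip_flip ⟨_, dig_lt x i⟩ ⟨_, dig_lt y j⟩ 0).2]
  exact hi

theorem mk_dig_cmul (x y : ℕ) : cmul x y = mk (dig (cmul x y)) := mk_congr fun j => (dig_cmul x y j).symm

theorem cmul_eq {x y x' y' : ℕ} {a : Equiv.Perm (Fin 240)} (h : Has (cmul x y) a) (h' : Has (cmul x' y') a) :
    cmul x y = cmul x' y' := by
  rw [mk_dig_cmul x y, mk_dig_cmul x' y']
  exact mk_congr fun j => h.dig_eq h' j

theorem code_sq_one {x : ℕ} {a : Equiv.Perm (Fin 240)} (h : Has x a) (e : a * a = 1) : cmul x x = cOne := by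
  have h2 := h.mul h
  rw [e] at h2
  rw [mk_dig_cmul, ← unit_codes.1]
  exact mk_congr fun j => h2.dig_eq has_unit j

theorem code_sq_neg {x : ℕ} {a : Equiv.Perm (Fin 240)} (h : Has x a) (e : a * a = negP) : cmul x x = cNeg := by
  have h2 := h.mul h
  rw [e] at h2
  rw [mk_dig_cmul, ← unit_codes.2]
  exact mk_congr fun j => h2.dig_eq neg_has.1 j

theorem code_sqB {x : ℕ} {a : Equiv.Perm (Fin 240)} (h : Has x a) (e : a * a = 1 ∨ a * a = negP) : sqB x = true := by
  rcases e with e | e
  · simp [sqB, code_sq_one h e]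
  · simp [sqB, code_sq_neg h e]

theorem code_comm {x y : ℕ} {a b : Equiv.Perm (Fin 240)} (hx : Has x a) (hy : Has y b) (e : a * b = b * a) :
    cmul x y = cmul y x := cmul_eq (e ▸ hx.mul hy) (hy.mul hx)

theorem pDec_congr {f g : ℕ → ℕ} (h : ∀ j : Fin 8, f j = g j) : pDec f = pDec g := by
  simp only [pDec]
  rw [show f 0 = g 0 from h 0, show f 2 = g 2 from h 2, show f 4 = g 4 from h 4, show f 6 = g 6 from h 6]

theorem Idx.mul_perm {n m k : ℕ} {a b : Equiv.Perm (Fin 240)} (h : Idx n a) (h' : Idx m b) (hk : Idx k (a * b)) :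
    k / 128 = pm (n / 128) (m / 128) := by
  have h1 : pDec (fun j => tSig (k / 128) j % 8) = k / 128 := pDec_sig ⟨k / 128, by have := hk.1; omega⟩
  rw [← h1]
  refine pDec_congr fun j => ?_
  rw [← dig_cT_perm k j, hk.2.1.dig_eq (h.2.1.mul h'.2.1) j, dig_cmul,
    (flip_flip ⟨_, dig_lt _ _⟩ ⟨_, dig_lt _ _⟩ 0).2, dig_cT_perm m j]
  exact dig_cT_perm n ⟨tSig (m / 128) j % 8, Nat.mod_lt _ (by norm_num)⟩

theorem fixM_of_comm {n b : ℕ} (hb : b < 128) {a c : Equiv.Perm (Fin 240)} (h : Idx n a) (h' : Idx b c)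
    (e : a * c = c * a) : fixM (n / 128) b = true := by
  have hc := code_comm h.2.1 h'.2.1 e
  simp only [fixM, List.all_eq_true, List.mem_finRange, true_imp_iff, beq_iff_eq]
  intro j
  have hb0 : b / 128 = 0 := by omega
  have hbm : b % 128 = b := by omega
  have h1 := congrArg (fun x => dig x j) hc
  simp only [dig_cmul] at h1
  rw [dig_cT_perm b j, hb0, sig_id, dig_cT_sign b j, hbm, dig_cT_perm n j, dig_cT_sign n j] at h1
  have h2 := dig_cT n j
  have h3 := dig_cT b ⟨tSig (n / 128) j % 8, Nat.mod_lt _ (by norm_num)⟩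
  have : tSig (n / 128) j % 8 < 8 := Nat.mod_lt _ (by norm_num)
  simp only [hb0, hbm, show tSig 0 (tSig (n / 128) j % 8) % 8 = tSig (n / 128) j % 8 from sig_id ⟨_, this⟩] at h3
  rw [h2, h3] at h1
  generalize tSig (n / 128) j % 8 = q at this h1 ⊢
  cases h4 : (evM (n % 128)).testBit j <;> cases h5 : (evM b).testBit j <;> cases h6 : (evM b).testBit q <;>
    rw [h4, h5, h6] at h1 <;> first | rfl | (interval_cases q <;> simp at h1)

/-! ### The search -/

theorem tbit_test (v i : ℕ) : tbit v i = v.testBit i := by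
  rw [Bool.eq_iff_iff, tbit, Nat.beq_eq, Nat.testBit_eq_decide_div_mod_eq, decide_eq_true_iff]
  show (v >>> i) % 2 = 1 ↔ _
  rw [Nat.shiftRight_eq_div_pow]

theorem table_at {p q : ℕ} (hp : p < 128) (hq : q < 128) : (fixT p).testBit q = fixM p q ∧ mulT p q = pm p q ∧
    ((comT p).testBit q = true ↔ pm p q = pm q p) ∧ (Dat.sqRow.testBit p = true ↔ pm p p = 0) := by
  have h := List.all_eq_true.1 tables_ok p (List.mem_range.2 hp)
  simp only [Bool.and_eq_true, List.all_eq_true, List.mem_range, beq_iff_eq, Nat.beq_eq] at h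
  obtain ⟨h1, h2⟩ := h
  obtain ⟨a1, a2, a3⟩ := h2 q hq
  have hT : ∀ p' < 128, ∀ q' < 128, mulT p' q' = pm p' q' := fun p' hp' q' hq' => by
    have h := List.all_eq_true.1 tables_ok p' (List.mem_range.2 hp')
    simp only [Bool.and_eq_true, List.all_eq_true, List.mem_range, beq_iff_eq, Nat.beq_eq] at h
    exact (h.2 q' hq').2.1
  refine ⟨a1, a2, ?_, by rw [h1, Nat.beq_eq]⟩
  rw [a3, Nat.beq_eq, hT p hp q hq, hT q hq p hp]

theorem fixAll_bit : ∀ (S : List ℕ), (∀ p ∈ S, p < 128) → ∀ b < 128,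
    (fixAll S).testBit b = S.all fun p => fixM p b
  | [], _, b, hb => by
    show (2 ^ 128 - 1).testBit b = true
    rw [Nat.testBit_two_pow_sub_one, decide_eq_true hb]
  | p :: S, hS, b, hb => by
    have ih := fixAll_bit S (fun q hq => hS q (List.mem_cons_of_mem _ hq)) b hb
    simp only [fixAll] at ih
    simp only [fixAll, List.foldr_cons, List.all_cons, Nat.testBit_and, ih,
      (table_at (hS p List.mem_cons_self) hb).1]

theorem bitCount_fixAll (S : List ℕ) (hS : ∀ p ∈ S, p < 128) :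
    bitCount (fixAll S) = ((List.range 128).filter fun b => S.all fun p => fixM p b).length := by
  rw [bitCount, List.filter_congr fun b hb => (tbit_test _ b).trans (fixAll_bit S hS b (List.mem_range.1 hb))]

theorem srch_sound (I : Finset ℕ) (hlt : ∀ p ∈ I, p < 128) (hpar : ∀ p ∈ I, parV (p % 16) = false)
    (hmul : ∀ p ∈ I, ∀ q ∈ I, pm p q ∈ I) (hsq : ∀ p ∈ I, pm p p = 0) (hcomm : ∀ p ∈ I, ∀ q ∈ I, pm p q = pm q p)
    (hcard : ∀ S : List ℕ, (∀ p ∈ S, p ∈ I) → I.card ≤ S.length →
      128 ≤ S.length * ((List.range 128).filter fun b => S.all fun p => fixM p b).length) :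
    ∀ (fuel : ℕ) (S C : List ℕ), srch fuel S C = true → (∀ p ∈ S, p ∈ I) → 0 ∈ S →
      (∀ p ∈ I, p ∉ S → p ∈ C) →
      I.card ≤ 1 ∨ ∀ p ∈ frameImg, p ∈ I
  | 0, _, _, h, _, _, _ => by simp [srch] at h
  | fuel + 1, S, C, h, hS, h0, hlo => by
    simp only [srch, Bool.and_eq_true, List.all_eq_true] at h
    obtain ⟨hg, hnext⟩ := h
    by_cases hfull : ∀ p ∈ I, p ∈ S
    · simp only [good, Bool.or_eq_true, Nat.blt_eq, Nat.beq_eq, List.all_eq_true, List.contains_iff_mem] at hg
      have hle : I.card ≤ S.length :=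
        (Finset.card_le_card fun p hp => List.mem_toFinset.2 (hfull p hp)).trans (List.toFinset_card_le S)
      rcases hg with (hg | hg) | hg
      · rw [bitCount_fixAll S fun p hp => hlt p (hS p hp)] at hg
        exact absurd hg (not_lt.2 (hcard S hS hle))
      · exact Or.inl (hg ▸ hle)
      · exact Or.inr fun p hp => hS p (hg p hp)
    · simp only [not_forall] at hfull
      obtain ⟨q, hq, hqS⟩ := hfull
      have hex : ∃ p, p ∈ I ∧ p ∉ S := ⟨q, hq, hqS⟩
      obtain ⟨p, ⟨hpI, hpS⟩, hmin⟩ : ∃ p, (p ∈ I ∧ p ∉ S) ∧ ∀ r, r ∈ I → r ∉ S → p ≤ r :=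
        ⟨Nat.find hex, Nat.find_spec hex, fun r h1 h2 => Nat.find_min' hex ⟨h1, h2⟩⟩
      refine srch_sound I hlt hpar hmul hsq hcomm hcard fuel _ _ (hnext p (hlo p hpI hpS)) ?_
        (List.mem_append_left _ h0) ?_
      · intro r hr
        rcases List.mem_append.1 hr with hr | hr
        · exact hS r hr
        · obtain ⟨s, hs, rfl⟩ := List.mem_map.1 hr
          rw [(table_at (hlt p hpI) (hlt s (hS s hs))).2.1]
          exact hmul p hpI s (hS s hs)
      · intro r hr hrS
        have hrS' := hrS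
        rw [List.mem_append, not_or] at hrS'
        rcases (hmin r hr hrS'.1).eq_or_lt with e | e
        · exact absurd (List.mem_map.2 ⟨0, h0, ((table_at (hlt p hpI) (by norm_num)).2.1.trans
            (pm_zero ⟨p, hlt p hpI⟩)).trans e⟩) hrS'.2
        · simp only [candNext, List.mem_filter, Bool.and_eq_true, Nat.blt_eq, tbit_test, Bool.not_eq_true',
            List.contains_eq_mem, decide_eq_false_iff_not]
          exact ⟨hlo r hr hrS'.1, e, (table_at (hlt p hpI) (hlt r hr)).2.2.1.2 (hcomm p hpI r hr), hrS⟩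

theorem frameIdx_sound {n : ℕ} {a : Equiv.Perm (Fin 240)} (h : Idx n a) (hf : frameIdx n = true) :
    ∃ v < 256, a = frP v := by
  simp only [frameIdx, Bool.and_eq_true, Nat.blt_eq, Nat.beq_eq] at hf
  obtain ⟨h1, h2⟩ := hf
  have hfull := cT_full h.1
  have hhas := h.2.1
  generalize hx : cT n = x at h1 h2 hfull hhas
  generalize vDec x = v at h1 h2
  subst h2
  exact ⟨v, h1, Equiv.ext (congrFun (Has.ext hfull hhas (frP_has v)))⟩

/-- A large commutative subgroup of the inner part of the Sylow subgroup, of exponent dividing four modulo the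
negation, is the even part of the frame or the signs. -/
theorem large_commutative {B : Subgroup (Equiv.Perm (Fin 240))} (hB : B ≤ Tg) (hX : B ≤ X)
    (hc : ∀ a ∈ B, ∀ b ∈ B, a * b = b * a) (hsq : ∀ a ∈ B, a * a = 1 ∨ a * a = negP)
    (hcard : 128 ≤ Nat.card B) :
    (∀ a, a ∈ B ↔ ∃ v < 256, parV v = false ∧ a = frP v) ∨ (∀ a, a ∈ B ↔ ∃ b < 128, Idx b a) := by
  classical
  choose f hf using fun a : B => Tg_idx (hB a.2)
  haveI := Fintype.ofFinite B
  let I : Finset ℕ := Finset.univ.image fun a : B => f a / 128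
  have hmemI : ∀ a : B, f a / 128 ∈ I := fun a => Finset.mem_image.2 ⟨a, Finset.mem_univ _, rfl⟩
  have hI : ∀ p ∈ I, ∃ a : B, f a / 128 = p := fun p hp => by
    obtain ⟨a, -, ha⟩ := Finset.mem_image.1 hp
    exact ⟨a, ha⟩
  have hf1 : f 1 = 0 := (hf 1).unique Idx.one
  have hlt : ∀ p ∈ I, p < 128 := fun p hp => by
    obtain ⟨a, rfl⟩ := hI p hp
    have := (hf a).1
    omega
  have hpm : ∀ a b : B, f (a * b) / 128 = pm (f a / 128) (f b / 128) := fun a b => (hf a).mul_perm (hf b) (hf (a * b))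
  have hmul : ∀ p ∈ I, ∀ q ∈ I, pm p q ∈ I := fun p hp q hq => by
    obtain ⟨a, rfl⟩ := hI p hp
    obtain ⟨b, rfl⟩ := hI q hq
    exact hpm a b ▸ hmemI _
  have hsqI : ∀ p ∈ I, pm p p = 0 := fun p hp => by
    obtain ⟨a, rfl⟩ := hI p hp
    rw [← hpm]
    rcases hsq a a.2 with e | e
    · rw [(hf (a * a)).unique (show Idx 0 (a * a : B) from (Subgroup.coe_mul B a a).trans e ▸ Idx.one)]
    · obtain ⟨b, hb, hi⟩ := exists_idx (show (127 : ℕ) < 16384 by norm_num)
      have hbn : b = negP := Equiv.ext (congrFun (Has.ext neg_has.2.1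
        ((show cT 127 = cNeg by decide +kernel) ▸ hi.2.1) neg_has.1))
      rw [(hf (a * a)).unique (show Idx 127 (a * a : B) from (Subgroup.coe_mul B a a).trans e ▸ hbn ▸ hi)]
  have hcommI : ∀ p ∈ I, ∀ q ∈ I, pm p q = pm q p := fun p hp q hq => by
    obtain ⟨a, rfl⟩ := hI p hp
    obtain ⟨b, rfl⟩ := hI q hq
    rw [← hpm, ← hpm, Subtype.ext (show ((a * b : B) : Equiv.Perm (Fin 240)) = (b * a : B) from hc a a.2 b b.2)]
  have hpar : ∀ p ∈ I, parV (p % 16) = false := fun p hp => by
    obtain ⟨a, rfl⟩ := hI p hp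
    exact (hf a).2.2.2.1 (hX a.2)
  have hbound : ∀ S : List ℕ, (∀ p ∈ S, p ∈ I) → I.card ≤ S.length →
      128 ≤ S.length * ((List.range 128).filter fun b => S.all fun p => fixM p b).length := by
    intro S hS hle
    have hcs : (Finset.univ : Finset B).card ≤
        ((List.range 128).filter fun b => S.all fun p => fixM p b).length * I.card := by
      refine Finset.card_le_mul_card_image _ _ fun p hp => ?_
      obtain ⟨a₀, -, ha₀⟩ := Finset.mem_image.1 hp
      calc _ ≤ ((List.range 128).filter fun b => S.all fun p => fixM p b).toFinset.card := ?_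
        _ ≤ _ := List.toFinset_card_le _
      refine Finset.card_le_card_of_injOn (fun a => f (a₀ * a)) (fun a ha => ?_) fun a _ b _ e => ?_
      · simp only [Finset.coe_filter, Set.mem_setOf_eq] at ha
        have h0 : f (a₀ * a) / 128 = 0 := by rw [hpm, ha₀, ha.2]; exact hsqI p hp
        have hlt' : f (a₀ * a) < 128 := by omega
        rw [List.coe_toFinset, Set.mem_setOf_eq, List.mem_filter, List.mem_range, List.all_eq_true]
        refine ⟨hlt', fun q hq => ?_⟩
        obtain ⟨c, rfl⟩ := hI q (hS q hq)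
        exact fixM_of_comm hlt' (hf c) (hf (a₀ * a)) (hc c c.2 _ (a₀ * a).2)
      · have hb := hf (a₀ * b)
        rw [show f (a₀ * b) = f (a₀ * a) from e.symm] at hb
        exact mul_left_cancel (Subtype.ext ((hf (a₀ * a)).ext hb) : a₀ * a = a₀ * b)
    rw [Finset.card_univ, ← Nat.card_eq_fintype_card] at hcs
    calc 128 ≤ Nat.card B := hcard
      _ ≤ _ := hcs
      _ ≤ _ := Nat.mul_le_mul_left _ hle
      _ = _ := Nat.mul_comm _ _
  have hout := srch_sound I hlt hpar hmul hsqI hcommI hbound 6 [0] cand0 srch_ok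
    (fun p hp => by
      rw [List.mem_singleton] at hp
      rw [hp, ← show f 1 / 128 = 0 by rw [hf1]]
      exact hmemI 1)
    List.mem_cons_self (fun p hpI hp => by
      rw [List.mem_singleton] at hp
      simp only [cand0, List.mem_filter, List.mem_range, Bool.and_eq_true, Nat.blt_eq, tbit_test, Bool.not_eq_true']
      exact ⟨hlt p hpI, Nat.pos_of_ne_zero hp, (table_at (hlt p hpI) (hlt p hpI)).2.2.2.2 (hsqI p hpI), hpar p hpI⟩)
  rcases hout with h1 | h2
  · right
    have hzero : ∀ a : B, f a / 128 = 0 := fun a => by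
      rw [Finset.card_le_one.1 h1 _ (hmemI a) _ (hmemI 1), hf1]
    have hinj : Function.Injective fun a : B => (⟨f a, by have := hzero a; omega⟩ : Fin 128) := fun a b e => by
      have hb := hf b
      rw [← show f a = f b from congrArg Fin.val e] at hb
      exact Subtype.ext ((hf a).ext hb)
    have hbij := hinj.bijective_of_nat_card_le (by rw [Nat.card_fin]; exact hcard)
    refine fun a => ⟨fun ha => ⟨f ⟨a, ha⟩, by have := hzero ⟨a, ha⟩; omega, hf ⟨a, ha⟩⟩, fun ⟨b, hb, hi⟩ => ?_⟩
    obtain ⟨c, hc'⟩ := hbij.2 ⟨b, hb⟩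
    have := hf c
    rw [show f c = b from congrArg Fin.val hc'] at this
    exact this.ext hi ▸ c.2
  · left
    have hfr : ∀ a : B, ∃ v < 256, (a : Equiv.Perm (Fin 240)) = frP v := by
      intro a
      by_cases hfa : f a / 128 ∈ frameImg
      · have h := List.all_eq_true.1 (List.all_eq_true.1 frame_only _ hfa) (f a % 128) (List.mem_range.2 (by omega))
        simp only [Nat.div_add_mod, Bool.or_eq_true, Bool.not_eq_true', List.any_eq_true, List.all_eq_true,
          List.mem_range] at h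
        rcases h with (h | h) | ⟨q, hq, h⟩
        · exact absurd (code_sqB (hf a).2.1 (hsq a a.2)) (by rw [h]; exact Bool.noConfusion)
        · exact frameIdx_sound (hf a) h
        · exfalso
          obtain ⟨b, rfl⟩ := hI q (h2 q hq)
          have h := h (f b % 128) (by omega)
          rw [Nat.div_add_mod] at h
          rcases h with h | h
          · exact absurd (code_sqB (hf b).2.1 (hsq b b.2)) (by rw [h]; exact Bool.noConfusion)
          · rw [code_comm (hf a).2.1 (hf b).2.1 (hc a a.2 b b.2), Nat.beq_refl] at h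
            exact Bool.noConfusion h
      · exfalso
        -- more than eight permutation indices are impossible
        have hsub : insert (f a / 128) frameImg.toFinset ⊆ I := fun p hp => by
          rcases Finset.mem_insert.1 hp with rfl | hp
          exacts [hmemI a, h2 p (List.mem_toFinset.1 hp)]
        have h9 := Finset.card_le_card hsub
        rw [Finset.card_insert_of_notMem (by rwa [List.mem_toFinset]), frameImg_card] at h9
        exact absurd (List.all_eq_true.1 frame_outside (f a / 128) (List.mem_range.2 (hlt _ (hmemI a))))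
          (by
            simp only [Bool.or_eq_true, List.any_eq_true, Bool.not_eq_true', not_or, not_exists, not_and,
              List.contains_eq_mem, decide_eq_true_eq]
            refine ⟨⟨fun hh => ?_, hfa⟩, fun q hq hh => ?_⟩
            · rw [hpar _ (hmemI a)] at hh; exact Bool.noConfusion hh
            · rw [hcommI _ (hmemI a) q (h2 q hq), Nat.beq_refl] at hh; exact Bool.noConfusion hh)
    choose g hg1 hg2 using hfr
    have hpv : ∀ a : B, parV (g a) = false := fun a => (frP_X (hg1 a)).1 (hg2 a ▸ hX a.2)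
    have hinj : Function.Injective fun a : B => (⟨g a, hg1 a, hpv a⟩ : {v : ℕ // v < 256 ∧ parV v = false}) :=
      fun a b e => Subtype.ext (by rw [hg2 a, hg2 b, show g a = g b from congrArg Subtype.val e])
    have hfin : Nat.card {v : ℕ // v < 256 ∧ parV v = false} ≤ 128 := by
      rw [Nat.card_congr (Equiv.subtypeEquivRight (q := fun v => v ∈ (Finset.range 256).filter fun v => parV v = false)
        fun v => by rw [Finset.mem_filter, Finset.mem_range]), Nat.card_eq_finsetCard]
      decide +kernel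
    haveI : Finite {v : ℕ // v < 256 ∧ parV v = false} := Set.Finite.to_subtype
      ((Set.finite_lt_nat 256).subset fun v hv => hv.1)
    have hbij := hinj.bijective_of_nat_card_le (hfin.trans hcard)
    refine fun a => ⟨fun ha => ⟨g ⟨a, ha⟩, hg1 _, hpv _, hg2 ⟨a, ha⟩⟩, fun ⟨v, hv, hp, hav⟩ => ?_⟩
    obtain ⟨c, hc'⟩ := hbij.2 ⟨v, hv, hp⟩
    rw [hav, ← show g c = v from congrArg Subtype.val hc', ← hg2 c]
    exact c.2

/-! ### Centralizers of the frame and of the signs -/

/-- An element of the Sylow subgroup commuting with the even part of the frame is in the frame. -/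
theorem frame_centralizer {a : Equiv.Perm (Fin 240)} (ha : a ∈ Tg)
    (h : ∀ v < 256, parV v = false → a * frP v = frP v * a) : ∃ v < 256, a = frP v := by
  obtain ⟨n, hn⟩ := Tg_idx ha
  have hp : n / 128 < 16 := by
    by_contra hp
    have hc := List.all_eq_true.1 frame_centre_perm (n / 128) (List.mem_range.2 (by have := hn.1; omega))
    simp only [Bool.or_eq_true, Nat.blt_eq, hp, false_or, List.any_eq_true, List.mem_range, Bool.not_eq_true'] at hc
    obtain ⟨i, hi, hc⟩ := hc
    obtain ⟨h1, h2, h3, h4⟩ := frame_pair ⟨i, hi⟩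
    obtain ⟨c, hcT, hci⟩ := exists_idx h4
    have he : c = frP (3 * 2 ^ i) := Equiv.ext (congrFun (Has.ext (cT_full h4) hci.2.1 (h3.symm ▸ frP_has _)))
    obtain ⟨k, hk⟩ := Tg_idx (mul_mem ha hcT)
    have e1 := hn.mul_perm hci hk
    have e2 := hci.mul_perm hn (show Idx k (c * a) by rw [he, ← h _ h1 h2, ← he]; exact hk)
    rw [show pm (n / 128) (pairI i) = pm (pairI i) (n / 128) from e1.symm.trans e2, Nat.beq_refl] at hc
    exact Bool.noConfusion hc
  have hc := List.all_eq_true.1 (List.all_eq_true.1 frame_centre (n / 128)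
    (List.mem_range.2 hp)) (n % 128) (List.mem_range.2 (by omega))
  simp only [Nat.div_add_mod, Bool.or_eq_true, List.any_eq_true, List.mem_range, Bool.not_eq_true'] at hc
  rcases hc with ⟨i, hi, hc⟩ | hc
  · obtain ⟨h1, h2, -, -⟩ := frame_pair ⟨i, hi⟩
    rw [code_comm hn.2.1 (frP_has _) (h _ h1 h2), Nat.beq_refl] at hc
    exact Bool.noConfusion hc
  · exact frameIdx_sound hn hc

/-- An element of the Sylow subgroup commuting with the signs is inner. -/
theorem sign_centralizer {a : Equiv.Perm (Fin 240)} (ha : a ∈ Tg)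
    (h : ∀ b < 128, ∀ c, Idx b c → a * c = c * a) : a ∈ X := by
  obtain ⟨n, hn⟩ := Tg_idx ha
  by_cases h0 : n / 128 = 0
  · rw [hn.2.2.2, parT, h0]
    rfl
  · obtain ⟨b, hb⟩ := sign_moves ⟨n / 128, by have := hn.1; omega⟩ h0
    obtain ⟨c, -, hc⟩ := exists_idx (show (b : ℕ) < 16384 by have := b.2; omega)
    have := fixM_of_comm b.2 hn hc (h b b.2 c hc)
    rw [show fixM (n / 128) b = false from hb] at this
    exact Bool.noConfusion this

/-! ### Involutions and square roots of the negation -/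

theorem neg_idx : Idx 127 negP := by
  obtain ⟨b, -, hi⟩ := exists_idx (show (127 : ℕ) < 16384 by norm_num)
  have hbn : b = negP := Equiv.ext (congrFun (Has.ext neg_has.2.1
    ((show cT 127 = cNeg by decide +kernel) ▸ hi.2.1) neg_has.1))
  exact hbn ▸ hi

theorem perm_sq {n : ℕ} {a : Equiv.Perm (Fin 240)} (hn : Idx n a) (h : a * a = 1 ∨ a * a = negP) :
    pm (n / 128) (n / 128) = 0 := by
  rcases h with e | e
  · rw [← hn.mul_perm hn (show Idx 0 (a * a) from e ▸ Idx.one)]
  · rw [← hn.mul_perm hn (show Idx 127 (a * a) from e ▸ neg_idx)]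

theorem small_cert' {n : ℕ} {a : Equiv.Perm (Fin 240)} (hn : Idx n a) (h : a * a = 1 ∨ a * a = negP) :
    (bif Nat.beq (cmul (cT n) (cT n)) cOne then invCert (cT n) (certK (n / 128) (n % 128))
      else !parT n && fourCert (cT n) (certK (n / 128) (n % 128))) = true := by
  have hc := List.all_eq_true.1 small_cert (n / 128) (List.mem_range.2 (by have := hn.1; omega))
  rw [perm_sq hn h, Nat.beq_refl, Bool.not_true, Bool.false_or] at hc
  have hc := List.all_eq_true.1 hc (n % 128) (List.mem_range.2 (by omega))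
  simp only [Nat.div_add_mod, code_sqB hn.2.1 h, Bool.not_true, Bool.false_or] at hc
  exact hc

/-- An involution of the Sylow subgroup is conjugate into the frame by the cover. -/
theorem inv_conj {a : Equiv.Perm (Fin 240)} (ha : a ∈ Tg) (h : a * a = 1) :
    ∃ x ∈ X, ∃ v < 256, x * a * x⁻¹ = frP v := by
  obtain ⟨n, hn⟩ := Tg_idx ha
  have hc := small_cert' hn (Or.inl h)
  rw [code_sq_one hn.2.1 h, Nat.beq_refl, cond_true] at hc
  simp only [invCert, Bool.and_eq_true, Nat.blt_eq, Nat.beq_eq] at hc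
  generalize certK (n / 128) (n % 128) = k at hc
  obtain ⟨hk, hv, hf, he⟩ := hc
  refine ⟨dat ⟨22 + k, by omega⟩, (dat_W _).1.2 (conj_flags.1 ⟨k, hk⟩), _, hv, ?_⟩
  have h1 : Has (cd (22 + k)) (dat ⟨22 + k, by omega⟩) := dat_has ⟨22 + k, by omega⟩
  have h2 := (frP_has (vDec (cmul (cmul (cd (22 + k)) (cT n)) (cinv (cd (22 + k)))))).mul h1
  rw [hf, he] at h2
  have h3 := h1.mul hn.2.1
  rw [mul_inv_eq_iff_eq_mul]
  refine Equiv.ext fun i => co_inj fun j => ?_
  obtain ⟨l, hl⟩ := Full_cmul (cd_full ⟨22 + k, by omega⟩) (cT_full hn.1) j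
  rw [← hl, h3 i l, h2 i l]

/-- The representatives as elements. -/
theorem exists_kP (e : Fin 2) : ∃ a ∈ Tg, Has (kRep e) a ∧ a ∈ W := by
  obtain ⟨a, ha, hi⟩ := exists_idx (kRep_facts e).2.1
  exact ⟨a, ha, (kRep_facts e).1 ▸ hi.2.1, hi.2.2.1⟩

/-- A square root of the negation in the Sylow subgroup is inner and conjugate to a representative. -/
theorem four_conj {a : Equiv.Perm (Fin 240)} (ha : a ∈ Tg) (h : a * a = negP) :
    a ∈ X ∧ ∃ x ∈ X, ∃ e : Fin 2, Has (kRep e) ⇑(x * a * x⁻¹) := by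
  obtain ⟨n, hn⟩ := Tg_idx ha
  have hc := small_cert' hn (Or.inr h)
  have hne : Nat.beq (cmul (cT n) (cT n)) cOne = false := by
    rw [code_sq_neg hn.2.1 h]; decide +kernel
  rw [hne, cond_false] at hc
  simp only [Bool.and_eq_true, Bool.not_eq_true'] at hc
  refine ⟨hn.2.2.2.2 hc.1, ?_⟩
  have hc := hc.2
  simp only [fourCert, Bool.and_eq_true, Bool.or_eq_true, Nat.blt_eq, Nat.beq_eq] at hc
  generalize certK (n / 128) (n % 128) = q at hc
  obtain ⟨hq, he⟩ := hc
  obtain ⟨k, hk, hkq⟩ : ∃ k, k < 17 ∧ q / 8 = k := ⟨_, by omega, rfl⟩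
  obtain ⟨l, hl, hlq⟩ : ∃ l, l < 8 ∧ q % 8 = l := ⟨_, Nat.mod_lt _ (by norm_num), rfl⟩
  rw [hkq, hlq] at he
  have hx : dat ⟨64 + l, by omega⟩ * dat ⟨47 + k, by omega⟩ ∈ X :=
    mul_mem ((dat_W _).1.2 (conj_flags.2.2 ⟨l, hl⟩)) ((dat_W _).1.2 (conj_flags.2.1 ⟨k, hk⟩))
  have h1 : Has (cmul (cd (64 + l)) (cd (47 + k))) ⇑(dat ⟨64 + l, by omega⟩ * dat ⟨47 + k, by omega⟩) :=
    (dat_has ⟨64 + l, by omega⟩).mul (dat_has ⟨47 + k, by omega⟩)
  have hfull := Full_cmul (cd_full ⟨64 + l, by omega⟩) (cd_full ⟨47 + k, by omega⟩)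
  obtain ⟨e, he⟩ : ∃ e : Fin 2, cmul (cmul (cd (64 + l)) (cd (47 + k))) (cT n) =
      cmul (kRep e) (cmul (cd (64 + l)) (cd (47 + k))) := by
    rcases he with he | he
    exacts [⟨0, he⟩, ⟨1, he⟩]
  refine ⟨_, hx, e, ?_⟩
  obtain ⟨b, -, hb, -⟩ := exists_kP e
  have h2 := hb.mul h1
  rw [← he] at h2
  have h3 := h1.mul hn.2.1
  generalize dat ⟨64 + l, _⟩ * dat ⟨47 + k, _⟩ = x at h1 h2 h3 ⊢
  have : x * a = b * x := Equiv.ext fun i => co_inj fun j => by
    obtain ⟨t, ht⟩ := Full_cmul hfull (cT_full hn.1) j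
    rw [← ht, h3 i t, h2 i t]
  rw [this, mul_inv_cancel_right]
  exact hb

end Cfsg.Agent.Spor.EightPlusStd
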