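import Cfsg.Agent.Lib.Spor.EightPlusStandard.Sylow
import Cfsg.Agent.Lib.Spor.EightPlusStandard.DataPerm

/-!
Finite checks for the large commutative subgroups, centralizers and conjugations in the Sylow 2-subgroup of the model.
-/

set_option autoImplicit false
set_option maxRecDepth 100000
set_option maxHeartbeats 1000000
set_option Elab.async false

namespace Cfsg.Agent.Spor.EightPlusStd

theorem unit_codes : mk (dig cOne) = cOne ∧ mk (dig cNeg) = cNeg := by decide +kernel

/-- The square is a sign. -/
def sqB (x : ℕ) : Bool := Nat.beq (cmul x x) cOne || Nat.beq (cmul x x) cNeg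

/-- The product of permutation indices. -/
def pm (p q : ℕ) : ℕ := pDec fun j => tSig p (tSig q j % 8) % 8

/-- A mask fixed by a permutation index. -/
def fixM (p b : ℕ) : Bool :=
  (List.finRange 8).all fun j => (evM b).testBit (tSig p j % 8) == (evM b).testBit j

theorem sig_id : ∀ j : Fin 8, tSig 0 j % 8 = j := by decide +kernel

/-- The frame half of the pair permutations. -/
def frameImg : List ℕ := [0, 3, 5, 6, 9, 10, 12, 15]

/-- The tabled fixed masks. -/
def fixT (p : ℕ) : ℕ := Dat.fixRows.getD p 0

/-- The tabled product. -/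
def mulT (p q : ℕ) : ℕ := (Dat.mulRows.getD p 0 >>> (8 * q)) % 256

/-- The tabled commuting indices. -/
def comT (p : ℕ) : ℕ := Dat.comRows.getD p 0

theorem tables_ok : ((List.range 128).all fun p =>
    ((Dat.sqRow.testBit p) == Nat.beq (pm p p) 0) && (List.range 128).all fun q =>
      ((fixT p).testBit q == fixM p q) && (Nat.beq (mulT p q) (pm p q) &&
        ((comT p).testBit q == Nat.beq (mulT p q) (mulT q p)))) = true := by decide +kernel

/-- The masks fixed by all members of a list. -/
def fixAll (S : List ℕ) : ℕ := S.foldr (fun p r => fixT p &&& r) (2 ^ 128 - 1)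

/-- A bit, by primitive operations. -/
def tbit (v i : ℕ) : Bool := Nat.beq (Nat.mod (Nat.shiftRight v i) 2) 1

/-- The number of bits below 128. -/
def bitCount (x : ℕ) : ℕ := ((List.range 128).filter fun b => tbit x b).length

/-- A set of permutation indices is harmless. -/
def good (S : List ℕ) : Bool :=
  Nat.blt (S.length * bitCount (fixAll S)) 128 || Nat.beq S.length 1 || frameImg.all fun p => S.contains p

/-- The first candidates. -/
def cand0 : List ℕ := (List.range 128).filter fun p => Nat.blt 0 p && (tbit Dat.sqRow p && !parV (p % 16))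

/-- The candidates left after a choice. -/
def candNext (p : ℕ) (S' C : List ℕ) : List ℕ :=
  C.filter fun q => Nat.blt p q && (tbit (comT p) q && !S'.contains q)

/-- The search through elementary commutative sets of permutation indices. -/
def srch : ℕ → List ℕ → List ℕ → Bool
  | 0, _, _ => false
  | fuel + 1, S, C => good S && C.all fun p =>
      srch fuel (S ++ S.map (mulT p)) (candNext p (S ++ S.map (mulT p)) C)

theorem srch_ok : srch 6 [0] cand0 = true := by decide +kernel

theorem pm_zero : ∀ r : Fin 128, pm r 0 = r := by decide +kernel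

/-- An index of the frame. -/
def frameIdx (n : ℕ) : Bool :=
  Nat.blt (vDec (cT n)) 256 && Nat.beq (frC (vDec (cT n))) (cT n)

theorem frame_only : (frameImg.all fun p => (List.range 128).all fun b =>
    !sqB (cT (128 * p + b)) || frameIdx (128 * p + b) || frameImg.any fun q => (List.range 128).all fun c =>
      !sqB (cT (128 * q + c)) || !Nat.beq (cmul (cT (128 * p + b)) (cT (128 * q + c)))
        (cmul (cT (128 * q + c)) (cT (128 * p + b)))) = true := by decide +kernel

theorem frame_outside : ((List.range 128).all fun p => parV (p % 16) || frameImg.contains p ||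
    frameImg.any fun q => !Nat.beq (pm p q) (pm q p)) = true := by decide +kernel

theorem frameImg_card : frameImg.toFinset.card = 8 := by decide +kernel

/-- The permutation index of a pair of the frame. -/
def pairI (i : ℕ) : ℕ := decT (frC (3 * 2 ^ i)) / 128

theorem frame_centre_perm : ((List.range 128).all fun p => Nat.blt p 16 ||
    (List.range 7).any fun i => !Nat.beq (pm p (pairI i)) (pm (pairI i) p)) = true := by decide +kernel

theorem frame_centre : ((List.range 16).all fun p => (List.range 128).all fun b =>
    ((List.range 7).any fun i =>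
      !Nat.beq (cmul (cT (128 * p + b)) (frC (3 * 2 ^ i))) (cmul (frC (3 * 2 ^ i)) (cT (128 * p + b)))) ||
        frameIdx (128 * p + b)) = true := by
  decide +kernel

theorem frame_pair : ∀ i : Fin 7, 3 * 2 ^ (i : ℕ) < 256 ∧ parV (3 * 2 ^ (i : ℕ)) = false ∧
    cT (decT (frC (3 * 2 ^ (i : ℕ)))) = frC (3 * 2 ^ (i : ℕ)) ∧ decT (frC (3 * 2 ^ (i : ℕ))) < 16384 := by
  decide +kernel

theorem sign_moves : ∀ p : Fin 128, (p : ℕ) ≠ 0 → ∃ b : Fin 128, fixM p b = false := by decide +kernel

/-- The inverse code. -/
def cinv (x : ℕ) : ℕ :=
  mk fun k => (List.range 8).foldr (fun j r => bif Nat.beq (dig x j % 8) k then j + dig x j / 8 * 8 else r) 0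

/-- The representatives of the square roots of the negation. -/
def kRep (e : Fin 2) : ℕ := mk fun j => (j ^^^ 1) + bif ((if e = 0 then 85 else 149 : ℕ).testBit j) then 8 else 0

/-- The place of the certificate. -/
def certK (p b : ℕ) : ℕ := (Dat.certRows.getD p 0 >>> (8 * b)) % 256

/-- The certificate of an involution. -/
def invCert (x k : ℕ) : Bool :=
  Nat.blt k 25 &&
    let z := cmul (cmul (cd (22 + k)) x) (cinv (cd (22 + k)))
    Nat.blt (vDec z) 256 && (Nat.beq (frC (vDec z)) z && Nat.beq (cmul z (cd (22 + k))) (cmul (cd (22 + k)) x))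

/-- The certificate of a square root of the negation. -/
def fourCert (x k : ℕ) : Bool :=
  Nat.blt k 136 &&
    let c := cmul (cd (64 + k % 8)) (cd (47 + k / 8))
    Nat.beq (cmul c x) (cmul (kRep 0) c) || Nat.beq (cmul c x) (cmul (kRep 1) c)

theorem small_cert : ((List.range 128).all fun p => !Nat.beq (pm p p) 0 || (List.range 128).all fun b =>
    !sqB (cT (128 * p + b)) ||
      (bif Nat.beq (cmul (cT (128 * p + b)) (cT (128 * p + b))) cOne then invCert (cT (128 * p + b)) (certK p b)
        else !parV (p % 16) && fourCert (cT (128 * p + b)) (certK p b))) = true := by decide +kernel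

theorem conj_flags : (∀ k : Fin 25, (datN (22 + k)).2.2.1 = false) ∧ (∀ k : Fin 17, (datN (47 + k)).2.2.1 = false) ∧
    ∀ k : Fin 8, (datN (64 + k)).2.2.1 = false := by decide +kernel

theorem kRep_facts : ∀ e : Fin 2, cT (decT (kRep e)) = kRep e ∧ decT (kRep e) < 16384 ∧
    Full (kRep e) := by decide +kernel


end Cfsg.Agent.Spor.EightPlusStd
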