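import Cfsg.Agent.Lib.Spor.EightPlusStandard.Codes
import Cfsg.Agent.Lib.Lie.OEightTwoMult.Main
import Cfsg.Agent.Lib.Lie.OEightTwoMult.Points
import Cfsg.Agent.S0293
import Cfsg.Agent.S0296

/-!
The double cover of the orthogonal group of plus type in dimension eight over two elements as a group of
permutations of the 240 roots, and the full group of the root system generated by it and a reflection.
-/

set_option autoImplicit false
set_option maxRecDepth 100000
set_option maxHeartbeats 0
set_option Elab.async false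

noncomputable section

namespace Cfsg.Agent.Spor.EightPlusStd

open Cfsg.Agent.Lie Cfsg.Agent.Lie.PermCover Cfsg.Agent.Lie.OEightTwoMult
open Cfsg.Agent.Lie.PermNine (pg pmul chainOK fixes)

/-- The simple group. -/
abbrev Q : Type := Cfsg.POmega (ZMod 2) (Cfsg.quadFormPlus 4 (ZMod 2))

theorem card_Q : Nat.card Q = 174182400 := by
  have h := Cfsg.Agent.S0293.result (F := ZMod 2) (ZMod.card 2) 4 le_rfl
  norm_num [Finset.prod_range_succ] at h
  exact h

instance : Finite Q := Nat.finite_of_card_ne_zero (by rw [card_Q]; norm_num)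

theorem Q_simple : IsSimpleGroup Q := Cfsg.Agent.S0296.result (F := ZMod 2) 4 le_rfl

theorem Q_perfect : commutator Q = ⊤ := by
  haveI := Q_simple
  rcases (inferInstance : (commutator Q).Normal).eq_bot_or_eq_top with h | h
  · exfalso
    letI : CommGroup Q :=
      { (inferInstance : Group Q) with
        mul_comm := fun a b => commutatorElement_eq_one_iff_mul_comm.1 (Subgroup.mem_bot.1 (h ▸ by
          rw [commutator_def]; exact Subgroup.commutator_mem_commutator (Subgroup.mem_top a) (Subgroup.mem_top b))) }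
    have hp : (Nat.card Q).Prime := IsSimpleGroup.prime_card
    rw [card_Q] at hp
    norm_num at hp
  · exact h

/-- The action on the nonsingular points. -/
def phi : Q →* Equiv.Perm (Fin 120) := (exists_action (F := ZMod 2) (ZMod.card 2)).choose

theorem phi_base : ∀ p ∈ baseP, ∃ g, PermNine.Rep phi g p := (exists_action (F := ZMod 2) (ZMod.card 2)).choose_spec

theorem phi_inj : Function.Injective phi := (model phi phi_base card_Q).inj

/-! ### The cover -/

/-- The double cover: the root automorphisms over the group. -/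
def X : Subgroup (Equiv.Perm (Fin 240)) where
  carrier := {a | ∃ g, Over a (phi g)}
  one_mem' := ⟨1, by rw [map_one]; exact over_one⟩
  mul_mem' := fun {a b} ha hb => by
    obtain ⟨g, hg⟩ := ha
    obtain ⟨h, hh⟩ := hb
    exact ⟨g * h, by rw [map_mul]; exact over_mul hg hh⟩
  inv_mem' := fun {a} ha => by
    let S : Submonoid (Equiv.Perm (Fin 240)) :=
      { carrier := {a | ∃ g, Over a (phi g)}
        one_mem' := ⟨1, by rw [map_one]; exact over_one⟩
        mul_mem' := fun {a b} ha hb => by
          obtain ⟨g, hg⟩ := ha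
          obtain ⟨h, hh⟩ := hb
          exact ⟨g * h, by rw [map_mul]; exact over_mul hg hh⟩ }
    show a⁻¹ ∈ S
    rw [inv_eq_of_mul_eq_one_right (show a * a ^ (orderOf a - 1) = 1 by
      rw [← pow_succ', Nat.sub_add_cancel (orderOf_pos a), pow_orderOf_eq_one])]
    exact pow_mem (show a ∈ S from ha) _

theorem over_unique {a : Equiv.Perm (Fin 240)} {g h : Q} (hg : Over a (phi g)) (hh : Over a (phi h)) : g = h := by
  refine phi_inj (Equiv.ext fun p => ?_)
  rw [← pairF_first p, ← hg.1, ← hh.1]

/-- The projection. -/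
def pr : X →* Q := MonoidHom.mk' (fun a => a.2.choose) fun a b =>
  over_unique (a * b).2.choose_spec (by rw [map_mul]; exact over_mul a.2.choose_spec b.2.choose_spec)

theorem pr_over (a : X) : Over (a : Equiv.Perm (Fin 240)) (phi (pr a)) := a.2.choose_spec

theorem pr_eq {a : X} {g : Q} (h : Over (a : Equiv.Perm (Fin 240)) (phi g)) : pr a = g := over_unique (pr_over a) h

/-- The negation as an element of the cover. -/
def negX : X := ⟨negP, ⟨1, by rw [map_one]; exact over_neg⟩⟩

theorem pr_neg : pr negX = 1 := pr_eq (by rw [map_one]; exact over_neg)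

theorem negP_ne : negP ≠ 1 := fun h => (neg_pair 0).2 (Equiv.ext_iff.1 h 0)

theorem negX_ne : negX ≠ 1 := fun h => negP_ne (congrArg Subtype.val h)

theorem negX_sq : negX * negX = 1 := Subtype.ext negP_sq

theorem pr_ker {a : X} (h : pr a = 1) : a = 1 ∨ a = negX := by
  have := pr_over a
  rw [h, map_one] at this
  rcases over_one_cases this with e | e
  · exact Or.inl (Subtype.ext e)
  · exact Or.inr (Subtype.ext e)

theorem negX_comm (a : X) : a * negX = negX * a := Subtype.ext (Equiv.ext fun i => (pr_over a).2.1 i)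

theorem liftA_adj : ∀ s, ∀ i j, Adj i j = true → Adj (liftA s i) (liftA s j) = true := fun s => by
  fin_cases s
  exacts [liftA_adj0, liftA_adj1, liftA_adj2, liftA_adj3]

theorem liftB_adj : ∀ s, ∀ i j, Adj i j = true → Adj (liftB s i) (liftB s j) = true := fun s => by
  fin_cases s
  exacts [liftB_adj0, liftB_adj1, liftB_adj2, liftB_adj3]

theorem over_liftA {s : Fin 4} {g : Q} (h : PermNine.Rep phi g (baseP.getD s 0)) : Over (liftA s) (phi g) :=
  ⟨fun i => Fin.ext ((liftA_ok s i).2.trans (h (pairF i)).symm), fun i => (liftA_ok s i).1, liftA_adj s⟩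

/-- Generators of the simple group. -/
def qgen : Fin 4 → Q := (gens_exist phi phi_base card_Q).choose

theorem qgen_top : Subgroup.closure (Set.range qgen) = ⊤ := (gens_exist phi phi_base card_Q).choose_spec.1

theorem qgen_rep (s : Fin 4) : PermNine.Rep phi (qgen s) (baseP.getD s 0) := (gens_exist phi phi_base card_Q).choose_spec.2 s

/-- The first lifts. -/
def lA (s : Fin 4) : X := ⟨liftA s, qgen s, over_liftA (qgen_rep s)⟩

theorem pr_lA (s : Fin 4) : pr (lA s) = qgen s := pr_eq (over_liftA (qgen_rep s))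

theorem pr_surj : Function.Surjective pr := by
  rw [← MonoidHom.range_eq_top, eq_top_iff, ← qgen_top, Subgroup.closure_le]
  rintro _ ⟨s, rfl⟩
  exact ⟨lA s, pr_lA s⟩

theorem lA_word (w : List (Fin 4)) : (((w.map lA).prod : X) : Equiv.Perm (Fin 240)) = (w.map liftA).prod := by
  induction w with
  | nil => rfl
  | cons s w ih => exact congrArg (liftA s * ·) ih

theorem negX_commutator : negX ∈ commutator X := by
  have h : (pairX11.map lA).prod * (pairY11.map lA).prod = negX * ((pairY11.map lA).prod * (pairX11.map lA).prod) :=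
    Subtype.ext (by
      show ((((pairX11.map lA).prod : X)) : Equiv.Perm (Fin 240)) * (((pairY11.map lA).prod : X) : Equiv.Perm (Fin 240))
        = negP * ((((pairY11.map lA).prod : X) : Equiv.Perm (Fin 240)) * (((pairX11.map lA).prod : X) : Equiv.Perm (Fin 240)))
      rw [lA_word, lA_word]
      exact Equiv.ext xy_one.1)
  rw [commutator_def, show negX = (pairX11.map lA).prod * (pairY11.map lA).prod * ((pairX11.map lA).prod)⁻¹ *
    ((pairY11.map lA).prod)⁻¹ by rw [h]; group]
  exact Subgroup.commutator_mem_commutator (Subgroup.mem_top _) (Subgroup.mem_top _)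

theorem pr_stem : Cfsg.IsStemExtension pr := by
  refine ⟨pr_surj, fun a ha => ?_, fun a ha => ?_⟩ <;> rcases pr_ker ha with rfl | rfl
  exacts [one_mem _, Subgroup.mem_center_iff.2 negX_comm, one_mem _, negX_commutator]

theorem X_perfect : commutator X = ⊤ := CoverUniversal.perfect_of_stem Q_perfect pr_stem

theorem X_centre {a : X} (h : ∀ b : X, b * a = a * b) : a = 1 ∨ a = negX := by
  refine pr_ker ?_
  haveI := Q_simple
  have hc : pr a ∈ Subgroup.center Q := Subgroup.mem_center_iff.2 fun g => by
    obtain ⟨b, rfl⟩ := pr_surj g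
    rw [← map_mul, ← map_mul, h]
  rcases (inferInstance : (Subgroup.center Q).Normal).eq_bot_or_eq_top with e | e
  · rwa [e, Subgroup.mem_bot] at hc
  · exfalso
    have hb : commutator Q = ⊥ := by
      rw [commutator_def, ← le_bot_iff, Subgroup.commutator_le]
      intro x _ y _
      rw [Subgroup.mem_bot, commutatorElement_eq_one_iff_mul_comm]
      exact Subgroup.mem_center_iff.1 (e ▸ Subgroup.mem_top y) x
    rw [Q_perfect] at hb
    have := congrArg (fun H : Subgroup Q => Nat.card H) hb
    simp only [Subgroup.card_top, Subgroup.card_bot, card_Q] at this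
    norm_num at this

theorem card_X : Nat.card X = 2 * 174182400 := by
  rw [← Subgroup.card_mul_index pr.ker, Subgroup.index_ker, MonoidHom.range_eq_top.2 pr_surj, Subgroup.card_top, card_Q]
  congr 1
  have e : (pr.ker : Set X) = {1, negX} := by
    ext a
    refine ⟨fun h => pr_ker h, fun h => ?_⟩
    rcases h with rfl | rfl
    exacts [one_mem _, pr_neg]
  have h2 := Set.ncard_pair (Ne.symm negX_ne)
  rwa [← e, ← Nat.card_coe_set_eq] at h2

/-! ### Certificates of membership and nonmembership -/

/-- The permutation of the pairs under a root permutation, packed. -/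
def pairT (a : ℕ) : ℕ := (List.range' 0 120).foldr (fun p m => m * 512 + pg a (2 * p) / 2 % 512) 0

theorem pg_pairT (a : ℕ) {p : ℕ} (h : p < 120) : pg (pairT a) p = pg a (2 * p) / 2 % 512 := by
  rw [pairT, PermNine.foldr_digits (fun k => pg a (2 * k) / 2 % 512) (fun _ => Nat.mod_lt _ (by norm_num)) 120 0 p h,
    Nat.zero_add]

/-- Sifting to the identity along chosen places. -/
def sifts : List (ℕ × List Elem) → List ℕ → ℕ → Bool
  | [], _, p => (List.range 120).all fun k => Nat.beq (pg p k) k
  | l :: L, j :: js, p => Nat.blt j l.2.length && sifts L js (pmul 120 (l.2.getD j (0, 0, [])).2.1 p)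
  | _ :: _, [], _ => false

theorem elem_rep {l : ℕ × List Elem} (hl : l ∈ chainE) {e : Elem} (he : e ∈ l.2) :
    (∃ g, PermNine.Rep phi g e.1) ∧ ∀ k < 120, pg e.2.1 k < 120 ∧ pg e.1 (pg e.2.1 k) = k := by
  obtain ⟨g, -, hg⟩ := (chain_reps phi_base (l.1, l.2.map Prod.fst) (List.mem_map.2 ⟨l, hl, rfl⟩)).2 e.1
    (List.mem_map.2 ⟨e, he, rfl⟩)
  refine ⟨⟨g, hg⟩, fun k hk => ?_⟩
  have h := List.all_eq_true.1 (List.all_eq_true.1 chainE_ok l hl) e he
  simp only [elemOK, Bool.and_eq_true, List.all_eq_true, Nat.blt_eq, List.mem_range, Nat.beq_eq] at h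
  exact (h.2 k hk).2

theorem sifts_sound : ∀ (L : List (ℕ × List Elem)), (∀ l ∈ L, l ∈ chainE) → ∀ (js : List ℕ) (p : ℕ),
    (∀ k < 120, pg p k < 120) → sifts L js p = true → ∃ g, PermNine.Rep phi g p
  | [], _, _, p, _, h => ⟨1, fun k => by
      simp only [sifts, List.all_eq_true, List.mem_range, Nat.beq_eq] at h
      rw [map_one, h k k.2]
      rfl⟩
  | l :: L, hL, [], p, _, h => by simp [sifts] at h
  | l :: L, hL, j :: js, p, hp, h => by
    simp only [sifts, Bool.and_eq_true, Nat.blt_eq] at h
    obtain ⟨hj, h⟩ := h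
    rw [List.getD_eq_getElem _ _ hj] at h
    obtain ⟨⟨u, hu⟩, hinv⟩ := elem_rep (hL l List.mem_cons_self) (List.getElem_mem hj)
    obtain ⟨g, hg⟩ := sifts_sound L (fun m hm => hL m (List.mem_cons_of_mem _ hm)) js _
      (fun k hk => by rw [PermNine.pg_pmul _ _ hk]; exact (hinv _ (hp k hk)).1) h
    refine ⟨u * g, fun k => ?_⟩
    rw [map_mul, Equiv.Perm.mul_apply, hu, hg, PermNine.pg_pmul _ _ k.2, (hinv _ (hp k k.2)).2]

/-- A chain on which a permutation gets stuck. -/
def stuck : List (ℕ × List Elem) → ℕ → Bool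
  | [], _ => false
  | l :: L, p => l.2.all fun e => !Nat.beq (pg e.1 l.1) (pg p l.1) || stuck L (pmul 120 e.2.1 p)

theorem stuck_sound : ∀ (L : List (ℕ × List Elem)) (fixed : List ℕ), (∀ l ∈ L, l ∈ chainE) →
    chainOK (L.map fun l => (l.1, l.2.map Prod.fst)) fixed = true →
    (fixes phi fixed).ncard ≤ PermNine.chainSize (L.map fun l => (l.1, l.2.map Prod.fst)) →
    ∀ g ∈ fixes phi fixed, ∀ p : ℕ, PermNine.Rep phi g p → stuck L p = false
  | [], _, _, _, _, _, _, _, _ => rfl
  | l :: L, fixed, hL, hok, hc, g, hg, p, hp => by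
    rw [List.map_cons] at hok hc
    have hr : PermNine.Reps (φ := phi) (Set.univ : Set Q)
        ((l.1, l.2.map Prod.fst) :: L.map fun l => (l.1, l.2.map Prod.fst)) := fun x hx => by
      rw [← List.map_cons (f := fun l : ℕ × List Elem => (l.1, l.2.map Prod.fst)), List.mem_map] at hx
      obtain ⟨m, hm, rfl⟩ := hx
      exact chain_reps phi_base _ (List.mem_map.2 ⟨m, hL m hm, rfl⟩)
    obtain ⟨h1, h2⟩ := PermNine.chain_step hok hr hc
    obtain ⟨q, hq, u, -, hu, hfix⟩ := h2 g hg
    obtain ⟨e, he, rfl⟩ := List.mem_map.1 hq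
    have hb : l.1 < 120 := (hr _ List.mem_cons_self).1
    obtain ⟨-, hinv⟩ := elem_rep (hL l List.mem_cons_self) he
    have hinv' : ∀ k : Fin 120, (phi u⁻¹ k : ℕ) = pg e.2.1 k := fun k => by
      obtain ⟨h3, h4⟩ := hinv k k.2
      rw [map_inv]
      have : phi u ⟨_, h3⟩ = k := Fin.ext (by rw [hu]; exact h4)
      nth_rw 1 [← this]
      rw [Equiv.Perm.inv_def, Equiv.symm_apply_apply]
    have hrep : PermNine.Rep phi (u⁻¹ * g) (pmul 120 e.2.1 p) := fun k => by
      rw [map_mul, Equiv.Perm.mul_apply, hinv', hp, PermNine.pg_pmul _ _ k.2]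
    have hrest := stuck_sound L (fixed ++ [l.1]) (fun m hm => hL m (List.mem_cons_of_mem _ hm))
      (by simp only [chainOK, Bool.and_eq_true] at hok; exact hok.2) h1 _ hfix _ hrep
    have hbe : pg e.1 l.1 = pg p l.1 := by
      have h5 := congrArg (fun q => phi u q) (hfix ⟨l.1, hb⟩ (List.mem_append_right _ List.mem_cons_self))
      rw [map_mul, Equiv.Perm.mul_apply, map_inv, Equiv.Perm.inv_def, Equiv.apply_symm_apply] at h5
      have h6 := congrArg Fin.val h5
      rw [hp, hu] at h6
      exact h6.symm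
    simp only [stuck, List.all_eq_false]
    exact ⟨e, he, by simp [hbe, hrest]⟩

/-- The reflection. -/
def rfx : Equiv.Perm (Fin 240) := dat 15

/-- The packed pairs of a product with the reflection. -/
def pairR (a : ℕ) : ℕ := pmul 120 (pairT (datN 15).1) (pairT a)

/-- The certificate of a stored permutation. -/
def datCert (k : Fin 91) : Bool :=
  sifts chainE (datN k).2.2.2 (bif (datN k).2.2.1 then pairR (datN k).1 else pairT (datN k).1)

theorem dat_cert : ∀ k : Fin 91, datCert k = true := by decide +kernel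

theorem dat_pairs : ∀ k : Fin 91, ∀ i : Fin 240, (dat k) (ng i) = ng (dat k i) ∧
    (dat k i : ℕ) / 2 = pg (datN k).1 (2 * ((i : ℕ) / 2)) / 2 % 512 := by decide +kernel

/-- The inner product in coordinates. -/
def ipC (i j : Fin 240) : ℤ := ∑ k : Fin 8, ((co i k : ℤ) - 2) * ((co j k : ℤ) - 2)

theorem adj_ipC : ((List.finRange 240).all fun i => (List.finRange 240).all fun j =>
    Adj i j == decide (ipC i j = 4)) = true := by decide +kernel

theorem adj_iff (i j : Fin 240) : Adj i j = true ↔ ipC i j = 4 := by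
  have h := List.all_eq_true.1 (List.all_eq_true.1 adj_ipC i (List.mem_finRange i)) j (List.mem_finRange j)
  simp only [beq_iff_eq] at h
  rw [h, decide_eq_true_eq]

theorem has_ipC {x : ℕ} (hx : Full x) {a : Fin 240 → Fin 240} (ha : Has x a) (i j : Fin 240) :
    ipC (a i) (a j) = ipC i j := by
  have hb : Function.Bijective fun k : Fin 8 => (⟨dig x k % 8, Nat.mod_lt _ (by norm_num)⟩ : Fin 8) :=
    (Finite.surjective_iff_bijective).1 fun k => by
      obtain ⟨l, hl⟩ := hx k
      exact ⟨l, Fin.ext hl⟩
  rw [ipC, ipC, ← hb.sum_comp]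
  refine Finset.sum_congr rfl fun k _ => ?_
  simp only [ha i k, ha j k, flipD]
  have h1 := co_lt i k
  have h2 := co_lt j k
  split_ifs
  · rfl
  · rw [Nat.cast_sub (by omega), Nat.cast_sub (by omega)]; push_cast; ring

theorem lift_adj : ∀ t : Fin 5, ((List.finRange 240).all fun i => (List.finRange 240).all fun j =>
    !Adj i j || Adj (dat ⟨86 + t, by omega⟩ i) (dat ⟨86 + t, by omega⟩ j)) = true := by decide +kernel

theorem dat_adj (k : Fin 91) (i j : Fin 240) (h : Adj i j = true) : Adj (dat k i) (dat k j) = true := by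
  rcases Nat.lt_or_ge (k : ℕ) 86 with hk | hk
  · rw [adj_iff] at h ⊢
    rw [← h]
    exact has_ipC (cd_full ⟨k, hk⟩) (dat_has ⟨k, hk⟩) i j
  · have h' := List.all_eq_true.1 (List.all_eq_true.1 (lift_adj ⟨k - 86, by omega⟩) i (List.mem_finRange i)) j
      (List.mem_finRange j)
    rw [show (⟨86 + (k - 86), by omega⟩ : Fin 91) = k from Fin.ext (by simp; omega)] at h'
    simpa [h] using h'

theorem dat_over (k : Fin 91) {g : Equiv.Perm (Fin 120)} (hg : ∀ p : Fin 120, (g p : ℕ) = pg (pairT (datN k).1) p) :
    Over (dat k) g := by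
  refine ⟨fun i => Fin.ext ?_, fun i => (dat_pairs k i).1, dat_adj k⟩
  rw [hg, pg_pairT _ (pairF i).2]
  exact (dat_pairs k i).2

theorem rfx_stuck : stuck chainE (pairT (datN 15).1) = true := by decide +kernel

theorem rfx_sq : ∀ i : Fin 240, rfx (rfx i) = i := by decide +kernel

theorem rfx_not_mem : rfx ∉ X := by
  rintro ⟨g, hg⟩
  have hp : PermNine.Rep phi g (pairT (datN 15).1) := fun p => by
    have h := hg.1 (firstR p)
    rw [pairF_first] at h
    rw [← h]
    rw [pg_pairT _ p.2]
    refine (dat_pairs 15 (firstR p)).2.trans ?_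
    show pg _ (2 * (2 * (p : ℕ) / 2)) / 2 % 512 = _
    rw [Nat.mul_div_cancel_left _ (by norm_num)]
    rfl
  have := stuck_sound chainE [] (fun _ h => h) chainX_ok
    (by rw [show fixes phi [] = Set.univ from Set.eq_univ_of_forall fun g k hk => absurd hk List.not_mem_nil,
      Set.ncard_univ, card_Q]; exact chainX_size.ge) g (fun k hk => absurd hk List.not_mem_nil) _ hp
  rw [rfx_stuck] at this
  exact Bool.noConfusion this

end Cfsg.Agent.Spor.EightPlusStd
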