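import Mathlib.GroupTheory.Transfer
import Cfsg.Prelude.Def_Local
import Cfsg.Prelude.Def_KGroupFacts
import Cfsg.Agent.Lib.Fusion.IsolatedInvolution
import Cfsg.Agent.Lib.Fusion.Cores
import Cfsg.Agent.S0215
import Cfsg.Agent.Lib.Spor.EightPlusStandard.Cover
import Cfsg.Agent.Lib.Spor.EightPlusStandard.Fusion

/-!
A standard subgroup which is a double cover of the orthogonal group of plus type in dimension eight over two
elements, with centralizer having cyclic Sylow 2-subgroups, is normal when the odd core is trivial.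
-/

set_option autoImplicit false

namespace Cfsg.Agent.Spor.EightPlusStd

open Cfsg

theorem exists_ctx {G : Type*} [Group G] [Finite G] (A : Subgroup G) (hA : Cfsg.IsStandardSubgroup A) (e : ↥A ≃* X)
    (hR : ∀ R : Sylow 2 ↥(Subgroup.centralizer (A : Set G)),
      IsCyclic ↥(R : Subgroup ↥(Subgroup.centralizer (A : Set G)))) :
    ∃ S : Ctx G, ∀ g : G, g * S.z = S.z * g → g ∈ Subgroup.normalizer (A : Set G) := by
  classical
  have : Fact (Nat.Prime 2) := ⟨Nat.prime_two⟩
  obtain ⟨-, ⟨-, hte⟩, -, hnorm⟩ := hA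
  set ι : X →* G := A.subtype.comp e.symm.toMonoidHom with hι
  have hinj : Function.Injective ι := A.subtype_injective.comp e.symm.injective
  have hrange : ι.range = A := by
    rw [hι, MonoidHom.range_comp, MonoidHom.range_eq_top.2 e.symm.surjective, ← MonoidHom.range_eq_map,
      Subgroup.range_subtype]
  have hset : Set.range ι = (A : Set G) := by rw [← hrange, MonoidHom.coe_range]
  set C := Subgroup.centralizer (A : Set G) with hC
  have hzz : ι negX * ι negX = 1 := by rw [← map_mul, negX_sq, map_one]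
  have hz1 : ι negX ≠ 1 := fun h => negX_ne (hinj (by rw [map_one]; exact h))
  have hzo : orderOf (ι negX) = 2 := orderOf_eq_prime (by rw [sq, hzz]) hz1
  have hzC : ι negX ∈ C := by
    rw [hC, ← hset, Subgroup.mem_centralizer_iff]
    rintro _ ⟨y, rfl⟩
    rw [← map_mul, ← map_mul, negX_comm]
  have hzA : ι negX ∈ A := hrange ▸ ⟨negX, rfl⟩
  have hnz : ∀ g : G, g * ι negX = ι negX * g → g ∈ Subgroup.normalizer (A : Set G) := by
    intro g hg
    rw [hnorm]
    by_contra hne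
    have hev : 2 ∣ Nat.card ↥(C ⊓ C.map (MulAut.conj g).toMonoidHom) := by
      refine hzo ▸ Subgroup.orderOf_dvd_natCard _ ⟨hzC, ι negX, hzC, ?_⟩
      show g * ι negX * g⁻¹ = ι negX
      rw [hg, mul_inv_cancel_right]
    exact (Nat.not_even_iff_odd.2 (hte g hne)) (even_iff_two_dvd.2 hev)
  set zc : ↥C := ⟨ι negX, hzC⟩ with hzc
  have hzcen : ∀ h : ↥C, h * zc = zc * h := fun h =>
    Subtype.ext (Subgroup.mem_centralizer_iff.1 h.2 _ hzA).symm
  have hzR : ∀ R : Sylow 2 ↥C, zc ∈ R := by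
    intro R
    obtain ⟨P, hP⟩ := (IsPGroup.of_card (n := 1) (by
      rw [Nat.card_zpowers, Subgroup.orderOf_mk, hzo, pow_one]) : IsPGroup 2 ↥(Subgroup.zpowers zc)).exists_le_sylow
    obtain ⟨h, rfl⟩ := MulAction.exists_smul_eq ↥C P R
    show zc ∈ ((h • P : Sylow 2 ↥C) : Subgroup ↥C)
    rw [Sylow.coe_subgroup_smul, Subgroup.mem_pointwise_smul_iff_inv_smul_mem, MulAut.smul_def, ← map_inv,
      MulAut.conj_apply, inv_inv, mul_assoc, ← hzcen, inv_mul_cancel_left]
    exact hP (Subgroup.mem_zpowers zc)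
  refine ⟨⟨ι, hinj, fun g hg => ?_, fun c hc hc2 => ?_, ?_⟩, hnz⟩
  · let φ : X ≃* X := (e.symm.trans (A.normalizerMonoidHom ⟨g, hnz g hg⟩)).trans e
    obtain ⟨w, hw, hwφ⟩ := aut_X φ
    refine ⟨w, hw, fun x y hy => ?_⟩
    rw [show y = φ x from Subtype.ext (hy.trans (hwφ x).symm)]
    show g * ι x * g⁻¹ = ((e.symm (e _) : ↥A) : G)
    rw [e.symm_apply_apply]
    rfl
  · have hcC : c ∈ C := by
      rw [hC, ← hset, Subgroup.mem_centralizer_iff]
      rintro _ ⟨x, rfl⟩
      exact (hc x).symm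
    have hcc : (⟨c, hcC⟩ : ↥C) ^ (2 ^ 1) = 1 := Subtype.ext (by show c ^ (2 ^ 1) = 1; rw [pow_one, sq, hc2])
    obtain ⟨k, -, hk⟩ := (Nat.dvd_prime_pow Nat.prime_two).1 (orderOf_dvd_of_pow_eq_one hcc)
    obtain ⟨R, hcR⟩ := (IsPGroup.of_card (n := k)
      (by rw [Nat.card_zpowers, hk]) : IsPGroup 2 ↥(Subgroup.zpowers (⟨c, hcC⟩ : ↥C))).exists_le_sylow
    haveI := hR R
    haveI : Fintype ↥(R : Subgroup ↥C) := Fintype.ofFinite _
    by_contra hne
    rw [not_or] at hne
    let a : ↥(R : Subgroup ↥C) := ⟨⟨c, hcC⟩, hcR (Subgroup.mem_zpowers _)⟩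
    let b : ↥(R : Subgroup ↥C) := ⟨zc, hzR R⟩
    have hab : a ≠ b := fun h => hne.2 (congrArg (fun t : ↥(R : Subgroup ↥C) => ((t : ↥C) : G)) h)
    have ha1 : a ≠ 1 := fun h => hne.1 (congrArg (fun t : ↥(R : Subgroup ↥C) => ((t : ↥C) : G)) h)
    have hb1 : b ≠ 1 := fun h => hz1 (congrArg (fun t : ↥(R : Subgroup ↥C) => ((t : ↥C) : G)) h)
    have hle := IsCyclic.card_pow_eq_one_le (α := ↥(R : Subgroup ↥C)) (show 0 < 2 by norm_num)
    have hsub : ({1, a, b} : Finset ↥(R : Subgroup ↥C)) ⊆ Finset.univ.filter fun t => t ^ 2 = 1 := by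
      intro t ht
      simp only [Finset.mem_insert, Finset.mem_singleton] at ht
      simp only [Finset.mem_filter, Finset.mem_univ, true_and]
      rcases ht with rfl | rfl | rfl
      · exact one_pow 2
      · exact Subtype.ext (Subtype.ext (by show c ^ 2 = 1; rw [sq, hc2]))
      · exact Subtype.ext (Subtype.ext (by show ι negX ^ 2 = 1; rw [sq, hzz]))
    have h3 : ({1, a, b} : Finset ↥(R : Subgroup ↥C)).card = 3 :=
      Finset.card_eq_three.2 ⟨1, a, b, ha1.symm, hb1.symm, hab, rfl⟩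
    have := Finset.card_le_card hsub
    omega
  · rw [hset]
    intro o ho he
    obtain ⟨R⟩ : Nonempty (Sylow 2 ↥C) := inferInstance
    haveI := hR R
    letI : CommGroup ↥(R : Subgroup ↥C) := IsCyclic.commGroup
    let τ : ↥C →* ↥(R : Subgroup ↥C) := MonoidHom.transfer (H := (R : Subgroup ↥C)) (MonoidHom.id _)
    have hτ : τ o = 1 := Abelianization.commutator_subset_ker τ ho
    have hoz : o = zc := Subtype.ext he
    rw [hoz] at hτ
    have hkey : ∀ (k : ℕ) (g₀ : ↥C), g₀⁻¹ * zc ^ k * g₀ ∈ (R : Subgroup ↥C) → g₀⁻¹ * zc ^ k * g₀ = zc ^ k := by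
      intro k g₀ _
      have h : Commute g₀ (zc ^ k) := Commute.pow_right (hzcen g₀) k
      rw [mul_assoc, ← h.eq, inv_mul_cancel_left]
    have h2 := MonoidHom.transfer_eq_pow (MonoidHom.id ↥(R : Subgroup ↥C)) zc hkey
    have hpow : zc ^ (R : Subgroup ↥C).index = zc := by
      obtain ⟨m, hm⟩ := Nat.odd_iff.2 (Nat.two_dvd_ne_zero.1 R.not_dvd_index)
      rw [hm, pow_succ, pow_mul, show zc ^ 2 = 1 from Subtype.ext (by show ι negX ^ 2 = 1; rw [sq, hzz]), one_pow,
        one_mul]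
    have h3 : zc = 1 := by
      have := congrArg (Subtype.val) (h2.symm.trans hτ)
      simp only [MonoidHom.id_apply] at this
      rwa [hpow] at this
    exact hz1 (congrArg Subtype.val h3)

/-- A standard subgroup with this double cover as its isomorphism type is normal. -/
theorem component_normal {G : Type*} [Group G] [Finite G] (hO : Cfsg.oddCore G = ⊥) (A : Subgroup G)
    (hA : Cfsg.IsStandardSubgroup A) (e : ↥A ≃* X)
    (hR : ∀ R : Sylow 2 ↥(Subgroup.centralizer (A : Set G)),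
      IsCyclic ↥(R : Subgroup ↥(Subgroup.centralizer (A : Set G)))) : A.Normal := by
  obtain ⟨S, hnz⟩ := exists_ctx A hA e hR
  have hz : Cfsg.IsIsolatedInvolution S.z := by
    have : Fact (Nat.Prime 2) := ⟨Nat.prime_two⟩
    refine ⟨orderOf_eq_prime (by rw [sq, S.z_sq]) S.z_ne, fun g hg => S.isolated g hg.eq.symm⟩
  obtain ⟨P, hP, hPiso⟩ := Cfsg.Agent.Fusion.isolated_sylow hz
  obtain ⟨N, hN, hodd, hcomm⟩ := Cfsg.Agent.S0215.result P S.z hz.1 hP hPiso
  have hbot : N = ⊥ := by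
    have := hN
    have h := Cfsg.Agent.Fusion.le_pPrimeCore (p := 2) (N := N) hodd.coprime_two_right
    exact le_bot_iff.1 (h.trans hO.le)
  rw [← Subgroup.normalizer_eq_top_iff]
  refine eq_top_iff.2 fun g _ => hnz g ?_
  have h := hcomm g
  rw [hbot, Subgroup.mem_bot] at h
  have h2 : S.z * g = g * S.z := by
    calc S.z * g = (S.z * g * S.z⁻¹ * g⁻¹) * (g * S.z) := by group
      _ = g * S.z := by rw [h, one_mul]
  exact h2.symm

end Cfsg.Agent.Spor.EightPlusStd
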