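import Cfsg.Agent.Lib.Spor.EightPlusStandard.Weyl
import Mathlib.GroupTheory.Sylow

/-!
A Sylow 2-subgroup of the group of the root system in monomial codes: its involutions, its elements with square the
negation, and its large commutative subgroups.
-/

set_option autoImplicit false
set_option maxRecDepth 100000
set_option maxHeartbeats 1000000
set_option Elab.async false

namespace Cfsg.Agent.Spor.EightPlusStd

open Cfsg.Agent.Lie.OEightTwoMult (negP ng)

/-! ### Codes are unique -/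

theorem digit_unique : ∀ q s : Fin 16, ∀ _h : (∀ b : Fin 240, flipD q (co b ((q : ℕ) % 8)) = flipD s (co b ((s : ℕ) % 8))),
    q = s := by decide +kernel

theorem flip_twice : ∀ q : Fin 16, ∀ d : Fin 5, flipD q (flipD q d) = d := by decide +kernel

theorem Has.dig_eq {x y : ℕ} {a : Equiv.Perm (Fin 240)} (hx : Has x a) (hy : Has y a) (j : Fin 8) :
    dig x j = dig y j := by
  refine congrArg Fin.val (digit_unique ⟨_, dig_lt x j⟩ ⟨_, dig_lt y j⟩ fun b => ?_)
  have h1 := hx (a.symm b) j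
  have h2 := hy (a.symm b) j
  rw [Equiv.apply_symm_apply] at h1 h2
  simp only
  rw [h1, h2, flip_twice ⟨_, dig_lt x j⟩ ⟨_, co_lt _ j⟩, flip_twice ⟨_, dig_lt y j⟩ ⟨_, co_lt _ j⟩]

/-! ### The frame of eight orthogonal reflections -/

/-- The code of a product of frame reflections along a list. -/
def frCL (L : List (Fin 8)) (v : ℕ) : ℕ :=
  L.foldr (fun (j : Fin 8) a => bif v.testBit (j : ℕ) then cmul (cd (14 + j)) a else a) cOne

/-- The code of a product of frame reflections. -/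
def frC (v : ℕ) : ℕ := frCL (List.finRange 8) v

/-- A frame reflection. -/
def rP (j : Fin 8) : Equiv.Perm (Fin 240) := dat ⟨14 + j, by omega⟩

/-- A product of frame reflections along a list. -/
def frL (L : List (Fin 8)) (v : ℕ) : Equiv.Perm (Fin 240) :=
  L.foldr (fun (j : Fin 8) a => bif v.testBit (j : ℕ) then rP j * a else a) 1

/-- A product of frame reflections. -/
def frP (v : ℕ) : Equiv.Perm (Fin 240) := frL (List.finRange 8) v

theorem rP_has (j : Fin 8) : Has (cd (14 + j)) (rP j) := dat_has ⟨14 + j, by omega⟩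

theorem has_step {x y : ℕ} {a b : Equiv.Perm (Fin 240)} (c : Bool) (ha : Has x a) (hb : Has y b) :
    Has (bif c then cmul x y else y) ⇑(bif c then a * b else b) := by
  cases c
  · exact hb
  · exact Has.mul ha hb

theorem has_unit : Has cOne ⇑(1 : Equiv.Perm (Fin 240)) := has_one

theorem frCL_nil (v : ℕ) : frCL [] v = cOne := List.foldr_nil ..

theorem frCL_cons (j : Fin 8) (L : List (Fin 8)) (v : ℕ) :
    frCL (j :: L) v = bif v.testBit (j : ℕ) then cmul (cd (14 + j)) (frCL L v) else frCL L v := List.foldr_cons ..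

theorem frL_cons (j : Fin 8) (L : List (Fin 8)) (v : ℕ) :
    frL (j :: L) v = bif v.testBit (j : ℕ) then rP j * frL L v else frL L v := List.foldr_cons ..

theorem frL_has (L : List (Fin 8)) (v : ℕ) : Has (frCL L v) (frL L v) := by
  induction L with
  | nil => rw [frCL_nil, show frL [] v = 1 from List.foldr_nil ..]; exact has_unit
  | cons j L ih => rw [frCL_cons, frL_cons]; exact has_step _ (rP_has j) ih

theorem frP_has (v : ℕ) : Has (frC v) (frP v) := frL_has _ v

theorem frC_full : ∀ v : Fin 256, Full (frC v) := by decide +kernel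

theorem frC_step : ∀ j : Fin 8, ∀ v : Fin 256,
    cmul (cd (14 + j)) (frC v) = frC ((2 ^ (j : ℕ)) ^^^ (v : ℕ)) := by decide +kernel

theorem xor_lt256 {a b : ℕ} (ha : a < 256) (hb : b < 256) : a ^^^ b < 256 :=
  Nat.xor_lt_two_pow (n := 8) (by simpa using ha) (by simpa using hb)

theorem rP_frP (j : Fin 8) {v : ℕ} (hv : v < 256) : rP j * frP v = frP ((2 ^ (j : ℕ)) ^^^ v) := by
  have hlt : (2 ^ (j : ℕ)) ^^^ v < 256 :=
    xor_lt256 (Nat.pow_lt_pow_right (by norm_num) j.2) hv
  refine Equiv.ext (congrFun (Has.ext (frC_full ⟨_, hlt⟩) ?_ (frP_has _)))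
  have := Has.mul (rP_has j) (frP_has v)
  rwa [frC_step j ⟨v, hv⟩] at this

/-- The mask read along a list. -/
def maskL (L : List (Fin 8)) (w : ℕ) : ℕ :=
  L.foldr (fun (j : Fin 8) m => bif w.testBit (j : ℕ) then (2 ^ (j : ℕ)) ^^^ m else m) 0

theorem maskL_all : ∀ w : Fin 256, maskL (List.finRange 8) w = w := by decide +kernel

theorem maskL_lt : ∀ (L : List (Fin 8)) (w : ℕ), maskL L w < 256
  | [], _ => by simp [maskL]
  | j :: L, w => by
    have ih := maskL_lt L w
    simp only [maskL, List.foldr_cons]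
    cases w.testBit (j : ℕ) with
    | false => exact ih
    | true => exact xor_lt256 (Nat.pow_lt_pow_right (by norm_num) j.2) ih

theorem frL_mul : ∀ (L : List (Fin 8)) (w v : ℕ), v < 256 → frL L w * frP v = frP (maskL L w ^^^ v)
  | [], w, v, hv => by simp [frL, maskL]
  | j :: L, w, v, hv => by
    have ih := frL_mul L w v hv
    simp only [frL, maskL, List.foldr_cons] at ih ⊢
    cases w.testBit (j : ℕ) with
    | false => exact ih
    | true =>
      simp only [cond_true]
      rw [mul_assoc, ih]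
      refine (rP_frP j ?_).trans (by rw [Nat.xor_assoc])
      exact xor_lt256 (maskL_lt L w) hv

theorem frP_mul {v w : ℕ} (hv : v < 256) (hw : w < 256) : frP v * frP w = frP (v ^^^ w) := by
  have := frL_mul (List.finRange 8) v w hw
  rw [maskL_all ⟨v, hv⟩] at this
  exact this

theorem frP_zero : frP 0 = 1 := by
  simp [frP, frL]

theorem frP_comm {v w : ℕ} (hv : v < 256) (hw : w < 256) : frP v * frP w = frP w * frP v := by
  rw [frP_mul hv hw, frP_mul hw hv, Nat.xor_comm]

theorem frP_moves : ∀ v : Fin 256, (v : ℕ) ≠ 0 → ∃ i : Fin 240, fixB (frC v) i = false := by decide +kernel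

theorem frP_inj {v w : ℕ} (hv : v < 256) (hw : w < 256) (h : frP v = frP w) : v = w := by
  by_contra hne
  obtain ⟨i, hi⟩ := frP_moves ⟨v ^^^ w, xor_lt256 hv hw⟩ (fun e => hne (Nat.xor_eq_zero_iff.1 e))
  have h1 : frP (v ^^^ w) = 1 := by rw [← frP_mul hv hw, h, frP_mul hw hw, Nat.xor_self, frP_zero]
  have := ((frP_has (v ^^^ w)).fix_iff (frC_full ⟨_, xor_lt256 hv hw⟩) i).1 (by rw [h1]; rfl)
  simp only at hi
  rw [hi] at this
  exact Bool.noConfusion this

theorem neg_has : Has cNeg negP ∧ Full cNeg ∧ frC 255 = cNeg := by decide +kernel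

theorem frP_neg : frP 255 = negP :=
  Equiv.ext (congrFun (Has.ext neg_has.2.1 (neg_has.2.2 ▸ frP_has 255) neg_has.1))

/-- The parity of a mask. -/
def parV (v : ℕ) : Bool := (List.range 8).foldr (fun j b => xor (v.testBit j) b) false

theorem parV_xor {v w : ℕ} : parV (v ^^^ w) = xor (parV v) (parV w) := by
  simp only [parV, List.range, List.range.loop, List.foldr, Nat.testBit_xor]
  cases v.testBit 0 <;> cases v.testBit 1 <;> cases v.testBit 2 <;> cases v.testBit 3 <;>
    cases v.testBit 4 <;> cases v.testBit 5 <;> cases v.testBit 6 <;> cases v.testBit 7 <;> simp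

theorem r_flags : ∀ j : Fin 8, (datN (14 + j)).2.2.1 = true ∧ parV (2 ^ (j : ℕ)) = true := by decide +kernel

theorem rP_not_X (j : Fin 8) : rP j ∉ X := fun h => by
  have := (dat_W ⟨14 + j, by omega⟩).1.1 h
  rw [show (datN ((⟨14 + j, by omega⟩ : Fin 91) : ℕ)).2.2.1 = true from (r_flags j).1] at this
  exact Bool.noConfusion this

theorem frL_facts : ∀ (L : List (Fin 8)) (v : ℕ), frL L v ∈ W ∧ (frL L v ∈ X ↔ parV (maskL L v) = false)
  | [], v => ⟨one_mem _, iff_of_true (one_mem _) (by simp [maskL]; decide)⟩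
  | j :: L, v => by
    obtain ⟨h1, h2⟩ := frL_facts L v
    have hj : rP j ∈ W := (dat_W _).2
    simp only [frL, maskL, List.foldr_cons] at h1 h2 ⊢
    cases v.testBit (j : ℕ) with
    | false => exact ⟨h1, h2⟩
    | true =>
      simp only [cond_true]
      refine ⟨mul_mem hj h1, ?_⟩
      rw [X_parity hj h1, parV_xor, (r_flags j).2, h2, iff_false_left (rP_not_X j)]
      cases parV _ <;> simp

theorem frP_W (v : ℕ) : frP v ∈ W := (frL_facts _ v).1

theorem frP_X {v : ℕ} (hv : v < 256) : frP v ∈ X ↔ parV v = false := by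
  have := (frL_facts (List.finRange 8) v).2
  rwa [maskL_all ⟨v, hv⟩] at this

/-- The frame coordinates of a code. -/
def vDec (x : ℕ) : ℕ :=
  (List.range 4).foldr (fun i v =>
    (dig x (2 * i) / 8) * 4 ^ i + ((dig x (2 * i) % 2) ^^^ (dig x (2 * i) / 8)) * 2 * 4 ^ i + v) 0

/-! ### The Sylow 2-subgroup -/

/-- The permutation part of a code of the Sylow subgroup: the image of a coordinate. -/
def tSig (p j : ℕ) : ℕ :=
  2 * ((j / 2 ^^^ (bif p.testBit (4 + j / 4) then 1 else 0)) ^^^ (bif p.testBit 6 then 2 else 0)) +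
    (j % 2 ^^^ (bif p.testBit (j / 2) then 1 else 0))

/-- The even mask with given bits above the lowest. -/
def evM (b : ℕ) : ℕ := 2 * b + (bif parV b then 1 else 0)

theorem mk_congr {f g : ℕ → ℕ} (h : ∀ j : Fin 8, f j = g j) : mk f = mk g := by
  simp only [mk]
  rw [show f 0 = g 0 from h 0, show f 1 = g 1 from h 1, show f 2 = g 2 from h 2, show f 3 = g 3 from h 3,
    show f 4 = g 4 from h 4, show f 5 = g 5 from h 5, show f 6 = g 6 from h 6, show f 7 = g 7 from h 7]

/-- The code of an index. -/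
def cT (n : ℕ) : ℕ := mk fun j => tSig (n / 128) j % 8 + bif (evM (n % 128)).testBit j then 8 else 0

theorem dig_cT (n : ℕ) (j : Fin 8) :
    dig (cT n) j = tSig (n / 128) j % 8 + bif (evM (n % 128)).testBit j then 8 else 0 :=
  dig_mk _ (fun k => by
    have : tSig (n / 128) k % 8 < 8 := Nat.mod_lt _ (by norm_num)
    cases (evM (n % 128)).testBit k <;> simp <;> omega) j

theorem dig_cT_perm (n : ℕ) (j : Fin 8) : dig (cT n) j % 8 = tSig (n / 128) j % 8 := by
  rw [dig_cT]
  cases (evM (n % 128)).testBit j <;> simp <;> omega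

theorem dig_cT_sign (n : ℕ) (j : Fin 8) : dig (cT n) j / 8 = bif (evM (n % 128)).testBit j then 1 else 0 := by
  have : tSig (n / 128) j % 8 < 8 := Nat.mod_lt _ (by norm_num)
  rw [dig_cT]
  cases (evM (n % 128)).testBit j <;> simp <;> omega

/-- The permutation index from the images of coordinates. -/
def pDec (d : ℕ → ℕ) : ℕ :=
  d 0 % 2 + 2 * (d 2 % 2) + 4 * (d 4 % 2) + 8 * (d 6 % 2) + 16 * (d 0 / 2 % 2) + 32 * (d 4 / 2 % 2) +
    64 * (d 0 / 4 % 2)

/-- The index of a code. -/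
def decT (x : ℕ) : ℕ :=
  128 * pDec (fun j => dig x j % 8) + ((List.range 7).foldr (fun j m => dig x (j + 1) / 8 * 2 ^ j + m) 0)

theorem sig_full : ∀ p : Fin 128, ∀ k : Fin 8, ∃ j : Fin 8, tSig p j % 8 = k := by decide +kernel

theorem cT_full {n : ℕ} (hn : n < 16384) : Full (cT n) := fun k => by
  obtain ⟨j, hj⟩ := sig_full ⟨n / 128, by omega⟩ k
  exact ⟨j, (dig_cT_perm n j).trans hj⟩

theorem pDec_sig : ∀ p : Fin 128, pDec (fun j => tSig p j % 8) = p := by decide +kernel

theorem evM_dec : ∀ b : Fin 128,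
    (List.range 7).foldr (fun j m => (bif (evM b).testBit (j + 1) then 1 else 0) * 2 ^ j + m) 0 = (b : ℕ) ∧ evM b < 256 := by
  decide +kernel

theorem decT_cT {n : ℕ} (hn : n < 16384) : decT (cT n) = n := by
  have h1 : pDec (fun j => tSig (n / 128) j % 8) = n / 128 := pDec_sig ⟨n / 128, by omega⟩
  have h2 : (List.range 7).foldr (fun j m => (bif (evM (n % 128)).testBit (j + 1) then 1 else 0) * 2 ^ j + m) 0 =
    n % 128 := (evM_dec ⟨n % 128, Nat.mod_lt _ (by norm_num)⟩).1
  simp only [pDec] at h1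
  simp only [List.range, List.range.loop, List.foldr] at h2
  simp only [decT, pDec, List.range, List.range.loop, List.foldr]
  rw [show dig (cT n) 0 % 8 = _ from dig_cT_perm n 0, show dig (cT n) 2 % 8 = _ from dig_cT_perm n 2,
    show dig (cT n) 4 % 8 = _ from dig_cT_perm n 4, show dig (cT n) 6 % 8 = _ from dig_cT_perm n 6]
  rw [show dig (cT n) (0 + 1) / 8 = _ from dig_cT_sign n 1, show dig (cT n) (1 + 1) / 8 = _ from dig_cT_sign n 2,
    show dig (cT n) (2 + 1) / 8 = _ from dig_cT_sign n 3, show dig (cT n) (3 + 1) / 8 = _ from dig_cT_sign n 4,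
    show dig (cT n) (4 + 1) / 8 = _ from dig_cT_sign n 5, show dig (cT n) (5 + 1) / 8 = _ from dig_cT_sign n 6,
    show dig (cT n) (6 + 1) / 8 = _ from dig_cT_sign n 7]
  exact (congrArg₂ (fun a b => 128 * a + b) h1 h2).trans (Nat.div_add_mod n 128)

theorem decT_congr {x y : ℕ} (h : ∀ j : Fin 8, dig x j = dig y j) : decT x = decT y := by
  simp only [decT, pDec, List.range, List.range.loop, List.foldr]
  rw [show dig x 0 = dig y 0 from h 0, show dig x (0 + 1) = dig y (0 + 1) from h 1,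
    show dig x (1 + 1) = dig y (1 + 1) from h 2, show dig x (2 + 1) = dig y (2 + 1) from h 3,
    show dig x (3 + 1) = dig y (3 + 1) from h 4, show dig x (4 + 1) = dig y (4 + 1) from h 5,
    show dig x (5 + 1) = dig y (5 + 1) from h 6, show dig x (6 + 1) = dig y (6 + 1) from h 7]

/-- The parity of an index. -/
def parT (n : ℕ) : Bool := parV (n / 128 % 16)

/-- The new permutation index after a generator. -/
def pNew (k p : ℕ) : ℕ := pDec fun j => dig (cd k) (tSig p j % 8) % 8

/-- The mask added by a generator. -/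
def mNew (k p : ℕ) : ℕ :=
  (List.range 8).foldr (fun j m => dig (cd k) (tSig p j % 8) / 8 * 2 ^ j + m) 0

/-- The index after a generator. -/
def stepT (k n : ℕ) : ℕ := 128 * pNew k (n / 128) + ((n % 128) ^^^ mNew k (n / 128) / 2)

theorem step_facts : ∀ k : Fin 14, ∀ p : Fin 128, pNew k p < 128 ∧ evM (mNew k p / 2) = mNew k p ∧
    mNew k p / 2 < 128 ∧ parV (pNew k p % 16) = (parV ((p : ℕ) % 16) ^^ (datN k).2.2.1) ∧
    ∀ j : Fin 8, dig (cd k) (tSig p j % 8) % 8 = tSig (pNew k p) j % 8 ∧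
      dig (cd k) (tSig p j % 8) / 8 = (bif (mNew k p).testBit j then 1 else 0) := by decide +kernel

theorem evM_xor : ∀ a b : Fin 128, evM ((a : ℕ) ^^^ (b : ℕ)) = evM a ^^^ evM b := by decide +kernel

theorem stepT_lt (k : Fin 14) {n : ℕ} (hn : n < 16384) : stepT k n < 16384 ∧ stepT k n / 128 = pNew k (n / 128) ∧
    stepT k n % 128 = (n % 128) ^^^ mNew k (n / 128) / 2 := by
  obtain ⟨h1, -, h3, -, -⟩ := step_facts k ⟨n / 128, by omega⟩
  simp only at h1 h3
  have h4 : (n % 128) ^^^ mNew k (n / 128) / 2 < 128 :=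
    Nat.xor_lt_two_pow (n := 7) (by norm_num; omega) (by norm_num; omega)
  simp only [stepT]
  refine ⟨by omega, by omega, by omega⟩

theorem step_code (k : Fin 14) {n : ℕ} (hn : n < 16384) :
    cT (stepT k n) = cmul (cd k) (cT n) ∧ parT (stepT k n) = (parT n ^^ (datN k).2.2.1) := by
  obtain ⟨-, h2, h3, h4, h5⟩ := step_facts k ⟨n / 128, by omega⟩
  simp only at h2 h3 h4 h5
  obtain ⟨-, e1, e2⟩ := stepT_lt k hn
  refine ⟨?_, by rw [parT, parT, e1, h4]⟩
  have key : ∀ j : Fin 8, tSig (stepT k n / 128) j % 8 + (bif (evM (stepT k n % 128)).testBit j then 8 else 0) =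
      dig (cd k) (dig (cT n) j % 8) ^^^ dig (cT n) j / 8 * 8 := by
    intro j
    obtain ⟨h6, h7⟩ := h5 j
    have hlt := dig_lt (cd k) (tSig (n / 128) j % 8)
    have hb := evM_xor ⟨n % 128, Nat.mod_lt _ (by norm_num)⟩ ⟨mNew k (n / 128) / 2, h3⟩
    simp only at hb
    rw [dig_cT_perm, dig_cT_sign, e1, e2, hb, h2, Nat.testBit_xor, ← h6]
    generalize dig (cd k) (tSig (n / 128) j % 8) = q at hlt h7 ⊢
    cases (evM (n % 128)).testBit j <;> cases hm : (mNew k (n / 128)).testBit j <;> rw [hm] at h7 <;>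
      simp only [cond_true, cond_false] at h7 <;> interval_cases q <;> simp_all (config := { decide := true })
  exact mk_congr key

theorem cT_zero : cT 0 = cOne ∧ parT 0 = false := by decide +kernel

/-- An element has an index. -/
def Idx (n : ℕ) (a : Equiv.Perm (Fin 240)) : Prop :=
  n < 16384 ∧ Has (cT n) a ∧ a ∈ W ∧ (a ∈ X ↔ parT n = false)

/-- A generator of the Sylow subgroup. -/
def tg (k : Fin 14) : Equiv.Perm (Fin 240) := dat ⟨k, by omega⟩

theorem Idx.one : Idx 0 1 :=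
  ⟨by norm_num, cT_zero.1.symm ▸ has_one, one_mem W, iff_of_true (one_mem X) cT_zero.2⟩

theorem Idx.gen_mul (k : Fin 14) {n : ℕ} {a : Equiv.Perm (Fin 240)} (h : Idx n a) :
    Idx (stepT k n) (tg k * a) := by
  obtain ⟨hn, ha, hw, hx⟩ := h
  obtain ⟨h2, h3⟩ := step_code k hn
  have h1 := (stepT_lt k hn).1
  refine ⟨h1, h2.symm ▸ Has.mul (dat_has ⟨k, by omega⟩) ha, mul_mem (dat_W _).2 hw, ?_⟩
  rw [tg, X_parity (dat_W _).2 hw, h3, hx, (dat_W _).1]
  show ((datN k).2.2.1 = false ↔ _) ↔ _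
  cases (datN k).2.2.1 <;> cases parT n <;> simp

theorem Idx.unique {n m : ℕ} {a : Equiv.Perm (Fin 240)} (h : Idx n a) (h' : Idx m a) : n = m := by
  rw [← decT_cT h.1, ← decT_cT h'.1]
  exact decT_congr fun j => h.2.1.dig_eq h'.2.1 j

theorem Idx.ext {n : ℕ} {a b : Equiv.Perm (Fin 240)} (h : Idx n a) (h' : Idx n b) : a = b :=
  Equiv.ext (congrFun (Has.ext (cT_full h.1) h.2.1 h'.2.1))

/-- The Sylow 2-subgroup. -/
def Tg : Subgroup (Equiv.Perm (Fin 240)) := Subgroup.closure (Set.range tg)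

theorem tg_mem (k : Fin 14) : tg k ∈ Tg := Subgroup.subset_closure ⟨k, rfl⟩

theorem Tg_idx {a : Equiv.Perm (Fin 240)} (ha : a ∈ Tg) : ∃ n, Idx n a := by
  have h : a ∈ Submonoid.closure (Set.range tg) := by
    rw [← Subgroup.closure_toSubmonoid_of_finite]; exact ha
  induction h using Submonoid.closure_induction_left with
  | one => exact ⟨0, Idx.one⟩
  | mul_left x hx y hy ih =>
    obtain ⟨k, rfl⟩ := hx
    obtain ⟨n, hn⟩ := ih (by
      have : y ∈ (Subgroup.closure (Set.range tg)).toSubmonoid := by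
        rw [Subgroup.closure_toSubmonoid_of_finite]; exact hy
      exact this)
    exact ⟨_, Idx.gen_mul k hn⟩

theorem Tg_W {a : Equiv.Perm (Fin 240)} (ha : a ∈ Tg) : a ∈ W := (Tg_idx ha).choose_spec.2.2.1

theorem descend_perm : ∀ p : Fin 128, (p : ℕ) ≠ 0 → ∃ k : Fin 14,
    stepT k (128 * p) < 128 * p ∧ stepT k (128 * p) % 128 = 0 ∧ stepT k (stepT k (128 * p)) = 128 * p := by
  decide +kernel

theorem descend_sign : ∀ b : Fin 128, (b : ℕ) ≠ 0 → ∃ k : Fin 14,
    stepT k b < b ∧ stepT k (stepT k b) = b := by decide +kernel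

theorem exists_idx_perm : ∀ {p : ℕ}, p < 128 → ∃ a ∈ Tg, Idx (128 * p) a := by
  intro p
  induction p using Nat.strong_induction_on with
  | _ p ih =>
    intro hp
    by_cases h0 : p = 0
    · subst h0; exact ⟨1, one_mem _, Idx.one⟩
    obtain ⟨k, h1, h2, h3⟩ := descend_perm ⟨p, hp⟩ h0
    simp only at h1 h2 h3
    obtain ⟨a, ha, hi⟩ := ih (stepT k (128 * p) / 128) (by omega) (by omega)
    rw [show 128 * (stepT k (128 * p) / 128) = stepT k (128 * p) by omega] at hi
    exact ⟨tg k * a, mul_mem (tg_mem _) ha, h3 ▸ Idx.gen_mul k hi⟩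

theorem exists_idx_sign : ∀ {b : ℕ}, b < 128 → ∃ a ∈ Tg, Idx b a := by
  intro b
  induction b using Nat.strong_induction_on with
  | _ b ih =>
    intro hb
    by_cases h0 : b = 0
    · subst h0; exact ⟨1, one_mem _, Idx.one⟩
    obtain ⟨k, h1, h3⟩ := descend_sign ⟨b, hb⟩ h0
    simp only at h1 h3
    obtain ⟨a, ha, hi⟩ := ih _ h1 (lt_trans h1 hb)
    exact ⟨tg k * a, mul_mem (tg_mem _) ha, h3 ▸ Idx.gen_mul k hi⟩

theorem sig_zero : ∀ j : Fin 8, tSig 0 j % 8 = j ∧ (evM 0).testBit j = false := by decide +kernel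

theorem exists_idx {n : ℕ} (hn : n < 16384) : ∃ a ∈ Tg, Idx n a := by
  obtain ⟨a, ha, hi⟩ := exists_idx_perm (show n / 128 < 128 by omega)
  obtain ⟨b, hb, hj⟩ := exists_idx_sign (show n % 128 < 128 by omega)
  refine ⟨a * b, mul_mem ha hb, hn, ?_, mul_mem hi.2.2.1 hj.2.2.1, ?_⟩
  · have h := Has.mul hi.2.1 hj.2.1
    have key : cT n = cmul (cT (128 * (n / 128))) (cT (n % 128)) := mk_congr fun j => by
      obtain ⟨z1, z2⟩ := sig_zero j
      show _ = dig (cT (128 * (n / 128))) (dig (cT (n % 128)) j % 8) ^^^ dig (cT (n % 128)) j / 8 * 8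
      rw [dig_cT_perm, dig_cT_sign, Nat.mod_mod, show n % 128 / 128 = 0 by omega, z1, dig_cT,
        show 128 * (n / 128) / 128 = n / 128 by omega, show 128 * (n / 128) % 128 = 0 by omega, z2]
      have : tSig (n / 128) j % 8 < 8 := Nat.mod_lt _ (by norm_num)
      generalize tSig (n / 128) j % 8 = q at this
      cases (evM (n % 128)).testBit j <;> interval_cases q <;> decide
    exact key ▸ h
  · rw [X_parity hi.2.2.1 hj.2.2.1, hi.2.2.2, hj.2.2.2]
    simp only [parT, show 128 * (n / 128) / 128 = n / 128 by omega, show n % 128 / 128 = 0 by omega]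
    simp [parV]

theorem card_Tg : Nat.card Tg = 16384 := by
  choose f hf using fun a : Tg => Tg_idx a.2
  rw [← Nat.card_fin 16384]
  refine Nat.card_eq_of_bijective (fun a : Tg => (⟨f a, (hf a).1⟩ : Fin 16384)) ⟨fun a b h => ?_, fun n => ?_⟩
  · have hb := hf b
    rw [← show f a = f b from congrArg Fin.val h] at hb
    exact Subtype.ext ((hf a).ext hb)
  · obtain ⟨a, ha, hi⟩ := exists_idx n.2
    exact ⟨⟨a, ha⟩, Fin.ext ((hf ⟨a, ha⟩).unique hi)⟩

theorem Idx.mem_Tg {n : ℕ} {a : Equiv.Perm (Fin 240)} (h : Idx n a) : a ∈ Tg := by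
  obtain ⟨b, hb, hi⟩ := exists_idx h.1
  exact h.ext hi ▸ hb

theorem Idx.mul {n m : ℕ} {a b : Equiv.Perm (Fin 240)} (h : Idx n a) (h' : Idx m b) :
    ∃ k, Idx k (a * b) ∧ ∀ j : Fin 8, dig (cT k) j = dig (cmul (cT n) (cT m)) j := by
  obtain ⟨k, hk⟩ := Tg_idx (mul_mem h.mem_Tg h'.mem_Tg)
  exact ⟨k, hk, fun j => hk.2.1.dig_eq (h.2.1.mul h'.2.1) j⟩

theorem rfx_mem_Tg : rfx ∈ Tg := by
  have h : cT (decT (cd 15)) = cd 15 ∧ decT (cd 15) < 16384 := by decide +kernel
  obtain ⟨a, ha, hi⟩ := exists_idx h.2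
  have e : a = rfx := Equiv.ext (congrFun (Has.ext (cd_full 15) (h.1 ▸ hi.2.1) (dat_has 15)))
  exact e ▸ ha

/-- A 2-subgroup of the full group is conjugate into the Sylow subgroup by the cover. -/
theorem conj_into_Tg {B : Subgroup (Equiv.Perm (Fin 240))} (hB : B ≤ W) (h2 : IsPGroup 2 B) :
    ∃ x ∈ X, ∀ b ∈ B, x * b * x⁻¹ ∈ Tg := by
  haveI : Fact (Nat.Prime 2) := ⟨Nat.prime_two⟩
  have hTW : Tg ≤ W := fun a => Tg_W
  have hcard : Nat.card (Tg.subgroupOf W) = 2 ^ 14 := by
    rw [Nat.card_congr (Subgroup.subgroupOfEquivOfLe hTW).toEquiv, card_Tg]; norm_num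
  have hidx : ¬ 2 ∣ (Tg.subgroupOf W).index := by
    have h := Subgroup.card_mul_index (Tg.subgroupOf W)
    rw [hcard, card_W] at h
    norm_num at h
    omega
  let S : Sylow 2 W := (IsPGroup.of_card hcard).toSylow hidx
  obtain ⟨P, hP⟩ := (h2.of_equiv (Subgroup.subgroupOfEquivOfLe hB).symm).exists_le_sylow
  obtain ⟨w, hw⟩ := MulAction.exists_smul_eq W P S
  have key : ∀ b ∈ B, (w : Equiv.Perm (Fin 240)) * b * (w : Equiv.Perm (Fin 240))⁻¹ ∈ Tg := by
    intro b hb
    have hm : MulAut.conj w • (⟨b, hB hb⟩ : W) ∈ ((w • P : Sylow 2 W) : Subgroup W) := by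
      rw [Sylow.coe_subgroup_smul]
      exact Subgroup.smul_mem_pointwise_smul _ _ _ (hP (show (⟨b, hB hb⟩ : W) ∈ B.subgroupOf W from hb))
    rw [hw] at hm
    exact hm
  rcases w.2 with hx | hx
  · exact ⟨_, hx, key⟩
  · refine ⟨_, hx, fun b hb => ?_⟩
    rw [mul_inv_rev, rfx_inv, show rfx * (w : Equiv.Perm (Fin 240)) * b * ((w : Equiv.Perm (Fin 240))⁻¹ * rfx) =
      rfx * ((w : Equiv.Perm (Fin 240)) * b * (w : Equiv.Perm (Fin 240))⁻¹) * rfx by simp only [mul_assoc]]
    exact mul_mem (mul_mem rfx_mem_Tg (key b hb)) rfx_mem_Tg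

end Cfsg.Agent.Spor.EightPlusStd
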