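import Cfsg.Agent.Lib.Spor.EightPlusStandard.Model
import Cfsg.Agent.Lib.Spor.EightPlusStandard.DataTwin
import Cfsg.Agent.Lib.Solv.Universal
import Cfsg.Agent.S0817

/-!
The full group of the root system, the twin automorphism of the simple group, and the automorphisms of the double
cover: every automorphism of the cover is conjugation in the full group of the root system.
-/

set_option autoImplicit false
set_option maxRecDepth 100000
set_option maxHeartbeats 400000
set_option Elab.async false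

noncomputable section

namespace Cfsg.Agent.Spor.EightPlusStd

open Cfsg.Agent.Lie Cfsg.Agent.Lie.PermCover Cfsg.Agent.Lie.OEightTwoMult
open Cfsg.Agent.Lie.PermNine (pg pmul)

theorem rfx_mul_self : rfx * rfx = 1 := Equiv.ext rfx_sq

theorem rfx_inv : rfx⁻¹ = rfx := inv_eq_of_mul_eq_one_right rfx_mul_self

theorem rfx_cancel (a : Equiv.Perm (Fin 240)) : rfx * (rfx * a) = a := by rw [← mul_assoc, rfx_mul_self, one_mul]

/-! ### The reflection normalises the cover -/

/-- The pairs under the reflection. -/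
def rfxP : Equiv.Perm (Fin 120) :=
  have h : ∀ p : Fin 120, pairF (rfx (firstR (pairF (rfx (firstR p))))) = p := by decide +kernel
  ⟨fun p => pairF (rfx (firstR p)), fun p => pairF (rfx (firstR p)), h, h⟩

theorem rfxP_val : ∀ p : Fin 120, (rfxP p : ℕ) = pg (pairT (datN 15).1) p := by decide +kernel

theorem over_rfx : Over rfx rfxP := dat_over 15 rfxP_val

theorem conj_gen_sifts : ∀ s : Fin 4,
    sifts chainE (Dat.reflConjJ.getD s []) (pmul 120 (pairT (datN 15).1) (pmul 120 (baseP.getD s 0) (pairT (datN 15).1))) = true ∧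
    ∀ k : Fin 120, pg (baseP.getD s 0) k < 120 := by
  decide +kernel

theorem rep_lt {p : ℕ} {g : Q} (h : PermNine.Rep phi g p) (k : ℕ) (hk : k < 120) : pg p k < 120 :=
  h ⟨k, hk⟩ ▸ (phi g ⟨k, hk⟩).2

theorem rfxP_norm (g : Q) : ∃ h : Q, phi h = rfxP * phi g * rfxP := by
  have hsq : rfxP * rfxP = 1 := Equiv.ext fun p => rfxP.left_inv p
  let H : Subgroup Q := ((phi.range).comap ((MulAut.conj rfxP).toMonoidHom.comp phi))
  have hH : H = ⊤ := by
    rw [eq_top_iff, ← qgen_top, Subgroup.closure_le]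
    rintro _ ⟨s, rfl⟩
    have hb := fun k hk => rep_lt (qgen_rep s) k hk
    obtain ⟨h1, -⟩ := conj_gen_sifts s
    have hr : ∀ k < 120, pg (pairT (datN 15).1) k < 120 := fun k hk =>
      rfxP_val ⟨k, hk⟩ ▸ (rfxP ⟨k, hk⟩).2
    obtain ⟨u, hu⟩ := sifts_sound chainE (fun _ h => h) _ _ (fun k hk => by
      rw [PermNine.pg_pmul _ _ hk, PermNine.pg_pmul _ _ hk]; exact hr _ (hb _ (hr k hk))) h1
    refine ⟨u, Equiv.ext fun k => Fin.ext ?_⟩
    show (phi u k : ℕ) = ((rfxP * phi (qgen s) * rfxP⁻¹) k : Fin 120)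
    rw [inv_eq_of_mul_eq_one_right hsq, Equiv.Perm.mul_apply, Equiv.Perm.mul_apply, hu,
      PermNine.pg_pmul _ _ k.2, PermNine.pg_pmul _ _ k.2, rfxP_val, qgen_rep s, rfxP_val]
  obtain ⟨h, hh⟩ := (hH.symm ▸ Subgroup.mem_top g : g ∈ H)
  exact ⟨h, hh.trans (by show rfxP * phi g * rfxP⁻¹ = _; rw [inv_eq_of_mul_eq_one_right hsq])⟩

theorem rfx_norm {a : Equiv.Perm (Fin 240)} (ha : a ∈ X) : rfx * a * rfx ∈ X := by
  obtain ⟨g, hg⟩ := ha
  obtain ⟨h, hh⟩ := rfxP_norm g
  exact ⟨h, hh ▸ over_mul (over_mul over_rfx hg) over_rfx⟩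

/-! ### The full group -/

/-- The full group of the root system. -/
def W : Subgroup (Equiv.Perm (Fin 240)) where
  carrier := {a | a ∈ X ∨ rfx * a ∈ X}
  one_mem' := Or.inl (one_mem X)
  mul_mem' := fun {a b} ha hb => by
    rcases ha with ha | ha <;> rcases hb with hb | hb
    · exact Or.inl (mul_mem ha hb)
    · refine Or.inr ?_
      rw [show rfx * (a * b) = rfx * a * rfx * (rfx * b) by rw [mul_assoc (rfx * a), rfx_cancel, mul_assoc]]
      exact mul_mem (rfx_norm ha) hb
    · exact Or.inr (by rw [← mul_assoc]; exact mul_mem ha hb)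
    · refine Or.inl ?_
      rw [show a * b = rfx * (rfx * a) * rfx * (rfx * b) by rw [mul_assoc _ rfx, rfx_cancel, rfx_cancel]]
      exact mul_mem (rfx_norm ha) hb
  inv_mem' := fun {a} ha => by
    rcases ha with ha | ha
    · exact Or.inl (inv_mem ha)
    · refine Or.inr ?_
      rw [show rfx * a⁻¹ = rfx * (rfx * a)⁻¹ * rfx by rw [mul_inv_rev, rfx_inv, mul_assoc, mul_assoc, rfx_mul_self, mul_one]]
      exact rfx_norm (inv_mem ha)

theorem X_le_W {a : Equiv.Perm (Fin 240)} (ha : a ∈ X) : a ∈ W := Or.inl ha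

theorem rfx_mem_W : rfx ∈ W := Or.inr (by rw [rfx_mul_self]; exact one_mem X)

theorem W_cases {a : Equiv.Perm (Fin 240)} (ha : a ∈ W) (h : a ∉ X) : rfx * a ∈ X := ha.resolve_left h

theorem W_conj {w : Equiv.Perm (Fin 240)} (hw : w ∈ W) {a : Equiv.Perm (Fin 240)} (ha : a ∈ X) : w * a * w⁻¹ ∈ X := by
  rcases hw with hw | hw
  · exact mul_mem (mul_mem hw ha) (inv_mem hw)
  · rw [show w * a * w⁻¹ = rfx * (rfx * w * a * (rfx * w)⁻¹) * rfx by
      simp only [mul_inv_rev, rfx_inv, mul_assoc, rfx_cancel, rfx_mul_self, mul_one]]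
    exact rfx_norm (mul_mem (mul_mem hw ha) (inv_mem hw))

theorem X_parity {a b : Equiv.Perm (Fin 240)} (ha : a ∈ W) (hb : b ∈ W) : a * b ∈ X ↔ (a ∈ X ↔ b ∈ X) := by
  by_cases h1 : a ∈ X <;> by_cases h2 : b ∈ X
  · exact iff_of_true (mul_mem h1 h2) (iff_of_true h1 h2)
  · refine iff_of_false (fun h => h2 ?_) (fun h => h2 (h.1 h1))
    simpa using mul_mem (inv_mem h1) h
  · refine iff_of_false (fun h => h1 ?_) (fun h => h1 (h.2 h2))
    simpa using mul_mem h (inv_mem h2)
  · refine iff_of_true ?_ (iff_of_false h1 h2)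
    have e : a * b = rfx * (rfx * a) * rfx * (rfx * b) := by rw [mul_assoc _ rfx, rfx_cancel, rfx_cancel]
    rw [e]
    exact mul_mem (rfx_norm (W_cases ha h1)) (W_cases hb h2)

theorem negP_mem : negP ∈ X := negX.2

theorem dat_W (k : Fin 91) : (dat k ∈ X ↔ (datN k).2.2.1 = false) ∧ dat k ∈ W := by
  have h := dat_cert k
  rw [datCert] at h
  have hr : ∀ p < 120, pg (pairT (datN k).1) p < 120 := fun p hp => by
    have e := (dat_pairs k (firstR ⟨p, hp⟩)).2
    rw [show ((firstR ⟨p, hp⟩ : Fin 240) : ℕ) / 2 = p from Nat.mul_div_cancel_left _ (by norm_num)] at e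
    rw [pg_pairT _ hp, ← e]
    have := (dat k (firstR ⟨p, hp⟩)).2
    omega
  have hk : ∀ i : Fin 240, (pairF (dat k i) : ℕ) = pg (pairT (datN k).1) (pairF i) := fun i => by
    rw [pg_pairT _ (pairF i).2]; exact (dat_pairs k i).2
  cases hc : (datN k).2.2.1 with
  | false =>
    rw [hc] at h
    obtain ⟨g, hg⟩ := sifts_sound chainE (fun _ h => h) _ _ hr h
    have hm : dat k ∈ X := ⟨g, fun i => Fin.ext ((hk i).trans (hg _).symm), fun i => (dat_pairs k i).1, dat_adj k⟩
    exact ⟨iff_of_true hm rfl, Or.inl hm⟩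
  | true =>
    rw [hc] at h
    have hr2 : ∀ p < 120, pg (pairR (datN k).1) p < 120 := fun p hp => by
      rw [pairR, PermNine.pg_pmul _ _ hp]
      exact rfxP_val ⟨_, hr p hp⟩ ▸ (rfxP ⟨_, hr p hp⟩).2
    obtain ⟨g, hg⟩ := sifts_sound chainE (fun _ h => h) _ _ hr2 h
    have hm : rfx * dat k ∈ X := ⟨g, fun i => Fin.ext (by
        rw [Equiv.Perm.mul_apply, over_rfx.1, rfxP_val, hk, hg, pairR, PermNine.pg_pmul _ _ (pairF i).2]),
      fun i => by rw [Equiv.Perm.mul_apply, Equiv.Perm.mul_apply, (dat_pairs k i).1, over_rfx.2.1],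
      fun i j hij => over_rfx.2.2 _ _ (dat_adj k i j hij)⟩
    refine ⟨iff_of_false (fun hx => rfx_not_mem ?_) Bool.noConfusion, Or.inr hm⟩
    simpa using mul_mem hm (inv_mem hx)

/-! ### Centralizers -/

theorem level_one_fix : ∀ p : Fin 120, (∀ e ∈ chainE.tail.flatMap Prod.snd, pg e.1 p = p) → p = 0 := by
  decide +kernel

theorem level_zero_cover : ∀ p : Fin 120, ∃ e ∈ chainE0, pg e.1 0 = p := by decide +kernel

theorem tail_fix : ∀ e ∈ chainE.tail.flatMap Prod.snd, pg e.1 0 = 0 := by decide +kernel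

theorem perm_centre {c : Equiv.Perm (Fin 120)} (h : ∀ g : Q, c * phi g = phi g * c) : c = 1 := by
  have hrep : ∀ l ∈ chainE, ∀ e ∈ l.2, ∀ p : Fin 120, ∀ hp : pg e.1 p < 120,
      (c ⟨_, hp⟩ : ℕ) = pg e.1 (c p) := fun l hl e he p hp => by
    obtain ⟨⟨g, hg⟩, -⟩ := elem_rep hl he
    rw [← show phi g p = ⟨_, hp⟩ from Fin.ext (hg p), ← Equiv.Perm.mul_apply, h, Equiv.Perm.mul_apply, hg]
  have h0 : c 0 = 0 := by
    refine level_one_fix (c 0) fun e he => ?_
    obtain ⟨l, hl, hel⟩ := List.mem_flatMap.1 he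
    have hl' : l ∈ chainE := List.mem_of_mem_tail hl
    have hp : pg e.1 ((0 : Fin 120) : ℕ) < 120 := by
      rw [show ((0 : Fin 120) : ℕ) = 0 from rfl, tail_fix e he]; norm_num
    have := hrep l hl' e hel 0 hp
    rw [show (⟨_, hp⟩ : Fin 120) = 0 from Fin.ext (tail_fix e he)] at this
    exact this.symm
  refine Equiv.ext fun p => ?_
  obtain ⟨e, he, hep⟩ := level_zero_cover p
  have hl : (0, chainE0) ∈ chainE := List.mem_cons_self
  have := hrep (0, chainE0) hl e he 0 (by show pg e.1 0 < 120; rw [hep]; exact p.2)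
  rw [h0] at this
  rw [show (⟨pg e.1 ((0 : Fin 120) : ℕ), _⟩ : Fin 120) = p from Fin.ext hep] at this
  exact Fin.ext (this.trans hep)

theorem W_over {a : Equiv.Perm (Fin 240)} (ha : a ∈ W) : ∃ σ, Over a σ := by
  rcases ha with ⟨g, hg⟩ | ⟨g, hg⟩
  · exact ⟨_, hg⟩
  · exact ⟨rfxP * phi g, rfx_cancel a ▸ over_mul over_rfx hg⟩

theorem W_neg {a : Equiv.Perm (Fin 240)} (ha : a ∈ W) : a * negP = negP * a := by
  obtain ⟨σ, hσ⟩ := W_over ha
  exact Equiv.ext fun i => hσ.2.1 i

/-- An element of the full group acting trivially on the simple group is a sign. -/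
theorem W_centre {a : Equiv.Perm (Fin 240)} (ha : a ∈ W) (h : ∀ x : X, pr ⟨a * x * a⁻¹, W_conj ha x.2⟩ = pr x) :
    a = 1 ∨ a = negP := by
  obtain ⟨σ, hσ⟩ := W_over ha
  have hc : σ = 1 := perm_centre fun g => by
    obtain ⟨x, rfl⟩ := pr_surj g
    have hl := pr_over ⟨a * x * a⁻¹, W_conj ha x.2⟩
    rw [h x] at hl
    have h2 := over_mul hl hσ
    simp only [inv_mul_cancel_right] at h2
    refine Equiv.ext fun p => ?_
    rw [← pairF_first p, ← (over_mul hσ (pr_over x)).1, ← h2.1]
  rw [hc] at hσ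
  exact over_one_cases hσ

theorem W_centre_X {a : Equiv.Perm (Fin 240)} (ha : a ∈ W) (h : ∀ x ∈ X, a * x = x * a) : a = 1 ∨ a = negP :=
  W_centre ha fun x => by
    congr 1
    exact Subtype.ext (show a * (x : Equiv.Perm (Fin 240)) * a⁻¹ = x by rw [h _ x.2, mul_inv_cancel_right])

theorem card_W : Nat.card W = 4 * 174182400 := by
  let f : Bool × X → W := fun z => ⟨(bif z.1 then rfx else 1) * z.2, mul_mem (by
    cases z.1
    · exact one_mem W
    · exact rfx_mem_W) (X_le_W z.2.2)⟩
  have hf : Function.Bijective f := by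
    constructor
    · rintro ⟨b, x⟩ ⟨c, y⟩ e
      have e' : (bif b then rfx else 1) * (x : Equiv.Perm (Fin 240)) = (bif c then rfx else 1) * y :=
        congrArg Subtype.val e
      cases b <;> cases c <;> simp only [cond_true, cond_false, one_mul] at e'
      · exact congrArg _ (Subtype.ext e')
      · refine (rfx_not_mem ?_).elim
        rw [show rfx = (x : Equiv.Perm (Fin 240)) * (y : Equiv.Perm (Fin 240))⁻¹ by rw [e', mul_inv_cancel_right]]
        exact mul_mem x.2 (inv_mem y.2)
      · refine (rfx_not_mem ?_).elim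
        rw [show rfx = (y : Equiv.Perm (Fin 240)) * (x : Equiv.Perm (Fin 240))⁻¹ by rw [← e', mul_inv_cancel_right]]
        exact mul_mem y.2 (inv_mem x.2)
      · exact congrArg _ (Subtype.ext (mul_left_cancel e'))
    · rintro ⟨a, ha | ha⟩
      · exact ⟨(false, ⟨a, ha⟩), Subtype.ext (one_mul a)⟩
      · exact ⟨(true, ⟨rfx * a, ha⟩), Subtype.ext (rfx_cancel a)⟩
  rw [← Nat.card_eq_of_bijective f hf, Nat.card_prod, card_X, Nat.card_eq_fintype_card, Fintype.card_bool]

/-! ### The twin -/

theorem rep_word {φ : Q →* Equiv.Perm (Fin 120)} {xs : Fin 4 → Q} {gs : List ℕ}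
    (h : ∀ s : Fin 4, PermNine.Rep φ (xs s) (gs.getD s 0)) (w : List (Fin 4)) (k : Fin 120) :
    (φ (w.map xs).prod k : ℕ) = imgP gs (w.map Fin.val) k := by
  induction w with
  | nil => rw [List.map_nil, List.prod_nil, map_one]; rfl
  | cons s w ih =>
    rw [List.map_cons, List.prod_cons, map_mul, Equiv.Perm.mul_apply, h, ih]
    rfl

/-- The twin action. -/
theorem exists_psi : ∃ ψ : Q →* Equiv.Perm (Fin 120), ∀ s : Fin 4, PermNine.Rep ψ (qgen s) (twinP.getD s 0) := by
  obtain ⟨xs, ψ, -, h0, h1⟩ := exists_twin phi phi_base card_Q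
  refine ⟨ψ, fun s => ?_⟩
  rw [show qgen s = xs s from phi_inj (Equiv.ext fun k => Fin.ext ((qgen_rep s k).trans (h0 s k).symm))]
  exact h1 s

/-- The twin action, chosen. -/
def psi : Q →* Equiv.Perm (Fin 120) := exists_psi.choose

theorem psi_rep (s : Fin 4) : PermNine.Rep psi (qgen s) (twinP.getD s 0) := exists_psi.choose_spec s

/-- A word for a twin generator. -/
def twinWord (s : Fin 4) : List (Fin 4) := (Dat.twinW.getD s []).map (Fin.ofNat 4)

theorem twinWord_ok : ∀ s : Fin 4, ∀ k : Fin 120,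
    imgP baseP ((twinWord s).map Fin.val) k = pg (twinP.getD s 0) k := by decide +kernel

theorem psi_range (g : Q) : ∃ h, phi h = psi g := by
  have hH : (phi.range.comap psi) = ⊤ := by
    rw [eq_top_iff, ← qgen_top, Subgroup.closure_le]
    rintro _ ⟨s, rfl⟩
    exact ⟨((twinWord s).map qgen).prod, Equiv.ext fun k => Fin.ext (by
      rw [rep_word qgen_rep, twinWord_ok, psi_rep s k])⟩
  exact (hH.symm ▸ Subgroup.mem_top g : g ∈ phi.range.comap psi)

theorem psi_inj : Function.Injective psi := by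
  haveI := Q_simple
  rw [← MonoidHom.ker_eq_bot_iff]
  refine (psi.normal_ker.eq_bot_or_eq_top).resolve_right fun h => ?_
  have h1 := psi_rep 0
  have hne : ∃ k : Fin 120, pg (twinP.getD 0 0) k ≠ k := by decide +kernel
  obtain ⟨k, hk⟩ := hne
  refine hk ?_
  have := h1 k
  rw [show psi (qgen 0) = 1 from MonoidHom.mem_ker.1 (h.symm ▸ Subgroup.mem_top (qgen 0))] at this
  exact this.symm

/-- The twin automorphism as a homomorphism. -/
def tauHom : Q →* Q := MonoidHom.mk' (fun g => (psi_range g).choose) fun a b => phi_inj (by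
  rw [(psi_range (a * b)).choose_spec, map_mul, map_mul, (psi_range a).choose_spec, (psi_range b).choose_spec])

theorem phi_tauHom (g : Q) : phi (tauHom g) = psi g := (psi_range g).choose_spec

/-- The twin automorphism. -/
def tau : Q ≃* Q := MulEquiv.ofBijective tauHom
  (Finite.injective_iff_bijective.1 fun a b h => psi_inj (by rw [← phi_tauHom, ← phi_tauHom, h]))

theorem phi_tau (g : Q) : phi (tau g) = psi g := phi_tauHom g

theorem over_liftB (s : Fin 4) : Over (liftB s) (phi (tau (qgen s))) := by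
  rw [phi_tau]
  exact ⟨fun i => Fin.ext ((liftB_ok s i).2.trans (psi_rep s (pairF i)).symm), fun i => (liftB_ok s i).1, liftB_adj s⟩

/-- The second lifts. -/
def lB (s : Fin 4) : X := ⟨liftB s, _, over_liftB s⟩

theorem pr_lB (s : Fin 4) : pr (lB s) = tau (qgen s) := pr_eq (over_liftB s)

theorem lB_word (w : List (Fin 4)) : (((w.map lB).prod : X) : Equiv.Perm (Fin 240)) = (w.map liftB).prod := by
  induction w with
  | nil => rfl
  | cons s w ih => exact congrArg (liftB s * ·) ih

/-! ### Automorphisms -/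

theorem X_isPerfect : Group.IsPerfect X := Group.isPerfect_def.2 X_perfect

theorem pr_aut (α : X ≃* X) (x : X) (h : pr x = 1) : pr (α x) = 1 := by
  rcases pr_ker h with rfl | rfl
  · rw [map_one, map_one]
  · rcases X_centre (a := α negX) (fun b => by
      obtain ⟨b', rfl⟩ := α.surjective b
      rw [← map_mul, ← map_mul, negX_comm]) with e | e
    · exact (negX_ne (α.injective (e.trans α.map_one.symm))).elim
    · rw [e, pr_neg]

/-- The automorphisms of the simple group that lift to the cover. -/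
def lifting : Subgroup (MulAut Q) where
  carrier := {β | ∃ α : X ≃* X, ∀ x, pr (α x) = β (pr x)}
  one_mem' := ⟨MulEquiv.refl _, fun _ => rfl⟩
  mul_mem' := fun {a b} ⟨α, ha⟩ ⟨α', hb⟩ => ⟨α'.trans α, fun x => (ha _).trans (congrArg a (hb x))⟩
  inv_mem' := fun {a} ⟨α, ha⟩ => ⟨α.symm, fun x => by
    have := ha (α.symm x)
    rw [α.apply_symm_apply] at this
    rw [this]
    exact (a.symm_apply_apply _).symm⟩

/-- Conjugation by an element of the full group. -/
def cW (w : W) : X ≃* X where
  toFun x := ⟨w.1 * x * w.1⁻¹, W_conj w.2 x.2⟩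
  invFun x := ⟨w.1⁻¹ * x * w.1, by simpa using W_conj (inv_mem w.2) x.2⟩
  left_inv x := Subtype.ext (by simp [mul_assoc])
  right_inv x := Subtype.ext (by simp [mul_assoc])
  map_mul' x y := Subtype.ext (by simp [mul_assoc])

/-- The map of the simple group under an automorphism of the cover. -/
def beta (α : X ≃* X) (q : Q) : Q := pr (α (Function.surjInv pr_surj q))

theorem beta_pr (α : X ≃* X) (x : X) : beta α (pr x) = pr (α x) := by
  have := pr_aut α ((Function.surjInv pr_surj (pr x))⁻¹ * x) (by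
    rw [map_mul, map_inv, Function.surjInv_eq pr_surj, inv_mul_cancel])
  rw [map_mul, map_mul, map_inv, map_inv, inv_mul_eq_one] at this
  exact this

theorem exists_beta (α : X ≃* X) : ∃ β : MulAut Q, ∀ x, pr (α x) = β (pr x) := by
  refine ⟨⟨⟨beta α, beta α.symm, fun q => ?_, fun q => ?_⟩, fun a b => ?_⟩, fun x => (beta_pr _ x).symm⟩
  · obtain ⟨x, rfl⟩ := pr_surj q
    rw [beta_pr, beta_pr, MulEquiv.symm_apply_apply]
  · obtain ⟨x, rfl⟩ := pr_surj q
    rw [beta_pr, beta_pr, MulEquiv.apply_symm_apply]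
  · obtain ⟨x, rfl⟩ := pr_surj a
    obtain ⟨y, rfl⟩ := pr_surj b
    show beta α (pr x * pr y) = beta α (pr x) * beta α (pr y)
    rw [← map_mul, beta_pr, beta_pr, beta_pr, map_mul, map_mul]

theorem exists_down (w : W) : ∃ β : MulAut Q, ∀ x, pr (cW w x) = β (pr x) := exists_beta _

/-- The action of the full group on the simple group. -/
def down : W →* MulAut Q := MonoidHom.mk' (fun w => (exists_down w).choose) fun v w => MulEquiv.ext fun q => by
  obtain ⟨x, rfl⟩ := pr_surj q
  rw [← (exists_down (v * w)).choose_spec, MulAut.mul_apply, ← (exists_down w).choose_spec, ← (exists_down v).choose_spec]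
  refine congrArg pr ?_
  exact Subtype.ext (by simp [cW, mul_assoc])

theorem down_spec (w : W) (x : X) : pr (cW w x) = down w (pr x) := (exists_down w).choose_spec x

theorem down_ker {w : W} (h : down w = 1) : (w : Equiv.Perm (Fin 240)) = 1 ∨ (w : Equiv.Perm (Fin 240)) = negP :=
  W_centre w.2 fun x => by
    have := down_spec w x
    rwa [h, MulAut.one_apply] at this

theorem card_down : Nat.card down.range = 2 * 174182400 := by
  have h := Subgroup.card_mul_index down.ker
  rw [Subgroup.index_ker, card_W] at h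
  have e : (down.ker : Set W) = {1, ⟨negP, X_le_W negP_mem⟩} := by
    ext w
    refine ⟨fun hw => ?_, fun hw => ?_⟩
    · rcases down_ker hw with e | e
      exacts [Or.inl (Subtype.ext e), Or.inr (Subtype.ext e)]
    · rcases hw with rfl | rfl
      · exact one_mem _
      refine MulEquiv.ext fun q => ?_
      obtain ⟨x, rfl⟩ := pr_surj q
      rw [← down_spec, MulAut.one_apply]
      congr 1
      refine Subtype.ext ?_
      show negP * (x : Equiv.Perm (Fin 240)) * negP⁻¹ = x
      rw [← W_neg (X_le_W x.2), mul_inv_cancel_right]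
  have h2 : Nat.card down.ker = 2 := by
    have h2 := Set.ncard_pair (show (1 : W) ≠ ⟨negP, X_le_W negP_mem⟩ from fun h => negP_ne (congrArg Subtype.val h).symm)
    rwa [← e, ← Nat.card_coe_set_eq] at h2
  rw [h2] at h
  omega

theorem card_aut : Nat.card (MulAut Q) = 3 * (2 * 174182400) := by
  haveI : Fact (Nat.Prime 2) := ⟨Nat.prime_two⟩
  have h := Cfsg.Agent.S0817.result (F := ZMod 2) 2 1 le_rfl (by rw [pow_one, ZMod.card]) 4 le_rfl
  rw [if_pos rfl, if_pos rfl, card_Q] at h
  exact h.trans (by norm_num)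

theorem down_le : down.range ≤ lifting := by
  rintro _ ⟨w, rfl⟩
  exact ⟨cW w, down_spec w⟩

theorem word_coe (l : Fin 4 → X) (r : Fin 4 → Equiv.Perm (Fin 240))
    (hl : ∀ s, ((l s : X) : Equiv.Perm (Fin 240)) = r s) (w : List (Fin 4)) :
    (((w.map l).prod : X) : Equiv.Perm (Fin 240)) = (w.map r).prod := by
  induction w with
  | nil => rfl
  | cons s w ih => rw [List.map_cons, List.map_cons, List.prod_cons, List.prod_cons, Subgroup.coe_mul, hl, ih]

theorem word_commute (l : Fin 4 → X) (r : Fin 4 → Equiv.Perm (Fin 240))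
    (hl : ∀ s, ((l s : X) : Equiv.Perm (Fin 240)) = r s) (u v : List (Fin 4))
    (h : ∀ i, ((u.map r).prod * (v.map r).prod) i = ((v.map r).prod * (u.map r).prod) i) :
    (u.map l).prod * (v.map l).prod = (v.map l).prod * (u.map l).prod := by
  apply Subtype.ext
  rw [Subgroup.coe_mul, Subgroup.coe_mul, word_coe l r hl, word_coe l r hl]
  exact Equiv.ext h

theorem word_negate (l : Fin 4 → X) (r : Fin 4 → Equiv.Perm (Fin 240))
    (hl : ∀ s, ((l s : X) : Equiv.Perm (Fin 240)) = r s) (u v : List (Fin 4))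
    (h : ∀ i, ((u.map r).prod * (v.map r).prod) i = (negP * ((v.map r).prod * (u.map r).prod)) i) :
    (u.map l).prod * (v.map l).prod = negX * ((v.map l).prod * (u.map l).prod) := by
  apply Subtype.ext
  rw [Subgroup.coe_mul, Subgroup.coe_mul, Subgroup.coe_mul, word_coe l r hl, word_coe l r hl]
  exact Equiv.ext h

theorem lA_coe (s : Fin 4) : ((lA s : X) : Equiv.Perm (Fin 240)) = liftA s := rfl

theorem lB_coe (s : Fin 4) : ((lB s : X) : Equiv.Perm (Fin 240)) = liftB s := rfl

theorem pr_word (α : X ≃* X) (hα : ∀ x, pr (α x) = tau (pr x)) (u : List (Fin 4)) :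
    ∃ c : X, (∀ b : X, b * c = c * b) ∧ α (u.map lA).prod = c * (u.map lB).prod := by
  refine ⟨α (u.map lA).prod * ((u.map lB).prod)⁻¹, ?_, by group⟩
  have hk : pr (α (u.map lA).prod * ((u.map lB).prod)⁻¹) = 1 := by
    rw [map_mul, map_inv, hα, mul_inv_eq_one, map_list_prod, map_list_prod, map_list_prod, List.map_map,
      List.map_map, List.map_map]
    refine congrArg List.prod (List.map_congr_left fun s _ => ?_)
    simp [pr_lA, pr_lB]
  rcases pr_ker hk with e | e <;> rw [e]
  · exact fun b => by rw [mul_one, one_mul]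
  · exact negX_comm

theorem not_lift_words (α : X ≃* X) (hα : ∀ x, pr (α x) = tau (pr x)) (u v : List (Fin 4))
    (hA : (u.map lA).prod * (v.map lA).prod = (v.map lA).prod * (u.map lA).prod)
    (hB : (u.map lB).prod * (v.map lB).prod = negX * ((v.map lB).prod * (u.map lB).prod)) : False := by
  obtain ⟨c, hc, h1⟩ := pr_word α hα u
  obtain ⟨d, hd, h2⟩ := pr_word α hα v
  have e := congrArg α hA
  rw [map_mul, map_mul, h1, h2] at e
  generalize (u.map lB).prod = P at e hB
  generalize (v.map lB).prod = R at e hB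
  have e' : P * R = R * P := mul_left_cancel (a := c * d) (by
    calc c * d * (P * R) = c * (d * P) * R := by group
      _ = c * (P * d) * R := by rw [hd P]
      _ = c * P * (d * R) := by group
      _ = d * R * (c * P) := e
      _ = d * (R * c) * P := by group
      _ = d * (c * R) * P := by rw [hc R]
      _ = d * c * (R * P) := by group
      _ = c * d * (R * P) := by rw [hd c])
  exact negX_ne (mul_right_cancel (b := R * P) (by rw [one_mul, ← hB, e']))

theorem tau_not_lifting : tau ∉ lifting := fun ⟨α, hα⟩ =>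
  not_lift_words α hα pairX01 pairY01 (word_commute lA liftA lA_coe _ _ xy_two.1)
    (word_negate lB liftB lB_coe _ _ xy_two.2)

theorem lifting_eq : lifting = down.range := by
  refine le_antisymm ?_ down_le
  have h1 := Subgroup.card_dvd_of_le down_le
  have h2 := Subgroup.card_subgroup_dvd_card lifting
  rw [card_down] at h1
  rw [card_aut] at h2
  obtain ⟨m, hm⟩ := h1
  rw [hm, mul_comm 3] at h2
  have h3 : m ∣ 3 := Nat.dvd_of_mul_dvd_mul_left (by norm_num) h2
  rcases (Nat.dvd_prime (by norm_num)).1 h3 with rfl | rfl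
  · exact (Subgroup.eq_of_le_of_card_ge down_le (by rw [hm, card_down, mul_one])).ge
  · exfalso
    have htop : lifting = ⊤ := (Subgroup.card_eq_iff_eq_top _).1 (by rw [hm, card_aut, mul_comm])
    exact tau_not_lifting (htop ▸ Subgroup.mem_top _)

/-- Every automorphism of the cover is conjugation in the full group of the root system. -/
theorem aut_X (α : X ≃* X) : ∃ w : Equiv.Perm (Fin 240), w ∈ W ∧ ∀ x : X, (α x : Equiv.Perm (Fin 240)) = w * x * w⁻¹ := by
  obtain ⟨β, hβ⟩ := exists_beta α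
  obtain ⟨w, hw⟩ : β ∈ down.range := lifting_eq ▸ (⟨α, hβ⟩ : β ∈ lifting)
  refine ⟨w, w.2, fun x => ?_⟩
  have e : α.toMonoidHom = (cW w).toMonoidHom :=
    Solv.hom_unique_of_perfect X_isPerfect pr pr_stem.2.1 (MonoidHom.ext fun y => by
      show pr (α y) = pr (cW w y)
      rw [hβ, down_spec, hw])
  exact congrArg Subtype.val (DFunLike.congr_fun e x)

end Cfsg.Agent.Spor.EightPlusStd
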